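import Mathlib

/-!
# The centralizer of an element of `GL_n(q)` of prime order `r` with `q` of order `n` mod `r`
-/

set_option autoImplicit false
set_option linter.unusedSectionVars false
set_option linter.style.haveILetI false

namespace Cfsg.Agent.H12.Singer

open Polynomial Matrix

variable {F : Type*} [Field F] [Fintype F] {p q : ℕ} [hp : Fact p.Prime] [CharP F p]
  {n r : ℕ}

/-- the cyclotomic cofactor. -/
noncomputable def Phi (F : Type*) [Field F] (r : ℕ) : F[X] := ∑ i ∈ Finset.range r, X ^ i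

theorem X_sub_one_mul_Phi (r : ℕ) : (X - 1 : F[X]) * Phi F r = X ^ r - 1 := by
  rw [Phi, mul_comm]
  exact geom_sum_mul X r

/-- An irreducible factor of `Φ` has degree a multiple of `n`. -/
theorem dvd_natDegree_of_dvd_Phi (hF : Fintype.card F = q) (hn : 1 ≤ n) (hr : r.Prime) (hrp : r ≠ p)
    (hi : orderOf (q : ZMod r) = n) (g : F[X]) (hg : Irreducible g) (hgΦ : g ∣ Phi F r) :
    n ∣ g.natDegree := by
  classical
  haveI : Fact (Irreducible g) := ⟨hg⟩
  haveI : Fact r.Prime := ⟨hr⟩
  set E := AdjoinRoot g with hE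
  set ζ : E := AdjoinRoot.root g with hζ
  haveI : Module.Finite F E := (AdjoinRoot.powerBasis hg.ne_zero).finite
  haveI : Finite E := Module.finite_of_finite F
  letI : Fintype E := Fintype.ofFinite E
  have hcard : Fintype.card E = q ^ g.natDegree := by
    have h1 := Module.card_eq_pow_finrank (K := F) (V := E)
    rw [h1, hF, (AdjoinRoot.powerBasis hg.ne_zero).finrank]
    simp
  have hΦζ : aeval ζ (Phi F r) = 0 := by
    obtain ⟨t, ht⟩ := hgΦ
    rw [ht, map_mul]
    have : aeval ζ g = 0 := by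
      rw [hζ, AdjoinRoot.aeval_eq, AdjoinRoot.mk_self]
    rw [this, zero_mul]
  have h1 : ζ ^ r = 1 := by
    have h2 := congrArg (aeval ζ) (X_sub_one_mul_Phi (F := F) r)
    rw [map_mul, hΦζ, mul_zero] at h2
    simp only [map_sub, map_pow, aeval_X, map_one] at h2
    exact (sub_eq_zero.1 h2.symm)
  have hne : ζ ≠ 1 := by
    intro h2
    rw [h2] at hΦζ
    simp only [Phi, map_sum, map_pow, aeval_X, one_pow, Finset.sum_const, Finset.card_range,
      nsmul_eq_mul, mul_one] at hΦζ
    have h3 : algebraMap F E (r : F) = 0 := by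
      rw [map_natCast]
      exact hΦζ
    have h4 : (r : F) = 0 := (map_eq_zero _).1 h3
    have h5 : p ∣ r := (CharP.cast_eq_zero_iff F p r).1 h4
    exact hrp ((Nat.prime_dvd_prime_iff_eq hp.out hr).1 h5).symm
  have h6 : orderOf ζ = r := orderOf_eq_prime h1 hne
  have hζ0 : ζ ≠ 0 := by
    intro h0
    rw [h0, zero_pow hr.ne_zero] at h1
    exact zero_ne_one h1
  have h7 : ζ ^ (Fintype.card E - 1) = 1 := FiniteField.pow_card_sub_one_eq_one ζ hζ0
  have h8 : r ∣ Fintype.card E - 1 := h6 ▸ orderOf_dvd_of_pow_eq_one h7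
  rw [hcard] at h8
  have h9 : (q : ZMod r) ^ g.natDegree = 1 := by
    have h10 : ((q ^ g.natDegree - 1 : ℕ) : ZMod r) = 0 := (ZMod.natCast_eq_zero_iff _ _).2 h8
    have hq0 : 1 ≤ q ^ g.natDegree := by
      rw [← hcard]
      exact Fintype.card_pos
    rw [Nat.cast_sub hq0, sub_eq_zero] at h10
    simpa using h10
  rw [← hi]
  exact orderOf_dvd_of_pow_eq_one h9

/-- the minimal polynomial of `x` is irreducible of degree `n`. -/
theorem minpoly_irreducible (hF : Fintype.card F = q) (hn : 1 ≤ n) (hr : r.Prime) (hrp : r ≠ p)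
    (hi : orderOf (q : ZMod r) = n) (x : GL (Fin n) F) (hx : orderOf x = r) :
    Irreducible (minpoly F (x : Matrix (Fin n) (Fin n) F)) ∧
      (minpoly F (x : Matrix (Fin n) (Fin n) F)).natDegree = n := by
  classical
  set M := (x : Matrix (Fin n) (Fin n) F) with hM
  have hMr : M ^ r = 1 := by
    have := pow_orderOf_eq_one x
    rw [hx] at this
    have h2 := congrArg Units.val this
    simpa using h2
  have hint : IsIntegral F M := IsIntegral.of_finite F M
  set μ := minpoly F M with hμ
  have hμ0 : μ ≠ 0 := minpoly.ne_zero hint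
  have hμm : μ.Monic := minpoly.monic hint
  have hdvd : μ ∣ (X - 1) * Phi F r := by
    rw [X_sub_one_mul_Phi]
    apply minpoly.dvd
    simp [hMr]
  -- a common irreducible factor of `μ` and `Φ`
  obtain ⟨g, hg, hgμ, hgΦ⟩ : ∃ g : F[X], Irreducible g ∧ g ∣ μ ∧ g ∣ Phi F r := by
    by_contra hcon
    push Not at hcon
    have hcop : IsCoprime μ (Phi F r) := by
      rw [EuclideanDomain.gcd_isUnit_iff.symm]
      by_contra hnu
      obtain ⟨g, hg, hgd⟩ := WfDvdMonoid.exists_irreducible_factor hnu (by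
        intro h0
        rw [EuclideanDomain.gcd_eq_zero_iff] at h0
        exact hμ0 h0.1)
      exact hcon g hg (hgd.trans (EuclideanDomain.gcd_dvd_left _ _))
        (hgd.trans (EuclideanDomain.gcd_dvd_right _ _))
    have h3 : μ ∣ (X - 1) := hcop.dvd_of_dvd_mul_right hdvd
    have h4 : M = 1 := by
      have h5 : aeval M (X - 1 : F[X]) = 0 := by
        obtain ⟨t, ht⟩ := h3
        rw [ht, map_mul, minpoly.aeval, zero_mul]
      simp only [map_sub, aeval_X, map_one] at h5
      exact sub_eq_zero.1 h5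
    have h6 : x = 1 := Units.ext h4
    rw [h6, orderOf_one] at hx
    exact hr.one_lt.ne hx
  have h7 := dvd_natDegree_of_dvd_Phi (p := p) hF hn hr hrp hi g hg hgΦ
  have hgdeg : g.natDegree ≠ 0 := hg.natDegree_pos.ne'
  have h8 : n ≤ g.natDegree := Nat.le_of_dvd (Nat.pos_of_ne_zero hgdeg) h7
  have h9 : μ.natDegree ≤ n := by
    have h10 := Polynomial.natDegree_le_of_dvd (Matrix.minpoly_dvd_charpoly M)
      (Matrix.charpoly_monic M).ne_zero
    rw [Matrix.charpoly_natDegree_eq_dim] at h10
    simpa using h10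
  have h11 : g.natDegree ≤ μ.natDegree := Polynomial.natDegree_le_of_dvd hgμ hμ0
  have h12 : μ.natDegree = n := by omega
  refine ⟨?_, h12⟩
  obtain ⟨t, ht⟩ := hgμ
  have htdeg : t.natDegree = 0 := by
    have h13 : μ.natDegree = g.natDegree + t.natDegree := by
      rw [ht, natDegree_mul hg.ne_zero (by
        rintro rfl
        rw [mul_zero] at ht
        exact hμ0 ht)]
    omega
  have htu : IsUnit t := by
    rw [Polynomial.isUnit_iff_degree_eq_zero]
    apply (Polynomial.degree_eq_iff_natDegree_eq _).2 htdeg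
    rintro rfl
    rw [mul_zero] at ht
    exact hμ0 ht
  rw [ht]
  exact (irreducible_mul_isUnit htu).2 hg

theorem centralizer_cyclic (hF : Fintype.card F = q) (hn : 1 ≤ n) (hr : r.Prime) (hrp : r ≠ p)
    (hi : orderOf (q : ZMod r) = n) (x : GL (Fin n) F) (hx : orderOf x = r) :
    IsCyclic ↥(Subgroup.centralizer ({x} : Set (GL (Fin n) F))) ∧
      Nat.card ↥(Subgroup.centralizer ({x} : Set (GL (Fin n) F))) = q ^ n - 1 := by
  classical
  obtain ⟨hirr, hdeg⟩ := minpoly_irreducible (p := p) hF hn hr hrp hi x hx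
  set M := (x : Matrix (Fin n) (Fin n) F) with hM
  set μ := minpoly F M with hμ
  haveI : Fact (Irreducible μ) := ⟨hirr⟩
  haveI : Nonempty (Fin n) := ⟨⟨0, hn⟩⟩
  set E := AdjoinRoot μ with hE
  have hev : ∀ a ∈ Ideal.span {μ}, (aeval M : F[X] →ₐ[F] Matrix (Fin n) (Fin n) F) a = 0 := by
    intro a ha
    obtain ⟨t, rfl⟩ := Ideal.mem_span_singleton'.1 ha
    rw [map_mul, minpoly.aeval, mul_zero]
  let ρ : E →ₐ[F] Matrix (Fin n) (Fin n) F := Ideal.Quotient.liftₐ (Ideal.span {μ}) (aeval M) hev
  have hρmk : ∀ f : F[X], ρ (AdjoinRoot.mk μ f) = aeval M f := fun f => rfl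
  have hρroot : ρ (AdjoinRoot.root μ) = M := by
    have := hρmk X
    rwa [AdjoinRoot.mk_X, aeval_X] at this
  have hρinj : Function.Injective ρ := (ρ : E →+* Matrix (Fin n) (Fin n) F).injective
  haveI : Module.Finite F E := (AdjoinRoot.powerBasis hirr.ne_zero).finite
  haveI : Finite E := Module.finite_of_finite F
  letI : Fintype E := Fintype.ofFinite E
  have hcard : Fintype.card E = q ^ n := by
    have h1 := Module.card_eq_pow_finrank (K := F) (V := E)
    rw [h1, hF, (AdjoinRoot.powerBasis hirr.ne_zero).finrank]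
    simp [hdeg]
  -- commuting with `M` implies commuting with the image of `E`
  have hcomm : ∀ y : Matrix (Fin n) (Fin n) F, y * M = M * y → ∀ a : E, y * ρ a = ρ a * y := by
    intro y hy a
    obtain ⟨f, rfl⟩ := AdjoinRoot.mk_surjective a
    rw [hρmk]
    have h1 : Commute y (aeval M f) := by
      rw [aeval_eq_sum_range]
      apply Commute.sum_right
      intro i _
      exact (Commute.pow_right hy i).smul_right _
    exact h1
  set v : Fin n → F := Pi.single ⟨0, hn⟩ 1 with hv
  have hv0 : v ≠ 0 := by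
    intro h
    have := congrFun h ⟨0, hn⟩
    simp [hv] at this
  let T : E →ₗ[F] (Fin n → F) :=
    { toFun := fun a => ρ a *ᵥ v
      map_add' := fun a b => by rw [map_add, Matrix.add_mulVec]
      map_smul' := fun c a => by
        rw [map_smul, Matrix.smul_mulVec, RingHom.id_apply] }
  have hρinv : ∀ a : E, a ≠ 0 → ρ a⁻¹ * ρ a = 1 := by
    intro a ha
    rw [← map_mul, inv_mul_cancel₀ ha, map_one]
  have hTinj : Function.Injective T := by
    rw [injective_iff_map_eq_zero]
    intro a ha
    by_contra ha0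
    apply hv0
    have h1 : ρ a *ᵥ v = 0 := ha
    have h2 := congrArg (fun w => ρ a⁻¹ *ᵥ w) h1
    simp only [Matrix.mulVec_mulVec, hρinv a ha0, Matrix.one_mulVec, Matrix.mulVec_zero] at h2
    exact h2
  have hTbij : Function.Bijective T := by
    rw [Nat.bijective_iff_injective_and_card]
    refine ⟨hTinj, ?_⟩
    rw [Nat.card_eq_fintype_card, hcard, Nat.card_fun, Nat.card_eq_fintype_card, hF]
    simp
  -- the homomorphism
  have hmem : ∀ u : Eˣ, Units.map (ρ : E →* Matrix (Fin n) (Fin n) F) u ∈ Subgroup.centralizer ({x} : Set (GL (Fin n) F)) := by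
    intro u
    rw [Subgroup.mem_centralizer_singleton_iff]
    apply Units.ext
    show ρ (u : E) * M = M * ρ (u : E)
    rw [← hρroot, ← map_mul, ← map_mul, mul_comm]
  let φ : Eˣ →* ↥(Subgroup.centralizer ({x} : Set (GL (Fin n) F))) :=
    (Units.map (ρ : E →* Matrix (Fin n) (Fin n) F)).codRestrict _ hmem
  have hφinj : Function.Injective φ := by
    intro a b h
    have h1 : ρ (a : E) = ρ (b : E) := by
      have h2 := congrArg (fun z : ↥(Subgroup.centralizer ({x} : Set (GL (Fin n) F))) =>
        ((z : GL (Fin n) F) : Matrix (Fin n) (Fin n) F)) h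
      exact h2
    exact Units.ext (hρinj h1)
  have hφsurj : Function.Surjective φ := by
    rintro ⟨y, hy⟩
    rw [Subgroup.mem_centralizer_singleton_iff] at hy
    have hy' : (y : Matrix (Fin n) (Fin n) F) * M = M * y := by
      have := congrArg Units.val hy
      simp only [Units.val_mul] at this
      exact this
    obtain ⟨a, ha⟩ := hTbij.2 ((y : Matrix (Fin n) (Fin n) F) *ᵥ v)
    have ha' : ρ a *ᵥ v = (y : Matrix (Fin n) (Fin n) F) *ᵥ v := ha
    have hya : (y : Matrix (Fin n) (Fin n) F) = ρ a := by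
      apply Matrix.mulVec_injective
      funext w
      obtain ⟨b, rfl⟩ := hTbij.2 w
      show (y : Matrix (Fin n) (Fin n) F) *ᵥ (ρ b *ᵥ v) = ρ a *ᵥ (ρ b *ᵥ v)
      rw [Matrix.mulVec_mulVec, hcomm _ hy' b, ← Matrix.mulVec_mulVec, ← ha', Matrix.mulVec_mulVec,
        Matrix.mulVec_mulVec, ← map_mul, ← map_mul, mul_comm]
    have ha0 : a ≠ 0 := by
      rintro rfl
      rw [map_zero] at hya
      have h1 : (y : Matrix (Fin n) (Fin n) F) * (y⁻¹ : GL (Fin n) F).val = 1 := by simp
      rw [hya, zero_mul] at h1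
      exact zero_ne_one h1
    refine ⟨Units.mk0 a ha0, ?_⟩
    apply Subtype.ext
    apply Units.ext
    exact hya.symm
  have hbij : Function.Bijective φ := ⟨hφinj, hφsurj⟩
  constructor
  · exact isCyclic_of_surjective φ hφsurj
  · rw [← Nat.card_congr (Equiv.ofBijective φ hbij), Nat.card_eq_fintype_card, Fintype.card_units, hcard]

end Cfsg.Agent.H12.Singer
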