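import Cfsg.Agent.Lib.H12.A5Aut6
import Cfsg.Agent.Lib.H06.CNJ8
import Cfsg.Agent.Lib.H12.AutOrb4

set_option autoImplicit false

namespace Cfsg.Agent.H12.A5

open Subgroup

universe u

variable {G : Type u} [Group G] [Finite G]

open Cfsg.Agent.H12.CA in
lemma phi4_inj {a b c : G} (ha : a ≠ 1) (hb : b ≠ 1) (hc : c ≠ 1) (hab : ∀ σ : G ≃* G, σ a ≠ b)
    (hac : ∀ σ : G ≃* G, σ a ≠ c) (hbc : ∀ σ : G ≃* G, σ b ≠ c) :
    Function.Injective (![omk 1, omk a, omk b, omk c] : Fin 4 → MulAction.orbitRel.Quotient (MulAut G) G) := by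
  have h1a : omk (1 : G) ≠ omk a := by
    intro h
    obtain ⟨σ, hσ⟩ := omk_eq h.symm
    rw [map_one] at hσ
    exact ha hσ.symm
  have h1b : omk (1 : G) ≠ omk b := by
    intro h
    obtain ⟨σ, hσ⟩ := omk_eq h.symm
    rw [map_one] at hσ
    exact hb hσ.symm
  have h1c : omk (1 : G) ≠ omk c := by
    intro h
    obtain ⟨σ, hσ⟩ := omk_eq h.symm
    rw [map_one] at hσ
    exact hc hσ.symm
  have h3 : omk a ≠ omk b := by
    intro h
    obtain ⟨σ, hσ⟩ := omk_eq h.symm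
    exact hab σ hσ
  have h4 : omk a ≠ omk c := by
    intro h
    obtain ⟨σ, hσ⟩ := omk_eq h.symm
    exact hac σ hσ
  have h5 : omk b ≠ omk c := by
    intro h
    obtain ⟨σ, hσ⟩ := omk_eq h.symm
    exact hbc σ hσ
  intro i j hij
  fin_cases i <;> fin_cases j <;> simp_all

open Cfsg.Agent.H12.CA in
lemma orbit_four_all {a b c : G} (h4 : Nat.card (MulAction.orbitRel.Quotient (MulAut G) G) = 4)
    (ha : a ≠ 1) (hb : b ≠ 1) (hc : c ≠ 1) (hab : ∀ σ : G ≃* G, σ a ≠ b)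
    (hac : ∀ σ : G ≃* G, σ a ≠ c) (hbc : ∀ σ : G ≃* G, σ b ≠ c) (x : G) :
    x = 1 ∨ (∃ σ : G ≃* G, σ a = x) ∨ (∃ σ : G ≃* G, σ b = x) ∨ (∃ σ : G ≃* G, σ c = x) := by
  have hinj := phi4_inj ha hb hc hab hac hbc
  have hbij : Function.Bijective (![omk 1, omk a, omk b, omk c] : Fin 4 → MulAction.orbitRel.Quotient (MulAut G) G) := by
    apply hinj.bijective_of_nat_card_le
    simp [h4]
  obtain ⟨i, hi⟩ := hbij.2 (omk x)
  fin_cases i
  · left
    obtain ⟨σ, hσ⟩ := omk_eq (x := x) (c := 1) hi.symm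
    rw [map_one] at hσ
    exact hσ.symm
  · right; left
    exact omk_eq (x := x) (c := a) hi.symm
  · right; right; left
    exact omk_eq (x := x) (c := b) hi.symm
  · right; right; right
    exact omk_eq (x := x) (c := c) hi.symm

lemma three_primes (hns : ¬ Group.IsSolvable G) :
    ∃ p₁ p₂ p₃ : ℕ, p₁.Prime ∧ p₂.Prime ∧ p₃.Prime ∧ p₁ ∣ Nat.card G ∧ p₂ ∣ Nat.card G ∧ p₃ ∣ Nat.card G ∧
      p₁ ≠ p₂ ∧ p₁ ≠ p₃ ∧ p₂ ≠ p₃ := by
  by_contra hcon
  apply hns
  have hN0 : Nat.card G ≠ 0 := Nat.card_pos.ne'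
  have h1 := Nat.factorization_prod_pow_eq_self hN0
  have hle : (Nat.card G).primeFactors.card ≤ 2 := by
    by_contra hgt
    push Not at hgt
    obtain ⟨a, ha, b, hb, c, hc, hab, hac, hbc⟩ := Finset.two_lt_card.mp hgt
    rw [Nat.mem_primeFactors] at ha hb hc
    exact hcon ⟨a, b, c, ha.1, hb.1, hc.1, ha.2.1, hb.2.1, hc.2.1, hab, hac, hbc⟩
  rw [Finsupp.prod, Nat.support_factorization] at h1
  have hcases : (Nat.card G).primeFactors.card = 0 ∨ (Nat.card G).primeFactors.card = 1 ∨ (Nat.card G).primeFactors.card = 2 := by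
    omega
  rcases hcases with h0 | h0 | h0
  · rw [Finset.card_eq_zero] at h0
    rw [h0, Finset.prod_empty] at h1
    exact Cfsg.Agent.Lead.burnside_two_prime 2 3 0 0 Nat.prime_two Nat.prime_three (by rw [← h1]; norm_num)
  · obtain ⟨x, hx⟩ := Finset.card_eq_one.mp h0
    rw [hx, Finset.prod_singleton] at h1
    have hxp : x.Prime := by
      have : x ∈ (Nat.card G).primeFactors := by rw [hx]; simp
      exact (Nat.mem_primeFactors.mp this).1
    exact Cfsg.Agent.Lead.burnside_two_prime x 2 ((Nat.card G).factorization x) 0 hxp Nat.prime_two (by rw [pow_zero, mul_one]; exact h1.symm)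
  · obtain ⟨x, y, hxy, hs⟩ := Finset.card_eq_two.mp h0
    rw [hs, Finset.prod_pair hxy] at h1
    have hxp : x.Prime := by
      have : x ∈ (Nat.card G).primeFactors := by rw [hs]; simp
      exact (Nat.mem_primeFactors.mp this).1
    have hyp : y.Prime := by
      have : y ∈ (Nat.card G).primeFactors := by rw [hs]; simp
      exact (Nat.mem_primeFactors.mp this).1
    exact Cfsg.Agent.Lead.burnside_two_prime x y _ _ hxp hyp h1.symm

/-- From the primes. -/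
theorem from_primes (hns : ¬ Group.IsSolvable G) (H : Hyp G) {p r : ℕ} (hpp : p.Prime) (hrp : r.Prime) (hp2 : p ≠ 2) (hr2 : r ≠ 2) (hpr : p ≠ r)
    (hprime : ∀ l : ℕ, l.Prime → l ∣ Nat.card G → l = 2 ∨ l = p ∨ l = r)
    (hd2 : 2 ∣ Nat.card G) (hdp : p ∣ Nat.card G) (hdr : r ∣ Nat.card G) :
    Nonempty (G ≃* alternatingGroup (Fin 5)) := by
  classical
  haveI : Fintype G := Fintype.ofFinite G
  haveI : Fact p.Prime := ⟨hpp⟩
  haveI : Fact r.Prime := ⟨hrp⟩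
  haveI : Fact (Nat.Prime 2) := ⟨Nat.prime_two⟩
  refine main_core H hp2 hr2 hpr hprime hd2 hdp hdr ?_
  by_contra hnn
  push Not at hnn
  haveI : Subsingleton (Sylow 2 G) := ⟨hnn⟩
  obtain ⟨T⟩ : Nonempty (Sylow 2 G) := inferInstance
  obtain ⟨P⟩ : Nonempty (Sylow p G) := inferInstance
  obtain ⟨R⟩ : Nonempty (Sylow r G) := inferInstance
  haveI hTn : (T : Subgroup G).Normal := Sylow.normal_of_subsingleton T
  have hN := card_factor hp2 hr2 hpr hprime T P R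
  have hquot : Nat.card (G ⧸ (T : Subgroup G)) * Nat.card T = Nat.card G := (T : Subgroup G).index_mul_card
  obtain ⟨α, hα⟩ := IsPGroup.iff_card.mp P.2
  obtain ⟨β, hβ⟩ := IsPGroup.iff_card.mp R.2
  have hq : Nat.card (G ⧸ (T : Subgroup G)) = p ^ α * r ^ β := by
    rw [hN, mul_comm (Nat.card (G ⧸ (T : Subgroup G)))] at hquot
    rw [← hα, ← hβ]
    exact Nat.eq_of_mul_eq_mul_left Nat.card_pos hquot
  haveI : Group.IsSolvable (G ⧸ (T : Subgroup G)) := Cfsg.Agent.Lead.burnside_two_prime p r α β hpp hrp hq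
  haveI : Group.IsSolvable (T : Subgroup G) := by
    haveI := T.2.isNilpotent
    infer_instance
  apply hns
  exact solvable_of_ker_le_range (T : Subgroup G).subtype (QuotientGroup.mk' (T : Subgroup G)) (by
    rw [QuotientGroup.ker_mk', Subgroup.range_subtype])

/-- The theorem. -/
theorem final (hns : ¬ Group.IsSolvable G)
    (h4 : Nat.card (MulAction.orbitRel.Quotient (MulAut G) G) = 4) :
    Nonempty (G ≃* alternatingGroup (Fin 5)) := by
  classical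
  obtain ⟨p₁, p₂, p₃, hp₁, hp₂, hp₃, d₁, d₂, d₃, h12, h13, h23⟩ := three_primes hns
  haveI : Fact p₁.Prime := ⟨hp₁⟩
  haveI : Fact p₂.Prime := ⟨hp₂⟩
  haveI : Fact p₃.Prime := ⟨hp₃⟩
  obtain ⟨x₁, hx₁⟩ := exists_prime_orderOf_dvd_card' p₁ d₁
  obtain ⟨x₂, hx₂⟩ := exists_prime_orderOf_dvd_card' p₂ d₂
  obtain ⟨x₃, hx₃⟩ := exists_prime_orderOf_dvd_card' p₃ d₃
  have hall := orbit_four_all h4 (ne_one_of_order hp₁ hx₁) (ne_one_of_order hp₂ hx₂) (ne_one_of_order hp₃ hx₃)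
    (fun σ h => h12 (by rw [← hx₁, ← hx₂, ← h, MulEquiv.orderOf_eq]))
    (fun σ h => h13 (by rw [← hx₁, ← hx₃, ← h, MulEquiv.orderOf_eq]))
    (fun σ h => h23 (by rw [← hx₂, ← hx₃, ← h, MulEquiv.orderOf_eq]))
  have hord : ∀ x : G, x ≠ 1 → orderOf x = p₁ ∨ orderOf x = p₂ ∨ orderOf x = p₃ := by
    intro x hx
    rcases hall x with h | ⟨σ, hσ⟩ | ⟨σ, hσ⟩ | ⟨σ, hσ⟩
    · exact absurd h hx
    · left; rw [← hσ, MulEquiv.orderOf_eq, hx₁]
    · right; left; rw [← hσ, MulEquiv.orderOf_eq, hx₂]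
    · right; right; rw [← hσ, MulEquiv.orderOf_eq, hx₃]
  have H : Hyp G := by
    refine ⟨?_, ?_⟩
    · intro x hx
      rcases hord x hx with h | h | h <;> rw [h] <;> assumption
    · intro x y hx hxy
      have hy : y ≠ 1 := by
        rintro rfl
        rw [orderOf_one] at hxy
        exact hx (orderOf_eq_one_iff.mp hxy)
      rcases hall x with h | ⟨σ, hσ⟩ | ⟨σ, hσ⟩ | ⟨σ, hσ⟩
      · exact absurd h hx
      · rcases hall y with h' | ⟨τ, hτ⟩ | ⟨τ, hτ⟩ | ⟨τ, hτ⟩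
        · exact absurd h' hy
        · exact ⟨σ.symm.trans τ, by simp [← hσ, ← hτ]⟩
        · exact absurd (by rw [← hx₁, ← hx₂, ← MulEquiv.orderOf_eq σ, hσ, hxy, ← hτ, MulEquiv.orderOf_eq]) h12
        · exact absurd (by rw [← hx₁, ← hx₃, ← MulEquiv.orderOf_eq σ, hσ, hxy, ← hτ, MulEquiv.orderOf_eq]) h13
      · rcases hall y with h' | ⟨τ, hτ⟩ | ⟨τ, hτ⟩ | ⟨τ, hτ⟩
        · exact absurd h' hy
        · exact absurd (by rw [← hx₁, ← hx₂, ← MulEquiv.orderOf_eq τ, hτ, ← hxy, ← hσ, MulEquiv.orderOf_eq]) h12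
        · exact ⟨σ.symm.trans τ, by simp [← hσ, ← hτ]⟩
        · exact absurd (by rw [← hx₂, ← hx₃, ← MulEquiv.orderOf_eq σ, hσ, hxy, ← hτ, MulEquiv.orderOf_eq]) h23
      · rcases hall y with h' | ⟨τ, hτ⟩ | ⟨τ, hτ⟩ | ⟨τ, hτ⟩
        · exact absurd h' hy
        · exact absurd (by rw [← hx₁, ← hx₃, ← MulEquiv.orderOf_eq τ, hτ, ← hxy, ← hσ, MulEquiv.orderOf_eq]) h13
        · exact absurd (by rw [← hx₂, ← hx₃, ← MulEquiv.orderOf_eq τ, hτ, ← hxy, ← hσ, MulEquiv.orderOf_eq]) h23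
        · exact ⟨σ.symm.trans τ, by simp [← hσ, ← hτ]⟩
  have hprime : ∀ l : ℕ, l.Prime → l ∣ Nat.card G → l = p₁ ∨ l = p₂ ∨ l = p₃ := by
    intro l hl hd
    haveI : Fact l.Prime := ⟨hl⟩
    obtain ⟨x, hx⟩ := exists_prime_orderOf_dvd_card' l hd
    rw [← hx]
    exact hord x (ne_one_of_order hl hx)
  have hCN : Cfsg.IsCNGroup G := by
    intro g hg
    have h1 := H.cent_isP hg
    haveI : Fact (orderOf g).Prime := ⟨H.prime g hg⟩
    exact h1.isNilpotent
  have hd2 : 2 ∣ Nat.card G := by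
    by_contra hodd
    exact hns (Cfsg.Agent.H06.cn_odd_solvable _ G rfl (Nat.not_even_iff_odd.mp (by rwa [even_iff_two_dvd])) hCN)
  rcases hprime 2 Nat.prime_two hd2 with h | h | h
  · subst h
    refine from_primes hns H hp₂ hp₃ (Ne.symm h12) (Ne.symm h13) h23 ?_ hd2 d₂ d₃
    exact hprime
  · subst h
    refine from_primes hns H hp₁ hp₃ h12 (Ne.symm h23) h13 ?_ hd2 d₁ d₃
    intro l hl hd
    rcases hprime l hl hd with h | h | h
    · exact Or.inr (Or.inl h)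
    · exact Or.inl h
    · exact Or.inr (Or.inr h)
  · subst h
    refine from_primes hns H hp₁ hp₂ h13 h23 h12 ?_ hd2 d₁ d₂
    intro l hl hd
    rcases hprime l hl hd with h | h | h
    · exact Or.inr (Or.inl h)
    · exact Or.inr (Or.inr h)
    · exact Or.inl h

end Cfsg.Agent.H12.A5
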