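import Cfsg.Agent.Lib.H12.FStarAct
import Cfsg.Agent.Lib.H12.Subnormal

/-!
# monotonicity of layer/Fitting for subnormal inclusions inside an ambient group
-/

set_option autoImplicit false
set_option linter.unusedSectionVars false
set_option linter.style.haveILetI false

namespace Cfsg.Agent.H12

open Cfsg
open scoped commutatorElement

section
variable {G : Type*} [Group G] [Finite G]

/-- subnormal subgroup of `L` in `X` transports -/
theorem subnormal_map_of_subgroupOf {L X : Subgroup G} (hLX : L ≤ X)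
    (hs : (L.subgroupOf X).IsSubnormal) {K : Subgroup L} (hK : K.IsSubnormal) :
    ((K.map L.subtype).subgroupOf X).IsSubnormal := by
  set L' := L.subgroupOf X with hL'
  let e : ↥L' →* ↥L := (Subgroup.subgroupOfEquivOfLe hLX).toMonoidHom
  have he : ∀ x : ↥L', ((e x : L) : G) = ((x : X) : G) := fun x => rfl
  have hle : (K.map L.subtype).subgroupOf X ≤ L' := by
    rintro x ⟨a, -, e1⟩
    rw [hL', Subgroup.mem_subgroupOf]
    have e3 : (x : G) = a := e1.symm
    rw [e3]
    exact a.2
  have e2 : ((K.map L.subtype).subgroupOf X).subgroupOf L' = K.comap e := by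
    ext x
    rw [Subgroup.mem_subgroupOf, Subgroup.mem_subgroupOf, Subgroup.mem_comap]
    constructor
    · rintro ⟨a, ha, e1⟩
      have : e x = a := Subtype.ext ((he x).trans e1.symm)
      rw [this]
      exact ha
    · intro h
      exact ⟨_, h, he x⟩
  apply Subgroup.IsSubnormal.trans (K := L') hle _ hs
  rw [e2]
  exact hK.comap e

theorem layer_map_mono {L X : Subgroup G} (hLX : L ≤ X) (hs : (L.subgroupOf X).IsSubnormal) :
    (layer L).map L.subtype ≤ (layer X).map X.subtype := by
  rw [Subgroup.map_le_iff_le_comap]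
  refine sSup_le fun K hK => ?_
  rw [← Subgroup.map_le_iff_le_comap]
  have hc : IsComponent ((K.map L.subtype).subgroupOf X) := by
    refine ⟨subnormal_map_of_subgroupOf hLX hs hK.1, H05.qs_subgroupOf ?_ (H05.qs_map_subtype hK.2)⟩
    rintro _ ⟨a, -, rfl⟩
    exact hLX a.2
  rintro _ ⟨a, ha, rfl⟩
  refine ⟨⟨a, hLX a.2⟩, ?_, rfl⟩
  apply H05.comp_le_layer hc
  rw [Subgroup.mem_subgroupOf]
  exact ⟨a, ha, rfl⟩

theorem fitting_map_mono {L X : Subgroup G} (hLX : L ≤ X) (hs : (L.subgroupOf X).IsSubnormal) :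
    (fittingSubgroup L).map L.subtype ≤ (fittingSubgroup X).map X.subtype := by
  haveI := H01.fitting_normal (G := L)
  haveI := H01.fitting_nilpotent (G := L)
  have h1 : ((fittingSubgroup L).map L.subtype).subgroupOf X ≤ fittingSubgroup X := by
    apply H05.sn_nil_le_fitting
    · exact subnormal_map_of_subgroupOf hLX hs (H01.fitting_normal.isSubnormal)
    · have hle : (fittingSubgroup L).map L.subtype ≤ X := by
        rintro _ ⟨a, -, rfl⟩
        exact hLX a.2
      let e1 := Subgroup.subgroupOfEquivOfLe hle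
      let e2 := ((fittingSubgroup L).equivMapOfInjective _ L.subtype_injective).symm
      exact H05.nil_of_inj (B := fittingSubgroup L) (e1.trans e2).toMonoidHom (e1.trans e2).injective
  rintro _ ⟨a, ha, rfl⟩
  refine ⟨⟨a, hLX a.2⟩, h1 ?_, rfl⟩
  rw [Subgroup.mem_subgroupOf]
  exact ⟨a, ha, rfl⟩

theorem fstar_map_mono {L X : Subgroup G} (hLX : L ≤ X) (hs : (L.subgroupOf X).IsSubnormal) :
    (generalizedFittingSubgroup L).map L.subtype ≤ (generalizedFittingSubgroup X).map X.subtype := by
  unfold generalizedFittingSubgroup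
  rw [Subgroup.map_sup, Subgroup.map_sup]
  exact sup_le_sup (layer_map_mono hLX hs) (fitting_map_mono hLX hs)

/-- `F*(K) ≤ F*(G)` for subnormal `K`. -/
theorem fstar_map_le {K : Subgroup G} (hK : K.IsSubnormal) :
    (generalizedFittingSubgroup K).map K.subtype ≤ generalizedFittingSubgroup G := by
  unfold generalizedFittingSubgroup
  rw [Subgroup.map_sup]
  exact sup_le_sup (H05.layer_map_le hK) (H05.fitting_map_le hK)

/-- a subnormal subgroup `S` of `F*(G)` contained in `K` subnormal lies in `F*(K)`. -/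
theorem le_fstar_map_of_subnormal {K S : Subgroup G} (hK : K.IsSubnormal) (hSK : S ≤ K)
    (hSF : S ≤ generalizedFittingSubgroup G)
    (hsn : (S.subgroupOf (generalizedFittingSubgroup G)).IsSubnormal) :
    S ≤ (generalizedFittingSubgroup K).map K.subtype := by
  obtain ⟨-, h2⟩ := H05.subnormal_fstar S hSF hsn
  haveI hF := H07.generalizedFitting_normal G
  have hS : S.IsSubnormal := H05.sn_of_subgroupOf hSF hsn hF.isSubnormal
  have hs : (S.subgroupOf K).IsSubnormal := hS.subgroupOf
  have h3 : (⊤ : Subgroup S).map S.subtype = S := by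
    rw [← MonoidHom.range_eq_map, Subgroup.range_subtype]
  conv_lhs => rw [← h3, ← h2, Subgroup.map_sup]
  unfold generalizedFittingSubgroup
  rw [Subgroup.map_sup]
  apply sup_le
  · exact (fitting_map_mono hSK hs).trans le_sup_right
  · exact (layer_map_mono hSK hs).trans le_sup_left

end

section
variable {H : Type*} [Group H] [Finite H] {p : ℕ} [hp : Fact p.Prime]

theorem pCore_eq_bot_of_subnormal (hO : pCore p H = ⊥) {K : Subgroup H} (hK : K.IsSubnormal) :
    pCore p K = ⊥ := by
  have h1 := pCoreOf_le_of_isSubnormal (p := p) hK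
  rw [hO] at h1
  rw [eq_bot_iff]
  intro x hx
  have h2 : (x : H) ∈ (⊥ : Subgroup H) := h1 ⟨x, hx, rfl⟩
  have h3 : (x : H) = 1 := by simpa using h2
  exact Subtype.ext h3

theorem fstar_decomp (hO : pCore p H = ⊥) (Y : Subgroup H) (hY : IsPGroup p Y) :
    ⁅generalizedFittingSubgroup H, Y⁆ ⊔
      (generalizedFittingSubgroup H ⊓ Subgroup.centralizer (Y : Set H)) = generalizedFittingSubgroup H := by
  haveI hF := H07.generalizedFitting_normal H
  apply decomp_of_le_fstar ⊤ (pCore_eq_bot_of_subnormal hO Subgroup.IsSubnormal.top) Y hY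
  · rw [Subgroup.normalizer_eq_top_iff.2 (inferInstance : (⊤ : Subgroup H).Normal)]
    exact le_top
  · refine le_fstar_map_of_subnormal Subgroup.IsSubnormal.top le_top le_rfl ?_
    rw [Subgroup.subgroupOf_self]
    exact Subgroup.IsSubnormal.top
  · exact hF.isSubnormal.subgroupOf
  · rw [Subgroup.normalizer_eq_top_iff.2 hF]
    exact le_top

/-- `[F*,Y]` lies in every subnormal `K ≥ Y` -/
theorem comm_fstar_le_of_subnormal (hO : pCore p H = ⊥) (Y : Subgroup H) (hY : IsPGroup p Y)
    {K : Subgroup H} (hK : K.IsSubnormal) (hYK : Y ≤ K) : ⁅generalizedFittingSubgroup H, Y⁆ ≤ K := by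
  haveI hF := H07.generalizedFitting_normal H
  have hD := comm_comm_eq_of_decomp (by
    rw [Subgroup.normalizer_eq_top_iff.2 hF]; exact le_top) (fstar_decomp hO Y hY)
  induction hK with
  | top => exact le_top
  | step K₂ K₁ hle hs hn ih =>
    have ih' := ih (hYK.trans hle)
    rw [hD]
    refine (Subgroup.commutator_mono ih' le_rfl).trans ?_
    rw [Subgroup.commutator_le]
    intro d hd y hy
    have hn' := (Subgroup.normal_subgroupOf_iff_le_normalizer hle).1 hn
    have e1 : ⁅d, y⁆ = (d * y * d⁻¹) * y⁻¹ := by rw [commutatorElement_def]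
    rw [e1]
    exact K₂.mul_mem ((Subgroup.mem_normalizer_iff.1 (hn' hd) _).1 (hYK hy)) (K₂.inv_mem (hYK hy))

end

end Cfsg.Agent.H12
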