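import Cfsg.Agent.Lib.H12.FStarAct2
import Cfsg.Agent.Lib.H01.Basic
import Cfsg.Agent.S2813

/-!
# Trace on the abelianization, `Z(L) ∩ L' ≤ Φ(L)`, and the structure of `[F*(H),Q]`
-/

set_option autoImplicit false
set_option linter.unusedSectionVars false
set_option linter.style.haveILetI false

namespace Cfsg.Agent.H12

open Cfsg
open scoped commutatorElement

section
variable {G : Type*} [Group G]

theorem map_commutator_subtype (R : Subgroup G) : (commutator R).map R.subtype = ⁅R, R⁆ := by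
  have h0 : (⊤ : Subgroup R).map R.subtype = R := by
    rw [← MonoidHom.range_eq_map, Subgroup.range_subtype]
  rw [commutator_def, Subgroup.map_commutator, h0]

theorem mem_normalizer_centralizer {A : Subgroup G} {g : G}
    (hg : g ∈ Subgroup.normalizer (A : Set G)) :
    g ∈ Subgroup.normalizer ((Subgroup.centralizer (A : Set G) : Subgroup G) : Set G) := by
  apply H13.mem_normalizer_of_map_conj_eq
  rw [H13.map_conj_centralizer, H13.map_conj_eq_of_mem_normalizer hg]

/-- conjugation into the abelianization. -/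
noncomputable def abConj (L Q : Subgroup G) (hQ : Q ≤ Subgroup.normalizer (L : Set G)) (y : Q) :
    ↥L →* Abelianization ↥L :=
  (Abelianization.of).comp (L.normalizerMonoidHom ⟨y, hQ y.2⟩).toMonoidHom

/-- the trace -/
noncomputable def abTrace (L Q : Subgroup G) (hQ : Q ≤ Subgroup.normalizer (L : Set G)) [Fintype Q] :
    ↥L →* Abelianization ↥L := ∏ y : Q, abConj L Q hQ y

theorem abTrace_apply (L Q : Subgroup G) (hQ : Q ≤ Subgroup.normalizer (L : Set G)) [Fintype Q] (l : L) :
    abTrace L Q hQ l = ∏ y : Q, Abelianization.of (L.normalizerMonoidHom ⟨y, hQ y.2⟩ l) := by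
  simp [abTrace, abConj]

theorem abTrace_conj (L Q : Subgroup G) (hQ : Q ≤ Subgroup.normalizer (L : Set G)) [Fintype Q]
    (y₀ : Q) (l : L) :
    abTrace L Q hQ (L.normalizerMonoidHom ⟨y₀, hQ y₀.2⟩ l) = abTrace L Q hQ l := by
  rw [abTrace_apply, abTrace_apply]
  apply Fintype.prod_equiv (Equiv.mulRight y₀)
  intro y
  congr 1
  apply Subtype.ext
  show (y : G) * ((y₀ : G) * l * (y₀ : G)⁻¹) * (y : G)⁻¹ = ((y * y₀ : Q) : G) * l * (((y * y₀ : Q) : G))⁻¹
  simp only [Subgroup.coe_mul]
  group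

theorem comm_le_ker_abTrace (L Q : Subgroup G) (hQ : Q ≤ Subgroup.normalizer (L : Set G)) [Fintype Q] :
    ⁅L, Q⁆ ≤ (abTrace L Q hQ).ker.map L.subtype := by
  rw [Subgroup.commutator_le]
  intro l hl y hy
  have hmem : ⁅l, y⁆ ∈ L := Subgroup.commutator_le.1 (comm_le_of_le_normalizer hQ) l hl y hy
  refine ⟨⟨_, hmem⟩, ?_, rfl⟩
  rw [SetLike.mem_coe, MonoidHom.mem_ker]
  have h1 : (⟨⁅l, y⁆, hmem⟩ : L) = ⟨l, hl⟩ * (L.normalizerMonoidHom ⟨y, hQ hy⟩ ⟨l, hl⟩)⁻¹ := by
    apply Subtype.ext
    show ⁅l, y⁆ = l * (y * l * y⁻¹)⁻¹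
    rw [commutatorElement_def]
    group
  rw [h1, map_mul, map_inv, abTrace_conj L Q hQ ⟨y, hy⟩, mul_inv_cancel]

/-- If `L = [L,Q]`, an element of `L` centralized by `Q` has `|Q|`-torsion image in `L/L'`. -/
theorem of_pow_card_eq_one {L Q : Subgroup G} [Finite Q] (hQ : Q ≤ Subgroup.normalizer (L : Set G))
    (hL : ⁅L, Q⁆ = L) {x : L} (hx : ∀ y ∈ Q, y * (x : G) = x * y) :
    (Abelianization.of x) ^ Nat.card Q = 1 := by
  classical
  haveI : Fintype Q := Fintype.ofFinite Q
  have h1 := comm_le_ker_abTrace L Q hQ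
  rw [hL] at h1
  obtain ⟨x', hx', e⟩ := h1 x.2
  have e' : x' = x := Subtype.ext e
  subst e'
  rw [SetLike.mem_coe, MonoidHom.mem_ker, abTrace_apply] at hx'
  rw [← hx', Nat.card_eq_fintype_card, ← Finset.card_univ, ← Finset.prod_const]
  apply Finset.prod_congr rfl
  intro y _
  congr 1
  apply Subtype.ext
  show (x' : G) = y * x' * (y : G)⁻¹
  rw [hx y y.2]
  group

/-- A central element in the commutator subgroup lies in the Frattini subgroup. -/
theorem center_inf_commutator_le_frattini {X : Type*} [Group X] {x : X} (hz : x ∈ Subgroup.center X)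
    (hc : x ∈ commutator X) : x ∈ frattini X := by
  rw [H01.mem_frattini_iff]
  intro M hM
  by_contra hxM
  have htop : M ⊔ Subgroup.zpowers x = ⊤ := by
    apply hM.2
    refine lt_of_le_of_ne le_sup_left ?_
    intro h
    apply hxM
    rw [h]
    exact Subgroup.mem_sup_right (Subgroup.mem_zpowers x)
  have hzp : Subgroup.zpowers x ≤ Subgroup.center X := by
    rw [Subgroup.zpowers_le]
    exact hz
  have hnorm : Subgroup.zpowers x ≤ Subgroup.normalizer (M : Set X) := fun z hz' =>
    H05.mem_normalizer_of_comm (fun b _ => (Subgroup.mem_center_iff.1 (hzp hz') b).symm)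
  have hnorm' : M ≤ Subgroup.normalizer (M : Set X) := Subgroup.le_normalizer
  have hcomm : commutator X ≤ M := by
    rw [commutator_def, Subgroup.commutator_le]
    intro a _ b _
    have ha : a ∈ M ⊔ Subgroup.zpowers x := by rw [htop]; trivial
    have hb : b ∈ M ⊔ Subgroup.zpowers x := by rw [htop]; trivial
    obtain ⟨m₁, hm₁, z₁, hz₁, rfl⟩ := H01.exists_mul_of_mem_sup hnorm ha
    obtain ⟨m₂, hm₂, z₂, hz₂, rfl⟩ := H01.exists_mul_of_mem_sup hnorm hb
    rw [H05.comm_mul_central (hzp hz₁) (hzp hz₂)]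
    exact M.mul_mem (M.mul_mem (M.mul_mem hm₁ hm₂) (M.inv_mem hm₁)) (M.inv_mem hm₂)
  exact hxM (hcomm hc)

end

section
variable {H : Type*} [Group H] [Finite H] {p : ℕ} [hp : Fact p.Prime]

theorem decomp_of_subnormal_le_fstar (hO : pCore p H = ⊥) (Y : Subgroup H) (hY : IsPGroup p Y)
    (A : Subgroup H) (hA : A.IsSubnormal) (hAE : A ≤ generalizedFittingSubgroup H)
    (hYA : Y ≤ Subgroup.normalizer (A : Set H)) :
    ⁅A, Y⁆ ⊔ (A ⊓ Subgroup.centralizer (Y : Set H)) = A := by
  haveI hF := H07.generalizedFitting_normal H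
  apply decomp_of_le_fstar ⊤ (pCore_eq_bot_of_subnormal hO Subgroup.IsSubnormal.top) Y hY
  · rw [Subgroup.normalizer_eq_top_iff.2 (inferInstance : (⊤ : Subgroup H).Normal)]
    exact le_top
  · have hsn : (A.subgroupOf (generalizedFittingSubgroup H)).IsSubnormal := hA.subgroupOf
    exact le_fstar_map_of_subnormal Subgroup.IsSubnormal.top le_top hAE hsn
  · exact hA.subgroupOf
  · exact hYA

/-- `[F*,Q]` has elements of `p'`-order mod its commutator subgroup. -/
theorem exists_coprime_pow_of_eq_one (hO : pCore p H = ⊥) (Q L : Subgroup H)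
    (hL : L = ⁅generalizedFittingSubgroup H, Q⁆) (l : L) :
    ∃ m : ℕ, m.Coprime p ∧ (Abelianization.of l) ^ m = 1 := by
  classical
  haveI hF := H07.generalizedFitting_normal H
  have hYE : Q ≤ Subgroup.normalizer (generalizedFittingSubgroup H : Set H) := by
    rw [Subgroup.normalizer_eq_top_iff.2 hF]; exact le_top
  have hLE : L ≤ generalizedFittingSubgroup H := hL ▸ comm_le_of_le_normalizer hYE
  have hn : (L.subgroupOf (generalizedFittingSubgroup H)).Normal :=
    (Subgroup.normal_subgroupOf_iff_le_normalizer hLE).2 (hL ▸ H05.comm_le_normalizer_left _ Q)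
  obtain ⟨h1, h2⟩ := H05.subnormal_fstar L hLE hn.isSubnormal
  have hl : l ∈ fittingSubgroup ↥L ⊔ layer ↥L := by rw [h2]; trivial
  haveI := H01.fitting_normal (G := L)
  obtain ⟨f, hf, e, he, rfl⟩ := H01.exists_mul_of_mem_sup
    (N := fittingSubgroup ↥L) (A := layer ↥L) (by
      rw [Subgroup.normalizer_eq_top_iff.2 inferInstance]; exact le_top) hl
  have he2 : e ∈ commutator ↥L := by
    rw [← H05.layer_perfect] at he
    rw [commutator_def]
    exact Subgroup.commutator_mono le_top le_top he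
  have he3 : Abelianization.of e = 1 := by
    have : e ∈ (Abelianization.of (G := ↥L)).ker := by
      rw [Abelianization.ker_of]; exact he2
    exact this
  have hf2 : (f : H) ∈ fittingSubgroup H := by
    have : (f : H) ∈ (fittingSubgroup ↥L).map L.subtype := ⟨f, hf, rfl⟩
    rw [h1] at this
    exact this.1
  have hf3 := coprime_of_mem_fitting hO hf2
  refine ⟨orderOf (f : H), hf3, ?_⟩
  rw [map_mul, he3, mul_one, ← map_pow]
  have : f ^ orderOf (f : H) = 1 := by
    apply Subtype.ext
    simp [pow_orderOf_eq_one]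
  rw [this, map_one]

/-- Elements of `L = [F*,Q]` centralized by `Q` lie in `L'`. -/
theorem mem_commutator_of_centralized (hO : pCore p H = ⊥) (Q L : Subgroup H) (hQ : IsPGroup p Q)
    (hL : L = ⁅generalizedFittingSubgroup H, Q⁆) (l : L) (hl : ∀ y ∈ Q, y * (l : H) = l * y) :
    l ∈ commutator ↥L := by
  classical
  haveI hF := H07.generalizedFitting_normal H
  have hYE : Q ≤ Subgroup.normalizer (generalizedFittingSubgroup H : Set H) := by
    rw [Subgroup.normalizer_eq_top_iff.2 hF]; exact le_top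
  have hdec := fstar_decomp hO Q hQ
  have hD := comm_comm_eq_of_decomp hYE hdec
  have hQL : Q ≤ Subgroup.normalizer (L : Set H) := fun u hu => by
    rw [hL]
    exact conj_mem_normalizer_commutator (hYE hu) (Subgroup.le_normalizer hu)
  have h1 := of_pow_card_eq_one hQL (by rw [hL]; exact hD.symm) hl
  obtain ⟨m, hm, h2⟩ := exists_coprime_pow_of_eq_one hO Q L hL l
  obtain ⟨k, hk⟩ := IsPGroup.iff_card.1 hQ
  rw [hk] at h1
  have h3 := pow_gcd_eq_one.2 ⟨h1, h2⟩
  have h4 : (p ^ k).gcd m = 1 := Nat.Coprime.pow_left k hm.symm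
  rw [h4, pow_one] at h3
  have : l ∈ (Abelianization.of (G := ↥L)).ker := h3
  rwa [Abelianization.ker_of] at this

end

end Cfsg.Agent.H12
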