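import Mathlib

/-! Derived length of linear p-groups. -/

namespace Cfsg.Agent.H12.LinDL

open scoped commutatorElement

section dser

variable {G : Type*} [Group G]

/-- Iterated commutators of a subgroup. -/
def dser (H : Subgroup G) : ℕ → Subgroup G
  | 0 => H
  | k + 1 => ⁅dser H k, dser H k⁆

lemma dser_zero (H : Subgroup G) : dser H 0 = H := rfl

lemma dser_succ (H : Subgroup G) (k : ℕ) : dser H (k + 1) = ⁅dser H k, dser H k⁆ := rfl

lemma dser_mono {H K : Subgroup G} (h : H ≤ K) (k : ℕ) : dser H k ≤ dser K k := by
  induction k with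
  | zero => exact h
  | succ k ih => exact Subgroup.commutator_mono ih ih

lemma dser_succ' (H : Subgroup G) (k : ℕ) : dser H (k + 1) = dser ⁅H, H⁆ k := by
  induction k with
  | zero => rfl
  | succ k ih => rw [dser_succ, ih, dser_succ]

lemma dser_map {G' : Type*} [Group G'] (f : G →* G') (H : Subgroup G) (k : ℕ) :
    (dser H k).map f = dser (H.map f) k := by
  induction k with
  | zero => rfl
  | succ k ih => rw [dser_succ, Subgroup.map_commutator, ih, dser_succ]

lemma derivedSeries_map_subtype (H : Subgroup G) (k : ℕ) :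
    (derivedSeries H k).map H.subtype = dser H k := by
  induction k with
  | zero =>
    rw [derivedSeries_zero, dser_zero]
    ext x; simp
  | succ k ih => rw [derivedSeries_succ, Subgroup.map_commutator, ih, dser_succ]

lemma derivedSeries_eq_dser_top (k : ℕ) : derivedSeries G k = dser (⊤ : Subgroup G) k := by
  induction k with
  | zero => rfl
  | succ k ih => rw [derivedSeries_succ, ih, dser_succ]

lemma dser_normal (H : Subgroup G) [H.Normal] (k : ℕ) : (dser H k).Normal := by
  induction k with
  | zero => assumption
  | succ k ih =>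
    rw [dser_succ]
    exact Subgroup.commutator_normal _ _

end dser

section reps

variable {F : Type*} [Field F] {P : Type*} [Group P]
  {V : Type*} [AddCommGroup V] [Module F V]

/-- Restriction of a representation to an invariant subspace. -/
def resRep (ρ : P →* Module.End F V) (W : Submodule F V)
    (hW : ∀ g, ∀ w ∈ W, ρ g w ∈ W) : P →* Module.End F W where
  toFun g := (ρ g).restrict (hW g)
  map_one' := by
    ext v
    simp [LinearMap.restrict_apply]
  map_mul' g h := by
    ext v
    simp [LinearMap.restrict_apply]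

lemma resRep_apply (ρ : P →* Module.End F V) (W : Submodule F V)
    (hW : ∀ g, ∀ w ∈ W, ρ g w ∈ W) (g : P) (w : W) :
    ((resRep ρ W hW g) w : V) = ρ g w := rfl

/-- Quotient of a representation by an invariant subspace. -/
def quotRep (ρ : P →* Module.End F V) (W : Submodule F V)
    (hW : ∀ g, ∀ w ∈ W, ρ g w ∈ W) : P →* Module.End F (V ⧸ W) where
  toFun g := W.mapQ W (ρ g) (fun w hw => hW g w hw)
  map_one' := by
    ext v
    simp
  map_mul' g h := by
    ext v
    simp

lemma quotRep_mk (ρ : P →* Module.End F V) (W : Submodule F V)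
    (hW : ∀ g, ∀ w ∈ W, ρ g w ∈ W) (g : P) (v : V) :
    quotRep ρ W hW g (W.mkQ v) = W.mkQ (ρ g v) := rfl

/-- An element acting trivially on `W` and on `V/W`: `(ρ x - 1)` has square zero. -/
lemma sub_one_mem_of_quot (ρ : P →* Module.End F V) (W : Submodule F V)
    (hW : ∀ g, ∀ w ∈ W, ρ g w ∈ W) (x : P) (h : quotRep ρ W hW x = 1) (v : V) :
    ρ x v - v ∈ W := by
  have := congrArg (fun f : Module.End F (V ⧸ W) => f (W.mkQ v)) h
  simp only [quotRep_mk, Module.End.one_apply] at this
  have h2 : W.mkQ (ρ x v - v) = 0 := by rw [map_sub, this, sub_self]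
  exact (Submodule.Quotient.mk_eq_zero W).mp h2

lemma fix_of_res (ρ : P →* Module.End F V) (W : Submodule F V)
    (hW : ∀ g, ∀ w ∈ W, ρ g w ∈ W) (x : P) (h : resRep ρ W hW x = 1) (w : V) (hw : w ∈ W) :
    ρ x w = w := by
  have := congrArg (fun f : Module.End F W => ((f ⟨w, hw⟩ : W) : V)) h
  simpa [resRep_apply] using this

/-- A `p`-element acting trivially on `W` and `V/W` acts trivially when `p` is invertible. -/
lemma eq_one_of_res_quot (ρ : P →* Module.End F V) (W : Submodule F V)
    (hW : ∀ g, ∀ w ∈ W, ρ g w ∈ W) {p : ℕ} (hp : (p : F) ≠ 0) (e : ℕ) (x : P) (hx : x ^ p ^ e = 1)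
    (h1 : resRep ρ W hW x = 1) (h2 : quotRep ρ W hW x = 1) : ρ x = 1 := by
  have key : ∀ (m : ℕ) (v : V), ρ (x ^ m) v = v + (m : F) • (ρ x v - v) := by
    intro m v
    induction m with
    | zero => simp
    | succ m ih =>
      have hm : ρ (x ^ (m + 1)) v = ρ x (ρ (x ^ m) v) := by
        rw [pow_succ', map_mul]; rfl
      rw [hm, ih, map_add, map_smul]
      have hmem := sub_one_mem_of_quot ρ W hW x h2 v
      have hfix := fix_of_res ρ W hW x h1 _ hmem
      rw [hfix]
      push_cast
      rw [add_smul, one_smul]
      abel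
  ext1 v
  have := key (p ^ e) v
  rw [hx, map_one, Module.End.one_apply] at this
  have h3 : ((p ^ e : ℕ) : F) • (ρ x v - v) = 0 := by
    have := this
    exact (left_eq_add.mp this)
  have hp' : ((p ^ e : ℕ) : F) ≠ 0 := by
    push_cast
    exact pow_ne_zero _ hp
  have h4 : ρ x v - v = 0 := (smul_eq_zero.mp h3).resolve_left hp'
  simpa [sub_eq_zero] using h4

end reps

section Z2

variable {R : Type*} [Group R] [Finite R]

/-- A non-abelian finite `p`-group has an element of the second centre outside the centre. -/
lemma exists_second_center {p : ℕ} [Fact p.Prime] (hR : IsPGroup p R)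
    (hnc : ¬ ∀ a b : R, a * b = b * a) :
    ∃ a : R, a ∉ Subgroup.center R ∧ ∀ g, ⁅a, g⁆ ∈ Subgroup.center R := by
  have hne : Subgroup.center R ≠ ⊤ := by
    intro h
    apply hnc
    intro a b
    have : a ∈ Subgroup.center R := by rw [h]; trivial
    exact (Subgroup.mem_center_iff.mp this b).symm
  have hQ : IsPGroup p (R ⧸ Subgroup.center R) :=
    hR.to_quotient _
  haveI : Nontrivial (R ⧸ Subgroup.center R) := by
    rw [QuotientGroup.nontrivial_iff]
    exact hne
  haveI := hQ.center_nontrivial
  obtain ⟨⟨b, hb⟩, hb1⟩ := exists_ne (1 : Subgroup.center (R ⧸ Subgroup.center R))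
  obtain ⟨a, rfl⟩ := QuotientGroup.mk_surjective b
  refine ⟨a, ?_, ?_⟩
  · intro ha
    apply hb1
    ext
    simpa [QuotientGroup.eq_one_iff] using ha
  · intro g
    rw [← QuotientGroup.eq_one_iff]
    have : ((⁅a, g⁆ : R) : R ⧸ Subgroup.center R) = ⁅(a : R ⧸ Subgroup.center R), (g : R ⧸ Subgroup.center R)⁆ := by
      rfl
    rw [this, commutatorElement_eq_one_iff_mul_comm]
    exact (Subgroup.mem_center_iff.mp hb _).symm

/-- A commutator commutes with any element of the second centre. -/
lemma commute_commutator_of_second (a : R) (ha : ∀ g, ⁅a, g⁆ ∈ Subgroup.center R) (g h : R) :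
    a * ⁅g, h⁆ = ⁅g, h⁆ * a := by
  -- `f : R →* center` with `f g = ⁅a, g⁆`.
  let f : R →* Subgroup.center R :=
    { toFun := fun g => ⟨⁅a, g⁆, ha g⟩
      map_one' := by ext; simp
      map_mul' := by
        intro x y
        ext
        have hy := Subgroup.mem_center_iff.mp (ha y)
        have hy2 := hy x⁻¹
        simp only [commutatorElement_def] at hy2
        show a * (x * y) * a⁻¹ * (x * y)⁻¹ = (a * x * a⁻¹ * x⁻¹) * (a * y * a⁻¹ * y⁻¹)
        calc a * (x * y) * a⁻¹ * (x * y)⁻¹
            = a * x * a⁻¹ * ((a * y * a⁻¹ * y⁻¹) * x⁻¹) := by group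
          _ = a * x * a⁻¹ * (x⁻¹ * (a * y * a⁻¹ * y⁻¹)) := by rw [← hy2]
          _ = a * x * a⁻¹ * x⁻¹ * (a * y * a⁻¹ * y⁻¹) := by group }
  have hf : f ⁅g, h⁆ = 1 := by
    rw [map_commutatorElement, commutatorElement_eq_one_iff_mul_comm]
    exact Subtype.ext ((Subgroup.mem_center_iff.mp (f g).2 (f h : R)).symm)
  have h2 : ⁅a, ⁅g, h⁆⁆ = 1 := congrArg Subtype.val hf
  exact (commutatorElement_eq_one_iff_mul_comm.mp h2)

end Z2

section algclosed

universe u v w

variable {F : Type w} [Field F]

/-- Eigenspace-invariance of a commuting operator on an irreducible representation: scalars. -/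
lemma scalar_of_commute [IsAlgClosed F] {P : Type v} [Group P] {V : Type u} [AddCommGroup V]
    [Module F V] [FiniteDimensional F V] [Nontrivial V] (ρ : P →* Module.End F V)
    (hirr : ∀ W : Submodule F V, (∀ g, ∀ w ∈ W, ρ g w ∈ W) → W = ⊥ ∨ W = ⊤)
    (z : Module.End F V) (hz : ∀ g, z * ρ g = ρ g * z) : ∃ μ : F, z = μ • 1 := by
  obtain ⟨μ, hμ⟩ := Module.End.exists_eigenvalue z
  refine ⟨μ, ?_⟩
  have hinv : ∀ g, ∀ w ∈ Module.End.eigenspace z μ, ρ g w ∈ Module.End.eigenspace z μ := by
    intro g w hw
    rw [Module.End.mem_eigenspace_iff] at hw ⊢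
    have := congrArg (fun f : Module.End F V => f w) (hz g)
    simp only [Module.End.mul_apply] at this
    rw [this, hw, map_smul]
  rcases hirr _ hinv with h | h
  · exact absurd h hμ
  · ext1 v
    have : v ∈ Module.End.eigenspace z μ := by rw [h]; trivial
    rw [Module.End.mem_eigenspace_iff] at this
    simp [this]

theorem main_alg [IsAlgClosed F] (p : ℕ) [Fact p.Prime] (hp : (p : F) ≠ 0) :
    ∀ n : ℕ, ∀ (V : Type u) [AddCommGroup V] [Module F V] [FiniteDimensional F V],
      Module.finrank F V = n → 1 ≤ n → ∀ (P : Type v) [Group P] [Finite P], IsPGroup p P →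
      ∀ ρ : P →* Module.End F V, ∀ x ∈ derivedSeries P (Nat.log 2 n + 1), ρ x = 1 := by
  intro n
  induction n using Nat.strong_induction_on with
  | _ n IH =>
  intro V _ _ _ hV hn P _ _ hP ρ x hx
  haveI : Nontrivial V := Module.nontrivial_of_finrank_pos (R := F) (by omega)
  by_cases hred : ∃ W : Submodule F V, (∀ g, ∀ w ∈ W, ρ g w ∈ W) ∧ W ≠ ⊥ ∧ W ≠ ⊤
  · obtain ⟨W, hW, hW0, hW1⟩ := hred
    have ha : 0 < Module.finrank F W := by
      rw [Module.finrank_pos_iff_exists_ne_zero]
      obtain ⟨w, hw, hw0⟩ := (Submodule.ne_bot_iff W).mp hW0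
      exact ⟨⟨w, hw⟩, by simpa using hw0⟩
    have hb : 0 < Module.finrank F (V ⧸ W) := by
      haveI : Nontrivial (V ⧸ W) := Submodule.Quotient.nontrivial_iff.mpr hW1
      exact Module.finrank_pos
    have hab := Submodule.finrank_quotient_add_finrank W
    rw [hV] at hab
    have hanti := derivedSeries_antitone (G := P)
    have h1 : resRep ρ W hW x = 1 := by
      refine IH _ (by omega) W rfl (by omega) P hP _ x ?_
      refine hanti ?_ hx
      have := Nat.log_mono_right (b := 2) (show Module.finrank F W ≤ n by omega)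
      omega
    have h2 : quotRep ρ W hW x = 1 := by
      refine IH _ (by omega) (V ⧸ W) rfl (by omega) P hP _ x ?_
      refine hanti ?_ hx
      have := Nat.log_mono_right (b := 2) (show Module.finrank F (V ⧸ W) ≤ n by omega)
      omega
    obtain ⟨e, he⟩ := (IsPGroup.iff_orderOf.mp hP) x
    exact eq_one_of_res_quot ρ W hW hp e x (by rw [← he, pow_orderOf_eq_one]) h1 h2
  · have hirr : ∀ W : Submodule F V, (∀ g, ∀ w ∈ W, ρ g w ∈ W) → W = ⊥ ∨ W = ⊤ := by
      intro W hW
      by_contra hc
      push Not at hc
      exact hred ⟨W, hW, hc.1, hc.2⟩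
    have hanti := derivedSeries_antitone (G := P)
    by_cases hcomm : ∀ g h : P, ρ g * ρ h = ρ h * ρ g
    · -- abelian image
      have hle : derivedSeries P 1 ≤ ρ.toHomUnits.ker := by
        rw [derivedSeries_one, commutator_def, Subgroup.commutator_le]
        intro g _ h _
        rw [MonoidHom.mem_ker, map_commutatorElement, commutatorElement_eq_one_iff_mul_comm]
        ext1
        simpa using hcomm g h
      have hx1 : x ∈ derivedSeries P 1 := hanti (by omega) hx
      have := hle hx1
      rw [MonoidHom.mem_ker] at this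
      have h3 := congrArg Units.val this
      simpa using h3
    · -- non-abelian image: second centre element
      let R := ρ.toHomUnits.range
      haveI : Finite R :=
        Finite.of_surjective ρ.toHomUnits.rangeRestrict ρ.toHomUnits.rangeRestrict_surjective
      have hRp : IsPGroup p R :=
        IsPGroup.of_surjective hP ρ.toHomUnits.rangeRestrict ρ.toHomUnits.rangeRestrict_surjective
      have hRnc : ¬ ∀ a b : R, a * b = b * a := by
        intro hab
        apply hcomm
        intro g h
        have := hab ⟨ρ.toHomUnits g, g, rfl⟩ ⟨ρ.toHomUnits h, h, rfl⟩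
        have h3 := congrArg (fun u : R => ((u : (Module.End F V)ˣ) : Module.End F V)) this
        simpa using h3
      obtain ⟨⟨_, a, rfl⟩, ha1, ha2⟩ := exists_second_center hRp hRnc
      -- transfer to `P`
      have hcomR : ∀ g h : P, ρ a * ρ ⁅g, h⁆ = ρ ⁅g, h⁆ * ρ a := by
        intro g h
        have := commute_commutator_of_second (⟨ρ.toHomUnits a, a, rfl⟩ : R) ha2
          ⟨ρ.toHomUnits g, g, rfl⟩ ⟨ρ.toHomUnits h, h, rfl⟩
        have h3 := congrArg (fun u : R => ((u : (Module.End F V)ˣ) : Module.End F V)) this
        have e : ∀ (u v : P), (⁅(⟨ρ.toHomUnits u, u, rfl⟩ : R), (⟨ρ.toHomUnits v, v, rfl⟩ : R)⁆ : R)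
            = ⟨ρ.toHomUnits ⁅u, v⁆, ⁅u, v⁆, rfl⟩ := by
          intro u v
          ext1
          simp [commutatorElement_def]
        rw [e] at h3
        exact h3
      have hscal : ∀ g : P, ∃ c : F, ρ a * ρ g = c • (ρ g * ρ a) := by
        intro g
        have hc : ∀ k : P, ρ ⁅a, g⁆ * ρ k = ρ k * ρ ⁅a, g⁆ := by
          intro k
          have := Subgroup.mem_center_iff.mp (ha2 ⟨ρ.toHomUnits g, g, rfl⟩) ⟨ρ.toHomUnits k, k, rfl⟩
          have h3 := congrArg (fun u : R => ((u : (Module.End F V)ˣ) : Module.End F V)) this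
          have e : ∀ (u v : P), (⁅(⟨ρ.toHomUnits u, u, rfl⟩ : R), (⟨ρ.toHomUnits v, v, rfl⟩ : R)⁆ : R)
              = ⟨ρ.toHomUnits ⁅u, v⁆, ⁅u, v⁆, rfl⟩ := by
            intro u v
            ext1
            simp [commutatorElement_def]
          rw [e] at h3
          exact h3.symm
        obtain ⟨c, hc'⟩ := scalar_of_commute ρ hirr _ hc
        refine ⟨c, ?_⟩
        have h4 : ρ a * ρ g = ρ ⁅a, g⁆ * (ρ g * ρ a) := by
          rw [← map_mul, ← map_mul, ← map_mul]
          congr 1
          simp [commutatorElement_def]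
        rw [h4, hc']
        simp
      have hnoncomm : ∃ g₀ : P, ρ a * ρ g₀ ≠ ρ g₀ * ρ a := by
        by_contra hc
        push Not at hc
        apply ha1
        rw [Subgroup.mem_center_iff]
        rintro ⟨_, k, rfl⟩
        ext1
        ext1
        simpa using (hc k).symm
      obtain ⟨g₀, hg₀⟩ := hnoncomm
      obtain ⟨μ, hμ⟩ := Module.End.exists_eigenvalue (ρ a)
      set W := Module.End.eigenspace (ρ a) μ with hWdef
      -- `M`: the centraliser of `ρ a`.
      let M : Subgroup P :=
        { carrier := {g | ρ a * ρ g = ρ g * ρ a}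
          one_mem' := by simp
          mul_mem' := by
            intro g h hg hh
            simp only [Set.mem_setOf_eq] at *
            rw [map_mul, ← mul_assoc, hg, mul_assoc, hh, mul_assoc]
          inv_mem' := by
            intro g hg
            simp only [Set.mem_setOf_eq] at *
            have h1 : ρ g⁻¹ * ρ g = 1 := by rw [← map_mul]; simp
            have h2 : ρ g * ρ g⁻¹ = 1 := by rw [← map_mul]; simp
            calc ρ a * ρ g⁻¹ = ρ g⁻¹ * (ρ g * ρ a) * ρ g⁻¹ := by
                  rw [← mul_assoc, h1, one_mul]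
              _ = ρ g⁻¹ * (ρ a * ρ g) * ρ g⁻¹ := by rw [hg]
              _ = ρ g⁻¹ * ρ a * (ρ g * ρ g⁻¹) := by simp only [mul_assoc]
              _ = ρ g⁻¹ * ρ a := by rw [h2, mul_one] }
      have hMcomm : ⁅(⊤ : Subgroup P), (⊤ : Subgroup P)⁆ ≤ M := by
        rw [Subgroup.commutator_le]
        intro g _ h _
        exact hcomR g h
      haveI hMnormal : M.Normal := by
        constructor
        intro m hm g
        have : g * m * g⁻¹ = ⁅g, m⁆ * m := by
          simp [commutatorElement_def]
        rw [this]
        exact M.mul_mem (hMcomm (Subgroup.commutator_mem_commutator trivial trivial)) hm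
      have hWinv : ∀ g : M, ∀ w ∈ W, (ρ.comp M.subtype) g w ∈ W := by
        intro g w hw
        rw [hWdef, Module.End.mem_eigenspace_iff] at hw ⊢
        have := congrArg (fun f : Module.End F V => f w) g.2
        simp only [Module.End.mul_apply] at this
        show ρ a (ρ g w) = μ • ρ g w
        rw [this, hw, map_smul]
      -- dimension bound
      obtain ⟨c, hc⟩ := hscal g₀
      have hc1 : c ≠ 1 := by
        rintro rfl
        exact hg₀ (by simpa using hc)
      have hginj : Function.Injective (ρ g₀) := by
        intro u v huv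
        have h1 : ρ g₀⁻¹ * ρ g₀ = 1 := by rw [← map_mul]; simp
        have := congrArg (ρ g₀⁻¹) huv
        simpa [← Module.End.mul_apply, h1] using this
      have hμ0 : μ ≠ 0 := by
        rintro rfl
        obtain ⟨w, hw, hw0⟩ := (Submodule.ne_bot_iff W).mp hμ
        rw [hWdef, Module.End.mem_eigenspace_iff, zero_smul] at hw
        have h1 : ρ a⁻¹ * ρ a = 1 := by rw [← map_mul]; simp
        have := congrArg (ρ a⁻¹) hw
        apply hw0
        simpa [← Module.End.mul_apply, h1] using this
      have hdisj : Disjoint W (W.map (ρ g₀)) := by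
        rw [Submodule.disjoint_def]
        rintro u hu ⟨v, hv, rfl⟩
        have hv' : v ∈ W := hv
        rw [hWdef, Module.End.mem_eigenspace_iff] at hu hv'
        have h1 := congrArg (fun f : Module.End F V => f v) hc
        simp only [Module.End.mul_apply, LinearMap.smul_apply, hv', map_smul] at h1
        rw [hu] at h1
        have h2 : (μ - c * μ) • (ρ g₀ v) = 0 := by
          rw [sub_smul, h1, mul_smul, sub_self]
        have h3 : μ - c * μ ≠ 0 := by
          intro h
          have : (1 - c) * μ = 0 := by linear_combination h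
          rcases mul_eq_zero.mp this with h | h
          · exact hc1 (by linear_combination -h)
          · exact hμ0 h
        exact (smul_eq_zero.mp h2).resolve_left h3
      have hdim : 2 * Module.finrank F W ≤ n := by
        have h1 := Submodule.finrank_add_finrank_le_of_disjoint hdisj
        have h2 : Module.finrank F (W.map (ρ g₀)) = Module.finrank F W :=
          (Submodule.equivMapOfInjective (ρ g₀) hginj W).finrank_eq.symm
        rw [hV, h2] at h1
        omega
      have hWpos : 0 < Module.finrank F W := by
        rw [Module.finrank_pos_iff_exists_ne_zero]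
        obtain ⟨w, hw, hw0⟩ := (Submodule.ne_bot_iff W).mp hμ
        exact ⟨⟨w, hw⟩, by simpa using hw0⟩
      set m := Module.finrank F W with hm
      have hIH := IH m (by omega) W rfl (by omega) M (hP.to_subgroup M)
        (resRep (ρ.comp M.subtype) W hWinv)
      -- the invariant subspace of fixed points
      let D := dser M (Nat.log 2 m + 1)
      haveI hDn : D.Normal := dser_normal M _
      have hDW : ∀ y ∈ D, ∀ w ∈ W, ρ y w = w := by
        intro y hy w hw
        have hy' : y ∈ (derivedSeries M (Nat.log 2 m + 1)).map M.subtype := by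
          rw [derivedSeries_map_subtype]; exact hy
        obtain ⟨y', hy', rfl⟩ := hy'
        have := hIH y' hy'
        exact fix_of_res (ρ.comp M.subtype) W hWinv y' this w hw
      let T : Submodule F V :=
        { carrier := {v | ∀ y ∈ D, ρ y v = v}
          add_mem' := by
            intro u v hu hv y hy
            rw [map_add, hu y hy, hv y hy]
          zero_mem' := by
            intro y _
            simp
          smul_mem' := by
            intro c u hu y hy
            rw [map_smul, hu y hy] }
      have hTinv : ∀ g, ∀ v ∈ T, ρ g v ∈ T := by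
        intro g v hv y hy
        have hconj : g⁻¹ * y * g ∈ D := by
          have := hDn.conj_mem y hy g⁻¹
          simpa using this
        have h1 := hv _ hconj
        have h2 : ρ g (ρ (g⁻¹ * y * g) v) = ρ y (ρ g v) := by
          rw [← Module.End.mul_apply, ← map_mul, ← Module.End.mul_apply, ← map_mul]
          congr 2
          group
        rw [← h2, h1]
      have hWT : W ≤ T := fun w hw y hy => hDW y hy w hw
      have hTtop : T = ⊤ := by
        rcases hirr T hTinv with h | h
        · exfalso
          apply hμ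
          exact le_bot_iff.mp (h ▸ hWT)
        · exact h
      have hDtriv : ∀ y ∈ D, ρ y = 1 := by
        intro y hy
        ext1 v
        have : v ∈ T := by rw [hTtop]; trivial
        exact this y hy
      apply hDtriv
      have hlog : Nat.log 2 m + 1 ≤ Nat.log 2 n := by
        have h1 := Nat.log_mono_right (b := 2) hdim
        rwa [mul_comm, Nat.log_mul_base (by norm_num) (by omega)] at h1
      have hx2 : x ∈ derivedSeries P (Nat.log 2 m + 1 + 1) := hanti (by omega) hx
      rw [derivedSeries_eq_dser_top, dser_succ'] at hx2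
      exact dser_mono hMcomm _ hx2

end algclosed

section charp

universe u v w

variable {F : Type w} [Field F]

lemma exists_fixed_vector (p : ℕ) [Fact p.Prime] [CharP F p] {P : Type v} [Group P] [Finite P]
    (hP : IsPGroup p P) {V : Type u} [AddCommGroup V] [Module F V] [Nontrivial V]
    (ρ : P →* Module.End F V) : ∃ v : V, v ≠ 0 ∧ ∀ g, ρ g v = v := by
  classical
  obtain ⟨v, hv⟩ := exists_ne (0 : V)
  let S : AddSubgroup V := AddSubgroup.closure (Set.range fun g => ρ g v)
  have hpV : ∀ u : V, p • u = 0 := by
    intro u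
    have : (p : F) = 0 := CharP.cast_eq_zero F p
    rw [← Nat.cast_smul_eq_nsmul F, this, zero_smul]
  haveI hSfin : Finite S := by
    have hfg : AddGroup.FG S := by
      rw [AddGroup.fg_iff_addSubgroup_fg]
      exact ⟨(Set.finite_range (fun g => ρ g v)).toFinset, by simp [S]⟩
    have htors : AddMonoid.IsTorsion S := by
      intro x
      rw [isOfFinAddOrder_iff_nsmul_eq_zero]
      refine ⟨p, (Fact.out : p.Prime).pos, ?_⟩
      ext
      simpa using hpV _
    exact AddCommGroup.finite_of_fg_isAddTorsion S htors
  have hSinv : ∀ g, ∀ s ∈ S, ρ g s ∈ S := by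
    intro g s hs
    induction hs using AddSubgroup.closure_induction with
    | mem x hx =>
      obtain ⟨h, rfl⟩ := hx
      apply AddSubgroup.subset_closure
      refine ⟨g * h, ?_⟩
      simp
    | zero => simp
    | add x y _ _ hx hy => rw [map_add]; exact S.add_mem hx hy
    | neg x _ hx => rw [map_neg]; exact S.neg_mem hx
  let act : MulAction P S :=
    { smul := fun g s => ⟨ρ g s, hSinv g s s.2⟩
      one_smul := fun s => by
        apply Subtype.ext
        show ρ 1 s = s
        simp
      mul_smul := fun g h s => by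
        apply Subtype.ext
        show ρ (g * h) s = ρ g (ρ h s)
        simp }
  have hvS : v ∈ S := by
    apply AddSubgroup.subset_closure
    exact ⟨1, by simp⟩
  have hcard : p ∣ Nat.card S := by
    have h1 : addOrderOf (⟨v, hvS⟩ : S) = p := by
      haveI : Fact p.Prime := inferInstance
      apply addOrderOf_eq_prime
      · ext
        simpa using hpV v
      · intro h
        exact hv (congrArg Subtype.val h)
    rw [← h1]
    exact addOrderOf_dvd_natCard _
  have hzero : (0 : S) ∈ MulAction.fixedPoints P S := by
    intro g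
    apply Subtype.ext
    show ρ g 0 = 0
    simp
  obtain ⟨b, hb, hb0⟩ := hP.exists_fixed_point_of_prime_dvd_card_of_fixed_point S hcard hzero
  refine ⟨b, fun h => hb0 (Subtype.ext h.symm), fun g => ?_⟩
  exact congrArg Subtype.val (hb g)

lemma exists_invariant_of_finrank (p : ℕ) [Fact p.Prime] [CharP F p] {P : Type v} [Group P]
    [Finite P] (hP : IsPGroup p P) {V : Type u} [AddCommGroup V] [Module F V]
    [FiniteDimensional F V] (ρ : P →* Module.End F V) (m : ℕ) (hm : m ≤ Module.finrank F V) :
    ∃ W : Submodule F V, (∀ g, ∀ w ∈ W, ρ g w ∈ W) ∧ Module.finrank F W = m := by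
  induction m with
  | zero => exact ⟨⊥, by simp, by simp⟩
  | succ m ih =>
    obtain ⟨W, hW, hWm⟩ := ih (by omega)
    have hne : W ≠ ⊤ := by
      rintro rfl
      rw [finrank_top] at hWm
      omega
    haveI : Nontrivial (V ⧸ W) := Submodule.Quotient.nontrivial_iff.mpr hne
    obtain ⟨u, hu0, hu⟩ := exists_fixed_vector p hP (quotRep ρ W hW)
    obtain ⟨v, rfl⟩ := W.mkQ_surjective u
    have hvW : v ∉ W := by
      intro h
      apply hu0
      simpa using h
    refine ⟨W ⊔ Submodule.span F {v}, ?_, ?_⟩
    · intro g w hw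
      obtain ⟨a, ha, b, hb, rfl⟩ := Submodule.mem_sup.mp hw
      obtain ⟨c, rfl⟩ := Submodule.mem_span_singleton.mp hb
      rw [map_add, map_smul]
      apply Submodule.add_mem _ (Submodule.mem_sup_left (hW g a ha))
      apply Submodule.smul_mem
      have h1 : ρ g v - v ∈ W := by
        have := hu g
        rw [quotRep_mk] at this
        have h2 : W.mkQ (ρ g v - v) = 0 := by rw [map_sub, this, sub_self]
        exact (Submodule.Quotient.mk_eq_zero W).mp h2
      have h2 : ρ g v = (ρ g v - v) + v := by abel
      rw [h2]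
      exact Submodule.add_mem _ (Submodule.mem_sup_left h1)
        (Submodule.mem_sup_right (Submodule.mem_span_singleton_self v))
    · rw [Submodule.finrank_sup_span_singleton hvW, hWm]

theorem main_charp (p : ℕ) [Fact p.Prime] [CharP F p] :
    ∀ n : ℕ, ∀ (V : Type u) [AddCommGroup V] [Module F V] [FiniteDimensional F V],
      Module.finrank F V = n → 1 ≤ n → ∀ (P : Type v) [Group P] [Finite P], IsPGroup p P →
      ∀ ρ : P →* Module.End F V, ∀ x ∈ derivedSeries P (Nat.clog 2 n), ρ x = 1 := by
  intro n
  induction n using Nat.strong_induction_on with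
  | _ n IH =>
  intro V _ _ _ hV hn P _ _ hP ρ x hx
  haveI : Nontrivial V := Module.nontrivial_of_finrank_pos (R := F) (by omega)
  rcases Nat.lt_or_ge n 2 with h2 | h2
  · -- dimension one
    obtain rfl : n = 1 := by omega
    obtain ⟨v, hv0, hv⟩ := exists_fixed_vector p hP ρ
    ext1 u
    obtain ⟨c, rfl⟩ := (finrank_eq_one_iff_of_nonzero' v hv0).mp hV u
    simp [hv x]
  · set m := n / 2 with hm
    have hm1 : 1 ≤ m := by omega
    have hmn : m ≤ Module.finrank F V := by omega
    obtain ⟨W, hW, hWm⟩ := exists_invariant_of_finrank p hP ρ m hmn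
    have hab := Submodule.finrank_quotient_add_finrank W
    rw [hV, hWm] at hab
    have hquot : Module.finrank F (V ⧸ W) = (n + 1) / 2 := by omega
    have hclog : Nat.clog 2 n = Nat.clog 2 ((n + 1) / 2) + 1 := by
      rw [Nat.clog_of_two_le (by norm_num) h2]
      have : n + 2 - 1 = n + 1 := by omega
      rw [this]
    set k := Nat.clog 2 ((n + 1) / 2) with hk
    have hanti := derivedSeries_antitone (G := P)
    have hres : ∀ y ∈ derivedSeries P k, resRep ρ W hW y = 1 := by
      intro y hy
      refine IH m (by omega) W hWm hm1 P hP _ y (hanti ?_ hy)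
      exact Nat.clog_mono_right 2 (by omega)
    have hqt : ∀ y ∈ derivedSeries P k, quotRep ρ W hW y = 1 := by
      intro y hy
      refine IH ((n + 1) / 2) (by omega) (V ⧸ W) hquot (by omega) P hP _ y hy
    -- commutativity of the action of `derivedSeries P k`
    have hcomm : ∀ y ∈ derivedSeries P k, ∀ z ∈ derivedSeries P k, ρ y * ρ z = ρ z * ρ y := by
      intro y hy z hz
      ext1 v
      simp only [Module.End.mul_apply]
      have h1 := sub_one_mem_of_quot ρ W hW y (hqt y hy) v
      have h3 := sub_one_mem_of_quot ρ W hW z (hqt z hz) v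
      have h4 := fix_of_res ρ W hW y (hres y hy) _ h3
      have h5 := fix_of_res ρ W hW z (hres z hz) _ h1
      rw [map_sub] at h4 h5
      have e1 : ρ y (ρ z v) = ρ z v - v + ρ y v := by rw [← h4]; abel
      have e2 : ρ z (ρ y v) = ρ y v - v + ρ z v := by rw [← h5]; abel
      rw [e1, e2]
      abel
    have hle : derivedSeries P (k + 1) ≤ ρ.toHomUnits.ker := by
      rw [derivedSeries_succ, Subgroup.commutator_le]
      intro y hy z hz
      rw [MonoidHom.mem_ker, map_commutatorElement, commutatorElement_eq_one_iff_mul_comm]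
      ext1
      simpa using hcomm y hy z hz
    rw [hclog] at hx
    have := hle hx
    rw [MonoidHom.mem_ker] at this
    have h3 := congrArg Units.val this
    simpa using h3

end charp

end Cfsg.Agent.H12.LinDL
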