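import Mathlib
import Cfsg.Agent.Lib.H12.LinDL

/-! Fixed spaces of `p`-groups (`p` odd) on modules: `V = C_V(c) + C_V(d)` forces trivial action. -/

namespace Cfsg.Agent.H12.Imprim

open scoped commutatorElement
open Cfsg.Agent.H12.LinDL

universe u v w

section dim

variable {F : Type w} [Field F] {V : Type u} [AddCommGroup V] [Module F V] [FiniteDimensional F V]

/-- If `T A = ξ A T` with `A` invertible and `1, ξ, ξ²` distinct, the fixed space of `T` has
dimension at most a third of that of `V`. -/
lemma three_mul_finrank_fix_le (A T B : Module.End F V) (hAB : B * A = 1) (ξ : F)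
    (hT : T * A = ξ • (A * T)) (h1 : ξ ≠ 1) (h2 : ξ ^ 2 ≠ 1) (h0 : ξ ≠ 0) :
    3 * Module.finrank F (Module.End.eigenspace T 1) ≤ Module.finrank F V := by
  classical
  have hinj : Function.Injective A := by
    intro u v huv
    have := congrArg B huv
    simpa [← Module.End.mul_apply, hAB] using this
  have hmap : ∀ (μ : F) (v : V), v ∈ Module.End.eigenspace T μ →
      A v ∈ Module.End.eigenspace T (ξ * μ) := by
    intro μ v hv
    rw [Module.End.mem_eigenspace_iff] at hv ⊢
    have := congrArg (fun f : Module.End F V => f v) hT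
    simp only [Module.End.mul_apply, LinearMap.smul_apply, hv, map_smul] at this
    rw [this, smul_smul]
  have hle : ∀ μ : F, Module.finrank F (Module.End.eigenspace T μ) ≤
      Module.finrank F (Module.End.eigenspace T (ξ * μ)) := by
    intro μ
    have h3 : (Module.End.eigenspace T μ).map A ≤ Module.End.eigenspace T (ξ * μ) := by
      rintro _ ⟨v, hv, rfl⟩
      exact hmap μ v hv
    have h4 := Submodule.finrank_mono h3
    rwa [(Submodule.equivMapOfInjective A hinj _).finrank_eq.symm] at h4
  have hi := Module.End.eigenspaces_iSupIndep T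
  have hne1 : (1 : F) ≠ ξ := Ne.symm h1
  have hne2 : (1 : F) ≠ ξ ^ 2 := Ne.symm h2
  have hne3 : ξ ≠ ξ ^ 2 := by
    intro h
    apply h1
    have : ξ * (ξ - 1) = 0 := by linear_combination -h
    rcases mul_eq_zero.mp this with h | h
    · exact absurd h h0
    · linear_combination h
  have hd1 : Disjoint (Module.End.eigenspace T 1) (Module.End.eigenspace T ξ) := by
    have := hi.disjoint_biSup (x := (1 : F)) (y := {ξ}) (by simpa using hne1)
    simpa using this
  have hd2 : Disjoint (Module.End.eigenspace T (ξ ^ 2))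
      (Module.End.eigenspace T 1 ⊔ Module.End.eigenspace T ξ) := by
    have := hi.disjoint_biSup (x := ξ ^ 2) (y := {1, ξ}) (by
      simp only [Set.mem_insert_iff, Set.mem_singleton_iff, not_or]
      exact ⟨hne2.symm, hne3.symm⟩)
    rwa [iSup_pair] at this
  have h5 := Submodule.finrank_add_finrank_le_of_disjoint hd2
  have h6 := Submodule.finrank_add_finrank_le_of_disjoint hd1
  have h7 : Module.finrank F ↥(Module.End.eigenspace T 1 ⊔ Module.End.eigenspace T ξ) =
      Module.finrank F (Module.End.eigenspace T 1) + Module.finrank F (Module.End.eigenspace T ξ) := by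
    have := Submodule.finrank_sup_add_finrank_inf_eq (Module.End.eigenspace T 1) (Module.End.eigenspace T ξ)
    rw [hd1.eq_bot] at this
    simpa using this
  have h8 := hle 1
  have h9 := hle ξ
  rw [mul_one] at h8
  have h10 : ξ * ξ = ξ ^ 2 := by ring
  rw [h10] at h9
  rw [h7] at h5
  omega

end dim

section maschke

variable {F : Type w} [Field F] {P : Type v} [Group P] [Finite P]
  {V : Type u} [AddCommGroup V] [Module F V]

/-- Maschke by averaging. -/
lemma exists_invariant_compl (hcard : (Nat.card P : F) ≠ 0) (ρ : P →* Module.End F V)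
    (W : Submodule F V) (hW : ∀ g, ∀ w ∈ W, ρ g w ∈ W) :
    ∃ W' : Submodule F V, IsCompl W W' ∧ ∀ g, ∀ w ∈ W', ρ g w ∈ W' := by
  classical
  haveI := Fintype.ofFinite P
  obtain ⟨π₀, hπ₀⟩ := LinearMap.exists_leftInverse_of_injective W.subtype (Submodule.ker_subtype W)
  have hπ₀' : ∀ w : W, π₀ (w : V) = w := fun w => by
    have := congrArg (fun f : W →ₗ[F] W => f w) hπ₀
    simpa using this
  have hcard' : (Fintype.card P : F) ≠ 0 := by rwa [← Nat.card_eq_fintype_card]
  let π : V →ₗ[F] V := (Fintype.card P : F)⁻¹ • ∑ g : P, (ρ g) ∘ₗ W.subtype ∘ₗ π₀ ∘ₗ (ρ g⁻¹)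
  have happ : ∀ v, π v = (Fintype.card P : F)⁻¹ • ∑ g : P, ρ g (π₀ (ρ g⁻¹ v) : V) := by
    intro v
    simp [π, LinearMap.sum_apply]
  have hπW : ∀ v, π v ∈ W := by
    intro v
    rw [happ]
    apply W.smul_mem
    apply W.sum_mem
    intro g _
    exact hW g _ (π₀ (ρ g⁻¹ v)).2
  have hπid : ∀ w ∈ W, π w = w := by
    intro w hw
    rw [happ]
    have : ∀ g : P, ρ g (π₀ (ρ g⁻¹ w) : V) = w := by
      intro g
      have h1 := hπ₀' ⟨ρ g⁻¹ w, hW _ _ hw⟩
      have h2 : π₀ (ρ g⁻¹ w) = ⟨ρ g⁻¹ w, hW _ _ hw⟩ := h1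
      rw [h2]
      show ρ g (ρ g⁻¹ w) = w
      rw [← Module.End.mul_apply, ← map_mul]
      simp
    simp only [this, Finset.sum_const, Finset.card_univ]
    rw [← Nat.cast_smul_eq_nsmul F, smul_smul, inv_mul_cancel₀ hcard', one_smul]
  have hπeq : ∀ (h : P) (v : V), π (ρ h v) = ρ h (π v) := by
    intro h v
    rw [happ, happ, map_smul, map_sum]
    congr 1
    refine Fintype.sum_equiv (Equiv.mulLeft h⁻¹) _ _ ?_
    intro g
    simp only [Equiv.coe_mulLeft]
    have e1 : ρ g⁻¹ (ρ h v) = ρ (h⁻¹ * g)⁻¹ v := by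
      rw [← Module.End.mul_apply, ← map_mul]
      simp
    have e2 : ρ g (π₀ (ρ (h⁻¹ * g)⁻¹ v) : V) = ρ h (ρ (h⁻¹ * g) (π₀ (ρ (h⁻¹ * g)⁻¹ v) : V)) := by
      rw [← Module.End.mul_apply, ← map_mul]
      simp
    rw [e1, e2]
  refine ⟨LinearMap.ker π, ?_, ?_⟩
  · constructor
    · rw [Submodule.disjoint_def]
      intro x hx hx'
      rw [LinearMap.mem_ker] at hx'
      rw [← hπid x hx, hx']
    · rw [codisjoint_iff, eq_top_iff]
      intro v _
      have : v = π v + (v - π v) := by abel
      rw [this]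
      refine Submodule.add_mem_sup (hπW v) ?_
      rw [LinearMap.mem_ker, map_sub, hπid _ (hπW v), sub_self]
  · intro g w hw
    rw [LinearMap.mem_ker] at hw ⊢
    rw [hπeq, hw, map_zero]

end maschke

section main

variable {F : Type w} [Field F]

/-- The main theorem over an algebraically closed field. -/
theorem fix_sum_main [IsAlgClosed F] (p : ℕ) [Fact p.Prime] (hp3 : 3 ≤ p) (hp : (p : F) ≠ 0) :
    ∀ n : ℕ, ∀ (V : Type u) [AddCommGroup V] [Module F V] [FiniteDimensional F V],
      Module.finrank F V = n → ∀ (P : Type v) [Group P] [Finite P], IsPGroup p P →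
      ∀ ρ : P →* Module.End F V, ∀ C D : Set P,
        Subgroup.closure C = ⊤ → Subgroup.closure D = ⊤ →
        (∀ c ∈ C, ∀ d ∈ D, ∀ v : V, ∃ u w : V, v = u + w ∧ ρ c u = u ∧ ρ d w = w) →
        ∀ x, ρ x = 1 := by
  intro n
  induction n using Nat.strong_induction_on with
  | _ n IH =>
  intro V _ _ _ hV P _ _ hP ρ C D hC hD hfix x
  rcases Nat.eq_zero_or_pos n with hn | hn
  · -- trivial space
    subst hn
    haveI : Subsingleton V := Module.finrank_zero_iff.mp hV
    ext1 v
    exact Subsingleton.elim _ _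
  haveI : Nontrivial V := Module.nontrivial_of_finrank_pos (R := F) (by omega)
  have hcardP : (Nat.card P : F) ≠ 0 := by
    obtain ⟨m, hm⟩ := IsPGroup.iff_card.mp hP
    rw [hm]
    push_cast
    exact pow_ne_zero _ hp
  by_cases hred : ∃ W : Submodule F V, (∀ g, ∀ w ∈ W, ρ g w ∈ W) ∧ W ≠ ⊥ ∧ W ≠ ⊤
  · obtain ⟨W, hW, hW0, hW1⟩ := hred
    obtain ⟨W', hcompl, hW'⟩ := exists_invariant_compl hcardP ρ W hW
    have hW'0 : W' ≠ ⊥ := by
      rintro rfl
      apply hW1
      simpa using hcompl.sup_eq_top
    have hfinpos : ∀ U : Submodule F V, U ≠ ⊥ → 0 < Module.finrank F U := by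
      intro U hU
      rw [Module.finrank_pos_iff_exists_ne_zero]
      obtain ⟨w, hw, hw0⟩ := (Submodule.ne_bot_iff U).mp hU
      exact ⟨⟨w, hw⟩, by simpa using hw0⟩
    -- the quotient argument
    have hq : ∀ U : Submodule F V, U ≠ ⊥ → ∀ (hU : ∀ g, ∀ w ∈ U, ρ g w ∈ U),
        quotRep ρ U hU x = 1 := by
      intro U hU0 hU
      have hab := Submodule.finrank_quotient_add_finrank U
      have hpos := hfinpos U hU0
      rw [hV] at hab
      refine IH _ (by omega) (V ⧸ U) rfl P hP _ C D hC hD ?_ x
      intro c hc d hd v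
      obtain ⟨v, rfl⟩ := U.mkQ_surjective v
      obtain ⟨u, w, rfl, hu, hw⟩ := hfix c hc d hd v
      refine ⟨U.mkQ u, U.mkQ w, by rw [map_add], ?_, ?_⟩
      · rw [quotRep_mk, hu]
      · rw [quotRep_mk, hw]
    ext1 v
    have h1 := sub_one_mem_of_quot ρ W hW x (hq W hW0 hW) v
    have h2 := sub_one_mem_of_quot ρ W' hW' x (hq W' hW'0 hW') v
    have h3 : ρ x v - v ∈ W ⊓ W' := ⟨h1, h2⟩
    rw [hcompl.inf_eq_bot, Submodule.mem_bot] at h3
    simpa [sub_eq_zero] using h3
  · have hirr : ∀ W : Submodule F V, (∀ g, ∀ w ∈ W, ρ g w ∈ W) → W = ⊥ ∨ W = ⊤ := by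
      intro W hW
      by_contra hc
      push Not at hc
      exact hred ⟨W, hW, hc.1, hc.2⟩
    -- a generating set contains an element outside any proper subgroup
    have hout : ∀ (M : Subgroup P) (S : Set P), Subgroup.closure S = ⊤ → M ≠ ⊤ → ∃ s ∈ S, s ∉ M := by
      intro M S hS hM
      by_contra hc
      push Not at hc
      apply hM
      rw [eq_top_iff, ← hS, Subgroup.closure_le]
      exact hc
    by_contra hx
    have hx1 : ρ.toHomUnits.ker ≠ ⊤ := by
      intro h
      apply hx
      have : x ∈ ρ.toHomUnits.ker := by rw [h]; trivial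
      rw [MonoidHom.mem_ker] at this
      have h3 := congrArg Units.val this
      simpa using h3
    by_cases hcomm : ∀ g h : P, ρ g * ρ h = ρ h * ρ g
    · -- abelian image: all elements act as scalars
      obtain ⟨c, hc, hc'⟩ := hout _ C hC hx1
      obtain ⟨d, hd, hd'⟩ := hout _ D hD hx1
      have hne : ∀ y, y ∉ ρ.toHomUnits.ker → ∀ u : V, ρ y u = u → u = 0 := by
        intro y hy u hu
        obtain ⟨α, hα⟩ := scalar_of_commute ρ hirr (ρ y) (fun g => hcomm y g)
        have hα1 : α ≠ 1 := by
          rintro rfl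
          apply hy
          rw [MonoidHom.mem_ker]
          ext1
          simpa using hα
        rw [hα] at hu
        simp only [LinearMap.smul_apply, Module.End.one_apply] at hu
        have h2 : (α - 1) • u = 0 := by rw [sub_smul, hu, one_smul, sub_self]
        exact (smul_eq_zero.mp h2).resolve_left (sub_ne_zero.mpr hα1)
      obtain ⟨v, hv⟩ := exists_ne (0 : V)
      obtain ⟨u, w, rfl, hu, hw⟩ := hfix c hc d hd v
      apply hv
      rw [hne c hc' u hu, hne d hd' w hw, add_zero]
    · -- non-abelian image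
      let R := ρ.toHomUnits.range
      haveI : Finite R :=
        Finite.of_surjective ρ.toHomUnits.rangeRestrict ρ.toHomUnits.rangeRestrict_surjective
      have hRp : IsPGroup p R :=
        IsPGroup.of_surjective hP ρ.toHomUnits.rangeRestrict ρ.toHomUnits.rangeRestrict_surjective
      have hRnc : ¬ ∀ a b : R, a * b = b * a := by
        intro hab
        apply hcomm
        intro g h
        have := hab ⟨ρ.toHomUnits g, g, rfl⟩ ⟨ρ.toHomUnits h, h, rfl⟩
        have h3 := congrArg (fun u : R => ((u : (Module.End F V)ˣ) : Module.End F V)) this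
        simpa using h3
      obtain ⟨⟨_, a, rfl⟩, ha1, ha2⟩ := exists_second_center hRp hRnc
      have hscal : ∀ g : P, ∃ c : F, ρ a * ρ g = c • (ρ g * ρ a) := by
        intro g
        have hc : ∀ k : P, ρ ⁅a, g⁆ * ρ k = ρ k * ρ ⁅a, g⁆ := by
          intro k
          have := Subgroup.mem_center_iff.mp (ha2 ⟨ρ.toHomUnits g, g, rfl⟩) ⟨ρ.toHomUnits k, k, rfl⟩
          have h3 := congrArg (fun u : R => ((u : (Module.End F V)ˣ) : Module.End F V)) this
          have e : ∀ (u v : P), (⁅(⟨ρ.toHomUnits u, u, rfl⟩ : R), (⟨ρ.toHomUnits v, v, rfl⟩ : R)⁆ : R)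
              = ⟨ρ.toHomUnits ⁅u, v⁆, ⁅u, v⁆, rfl⟩ := by
            intro u v
            ext1
            simp [commutatorElement_def]
          rw [e] at h3
          exact h3.symm
        obtain ⟨c, hc'⟩ := scalar_of_commute ρ hirr _ hc
        refine ⟨c, ?_⟩
        have h4 : ρ a * ρ g = ρ ⁅a, g⁆ * (ρ g * ρ a) := by
          rw [← map_mul, ← map_mul, ← map_mul]
          congr 1
          simp [commutatorElement_def]
        rw [h4, hc']
        simp
      have hnoncomm : ∃ g₀ : P, ρ a * ρ g₀ ≠ ρ g₀ * ρ a := by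
        by_contra hc
        push Not at hc
        apply ha1
        rw [Subgroup.mem_center_iff]
        rintro ⟨_, k, rfl⟩
        ext1
        ext1
        simpa using (hc k).symm
      obtain ⟨g₀, hg₀⟩ := hnoncomm
      let M : Subgroup P :=
        { carrier := {g | ρ a * ρ g = ρ g * ρ a}
          one_mem' := by simp
          mul_mem' := by
            intro g h hg hh
            simp only [Set.mem_setOf_eq] at *
            rw [map_mul, ← mul_assoc, hg, mul_assoc, hh, mul_assoc]
          inv_mem' := by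
            intro g hg
            simp only [Set.mem_setOf_eq] at *
            have h1 : ρ g⁻¹ * ρ g = 1 := by rw [← map_mul]; simp
            have h2 : ρ g * ρ g⁻¹ = 1 := by rw [← map_mul]; simp
            calc ρ a * ρ g⁻¹ = ρ g⁻¹ * (ρ g * ρ a) * ρ g⁻¹ := by
                  rw [← mul_assoc, h1, one_mul]
              _ = ρ g⁻¹ * (ρ a * ρ g) * ρ g⁻¹ := by rw [hg]
              _ = ρ g⁻¹ * ρ a * (ρ g * ρ g⁻¹) := by simp only [mul_assoc]
              _ = ρ g⁻¹ * ρ a := by rw [h2, mul_one] }
      have hMne : M ≠ ⊤ := by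
        intro h
        apply hg₀
        have : g₀ ∈ M := by rw [h]; trivial
        exact this
      -- a general dimension bound for elements outside `M`
      have hB : ρ a⁻¹ * ρ a = 1 := by rw [← map_mul]; simp
      have hdimfix : ∀ g, g ∉ M → 3 * Module.finrank F (Module.End.eigenspace (ρ g) 1) ≤ n := by
        intro g hg
        obtain ⟨c, hc⟩ := hscal g
        have hc0 : c ≠ 0 := by
          rintro rfl
          rw [zero_smul] at hc
          have h1 : ρ g⁻¹ * (ρ a⁻¹ * (ρ a * ρ g)) = 1 := by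
            rw [← mul_assoc (ρ a⁻¹), hB, one_mul, ← map_mul]
            simp
          rw [hc] at h1
          simp at h1
        have hc1 : c ≠ 1 := by
          rintro rfl
          apply hg
          show ρ a * ρ g = ρ g * ρ a
          simpa using hc
        have hT : ρ g * ρ a = c⁻¹ • (ρ a * ρ g) := by
          rw [hc, smul_smul, inv_mul_cancel₀ hc0, one_smul]
        -- powers
        have hpow : ∀ k : ℕ, ρ (g ^ k) * ρ a = (c⁻¹) ^ k • (ρ a * ρ (g ^ k)) := by
          intro k
          induction k with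
          | zero => simp
          | succ k ih =>
            rw [pow_succ', map_mul, mul_assoc, ih, mul_smul_comm, ← mul_assoc, hT, smul_mul_assoc,
              smul_smul, pow_succ', mul_assoc]
            congr 1
            ring
        obtain ⟨e, he⟩ := (IsPGroup.iff_orderOf.mp hP) g
        have hp1 : (c⁻¹) ^ (p ^ e) = 1 := by
          have h3 := hpow (p ^ e)
          rw [← he, pow_orderOf_eq_one, map_one, one_mul, mul_one] at h3
          rw [← he]
          have h4 : ((c⁻¹) ^ orderOf g - 1) • ρ a = 0 := by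
            rw [sub_smul, ← h3, one_smul, sub_self]
          rcases smul_eq_zero.mp h4 with h5 | h5
          · exact sub_eq_zero.mp h5
          · exfalso
            have h6 : ρ a⁻¹ * ρ a = 1 := hB
            rw [h5, mul_zero] at h6
            exact zero_ne_one h6
        have hcinv1 : c⁻¹ ≠ 1 := by
          intro h
          apply hc1
          rw [← inv_inv c, h, inv_one]
        have hcinv2 : (c⁻¹) ^ 2 ≠ 1 := by
          intro h
          apply hcinv1
          have hodd : Nat.Coprime 2 (p ^ e) :=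
            ((Nat.coprime_primes Nat.prime_two Fact.out).mpr (by omega)).pow_right e
          have := pow_gcd_eq_one.mpr ⟨h, hp1⟩
          rwa [hodd.gcd_eq_one, pow_one] at this
        exact hV ▸ three_mul_finrank_fix_le (ρ a) (ρ g) (ρ a⁻¹) hB c⁻¹ hT hcinv1 hcinv2 (inv_ne_zero hc0)
      obtain ⟨c, hc, hc'⟩ := hout M C hC hMne
      obtain ⟨d, hd, hd'⟩ := hout M D hD hMne
      have h1 := hdimfix c hc'
      have h2 := hdimfix d hd'
      have htop : Module.End.eigenspace (ρ c) 1 ⊔ Module.End.eigenspace (ρ d) 1 = ⊤ := by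
        rw [eq_top_iff]
        intro v _
        obtain ⟨u, w, rfl, hu, hw⟩ := hfix c hc d hd v
        refine Submodule.add_mem_sup ?_ ?_
        · rw [Module.End.mem_eigenspace_iff, hu, one_smul]
        · rw [Module.End.mem_eigenspace_iff, hw, one_smul]
      have h3 := Submodule.finrank_add_le_finrank_add_finrank (Module.End.eigenspace (ρ c) 1) (Module.End.eigenspace (ρ d) 1)
      rw [htop, finrank_top, hV] at h3
      omega

end main

section basechange

open TensorProduct

theorem fix_sum_field {K₀ : Type w} [Field K₀] (p : ℕ) [Fact p.Prime] (hp3 : 3 ≤ p)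
    (hp : (p : K₀) ≠ 0) {V : Type u} [AddCommGroup V] [Module K₀ V] [FiniteDimensional K₀ V]
    {P : Type v} [Group P] [Finite P] (hP : IsPGroup p P) (ρ : P →* Module.End K₀ V)
    (C D : Set P) (hC : Subgroup.closure C = ⊤) (hD : Subgroup.closure D = ⊤)
    (hfix : ∀ c ∈ C, ∀ d ∈ D, ∀ v : V, ∃ u w : V, v = u + w ∧ ρ c u = u ∧ ρ d w = w) (x : P) :
    ρ x = 1 := by
  let K := AlgebraicClosure K₀
  let β := Module.End.baseChangeHom K₀ K V
  let ρK : P →* Module.End K (K ⊗[K₀] V) := (β : Module.End K₀ V →* Module.End K (K ⊗[K₀] V)).comp ρ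
  have hK : (p : K) ≠ 0 := by
    intro h
    apply hp
    apply (algebraMap K₀ K).injective
    simpa using h
  have happ : ∀ (g : P) (k : K) (v : V), ρK g (k ⊗ₜ[K₀] v) = k ⊗ₜ[K₀] (ρ g v) := by
    intro g k v
    rfl
  have h := fix_sum_main (F := K) p hp3 hK _ (K ⊗[K₀] V) rfl P hP ρK C D hC hD (by
    intro c hc d hd t
    induction t using TensorProduct.induction_on with
    | zero => exact ⟨0, 0, by simp, by simp, by simp⟩
    | tmul k v =>
      obtain ⟨u, w, rfl, hu, hw⟩ := hfix c hc d hd v
      refine ⟨k ⊗ₜ[K₀] u, k ⊗ₜ[K₀] w, TensorProduct.tmul_add _ _ _, ?_, ?_⟩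
      · rw [happ, hu]
      · rw [happ, hw]
    | add a b ha hb =>
      obtain ⟨u, w, rfl, hu, hw⟩ := ha
      obtain ⟨u', w', rfl, hu', hw'⟩ := hb
      refine ⟨u + u', w + w', by abel, ?_, ?_⟩
      · rw [map_add, hu, hu']
      · rw [map_add, hw, hw']) x
  apply LinearMap.baseChangeHom_injective K₀ V K
  have h2 : β (ρ x) = 1 := h
  have h3 : β 1 = 1 := map_one β
  exact h2.trans h3.symm

/-- The additive version: a `ZMod q`-module with a `P`-action by additive maps. -/
theorem fix_sum_zmod {A : Type u} [AddCommGroup A] [Finite A] {q : ℕ} [hq : Fact q.Prime]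
    [Module (ZMod q) A] (p : ℕ) [Fact p.Prime] (hp3 : 3 ≤ p) (hpq : p ≠ q)
    {P : Type v} [Group P] [Finite P] (hP : IsPGroup p P) (φ : P → A → A)
    (hadd : ∀ g a b, φ g (a + b) = φ g a + φ g b) (hone : ∀ a, φ 1 a = a)
    (hmul : ∀ g h a, φ (g * h) a = φ g (φ h a))
    (C D : Set P) (hC : Subgroup.closure C = ⊤) (hD : Subgroup.closure D = ⊤)
    (hfix : ∀ c ∈ C, ∀ d ∈ D, ∀ v : A, ∃ u w : A, v = u + w ∧ φ c u = u ∧ φ d w = w)
    (x : P) (v : A) : φ x v = v := by
  haveI : FiniteDimensional (ZMod q) A := Module.Finite.of_finite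
  let ρ₀ : P → Module.End (ZMod q) A := fun g =>
    AddMonoidHom.toZModLinearMap q (AddMonoidHom.mk' (φ g) (hadd g))
  have h0 : ∀ g a, ρ₀ g a = φ g a := fun _ _ => rfl
  let ρ : P →* Module.End (ZMod q) A :=
    { toFun := ρ₀
      map_one' := by
        refine LinearMap.ext fun a => ?_
        rw [h0, Module.End.one_apply]
        exact hone a
      map_mul' := by
        intro g h
        refine LinearMap.ext fun a => ?_
        rw [h0, Module.End.mul_apply, h0, h0]
        exact hmul g h a }
  have hρ : ∀ g a, ρ g a = φ g a := fun _ _ => rfl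
  have hp' : (p : ZMod q) ≠ 0 := by
    intro h
    rw [ZMod.natCast_eq_zero_iff] at h
    exact hpq ((Nat.prime_dvd_prime_iff_eq hq.out Fact.out).mp h).symm
  have h := fix_sum_field (K₀ := ZMod q) p hp3 hp' hP ρ C D hC hD (by
    intro c hc d hd a
    obtain ⟨u, w, h1, h2, h3⟩ := hfix c hc d hd a
    exact ⟨u, w, h1, by rw [hρ, h2], by rw [hρ, h3]⟩) x
  rw [← hρ, h, Module.End.one_apply]

/-- The group version: `E` elementary abelian. -/
theorem fix_sum_mul {E : Type u} [CommGroup E] [Finite E] {q : ℕ} [hq : Fact q.Prime]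
    (hE : ∀ x : E, x ^ q = 1) (p : ℕ) [Fact p.Prime] (hp3 : 3 ≤ p) (hpq : p ≠ q)
    {P : Type v} [Group P] [Finite P] (hP : IsPGroup p P) (φ : P → E → E)
    (hadd : ∀ g a b, φ g (a * b) = φ g a * φ g b) (hone : ∀ a, φ 1 a = a)
    (hmul : ∀ g h a, φ (g * h) a = φ g (φ h a))
    (C D : Set P) (hC : Subgroup.closure C = ⊤) (hD : Subgroup.closure D = ⊤)
    (hfix : ∀ c ∈ C, ∀ d ∈ D, ∀ v : E, ∃ u w : E, v = u * w ∧ φ c u = u ∧ φ d w = w)
    (x : P) (v : E) : φ x v = v := by
  letI : Module (ZMod q) (Additive E) :=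
    AddCommGroup.zmodModule (fun a => by
      show Additive.ofMul ((Additive.toMul a) ^ q) = 0
      rw [hE]; rfl)
  have := fix_sum_zmod (A := Additive E) p hp3 hpq hP
    (fun g a => Additive.ofMul (φ g (Additive.toMul a)))
    (fun g a b => by
      show Additive.ofMul (φ g (Additive.toMul a * Additive.toMul b)) = _
      rw [hadd]
      rfl)
    (fun a => by
      show Additive.ofMul (φ 1 (Additive.toMul a)) = a
      rw [hone]
      rfl)
    (fun g h a => by
      show Additive.ofMul (φ (g * h) (Additive.toMul a)) = _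
      rw [hmul]
      rfl)
    C D hC hD (by
      intro c hc d hd a
      obtain ⟨u, w, h1, h2, h3⟩ := hfix c hc d hd (Additive.toMul a)
      refine ⟨Additive.ofMul u, Additive.ofMul w, ?_, ?_, ?_⟩
      · show a = Additive.ofMul (u * w)
        rw [← h1]; rfl
      · show Additive.ofMul (φ c u) = _
        rw [h2]
      · show Additive.ofMul (φ d w) = _
        rw [h3]) x (Additive.ofMul v)
  exact Additive.ofMul.injective this

end basechange

end Cfsg.Agent.H12.Imprim
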