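import Mathlib
import Cfsg.Agent.Lib.H12.Imprim
import Cfsg.Agent.Lib.H01.Coprime3
import Cfsg.Agent.Lib.H06.OddPGroup
import Cfsg.Agent.Lib.H06.Stable

/-! The group theoretic part of the `⟨c^x, d⟩` theorem. -/

namespace Cfsg.Agent.H12.Imprim2

open scoped Pointwise
open Cfsg.Agent.H12.Imprim
open Cfsg.Agent.H06 (phiSub phiSub_le comm_mem_phiSub pow_mem_phiSub phiSub_conj_mem
  phiSub_invariant phiSub_ne)

universe u

variable {G : Type u} [Group G] [Finite G] {p : ℕ} [hp : Fact p.Prime]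

/-- A `p`-subgroup of `Q P` is conjugate into `P` by an element of `Q`. -/
lemma conj_into_sylow (P : Sylow p G) (Q : Subgroup G)
    (hQ : (P : Subgroup G) ≤ Subgroup.normalizer (Q : Set G)) (H : Subgroup G)
    (hH : IsPGroup p H) (hHL : H ≤ Q ⊔ (P : Subgroup G)) :
    ∃ y ∈ Q, ∀ h ∈ H, y⁻¹ * h * y ∈ (P : Subgroup G) := by
  set L : Subgroup G := Q ⊔ (P : Subgroup G) with hL
  have hPL : (P : Subgroup G) ≤ L := le_sup_right
  let P' : Sylow p L := P.subtype hPL
  have hH' : IsPGroup p (H.subgroupOf L) := hH.comap_of_injective L.subtype L.subtype_injective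
  obtain ⟨S, hS⟩ := hH'.exists_le_sylow
  obtain ⟨l, hl⟩ := MulAction.exists_smul_eq L P' S
  have hmem : (l : G) ∈ ((Q * (P : Subgroup G) : Set G)) := by
    rw [← Subgroup.coe_mul_of_right_le_normalizer_left Q (P : Subgroup G) hQ]
    exact l.2
  obtain ⟨y, hy, z, hz, hyz⟩ := hmem
  refine ⟨y, hy, ?_⟩
  intro h hh
  have h1 : (⟨h, hHL hh⟩ : L) ∈ (S : Subgroup L) := hS hh
  rw [← hl, Sylow.coe_subgroup_smul, Subgroup.mem_pointwise_smul_iff_inv_smul_mem] at h1
  have h2 : ((l⁻¹ : L) : G) * h * l ∈ (P : Subgroup G) := by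
    have : (MulAut.conj l)⁻¹ • (⟨h, hHL hh⟩ : L) ∈ ((P' : Subgroup L)) := h1
    have h3 : ((MulAut.conj l)⁻¹ • (⟨h, hHL hh⟩ : L) : L) = l⁻¹ * ⟨h, hHL hh⟩ * l := by
      simp [MulAut.smul_def, MulAut.conj_symm_apply]
    rw [h3] at this
    exact this
  have h4 : y⁻¹ * h * y = z * (((l⁻¹ : L) : G) * h * l) * z⁻¹ := by
    simp only [InvMemClass.coe_inv, ← hyz]
    group
  rw [h4]
  exact Subgroup.mul_mem _ (Subgroup.mul_mem _ hz h2) (Subgroup.inv_mem _ hz)

/-- The decomposition coming from the `p`-group hypothesis. -/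
lemma decomp_of_pgroup (P : Sylow p G) (Q : Subgroup G)
    (hQ : (P : Subgroup G) ≤ Subgroup.normalizer (Q : Set G))
    (hQP : ∀ z, z ∈ Q → z ∈ (P : Subgroup G) → z = 1)
    {c d x : G} (hc : c ∈ (P : Subgroup G)) (hd : d ∈ (P : Subgroup G)) (hx : x ∈ Q)
    (h : IsPGroup p ↥(Subgroup.closure ({x * c * x⁻¹, d} : Set G))) :
    ∃ y ∈ Q, ∃ w ∈ Q, x = y * w ∧ d * y = y * d ∧ c * w = w * c := by
  have hle : Subgroup.closure ({x * c * x⁻¹, d} : Set G) ≤ Q ⊔ (P : Subgroup G) := by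
    rw [Subgroup.closure_le]
    rintro g (rfl | rfl)
    · have hx' : x ∈ Q ⊔ (P : Subgroup G) := Subgroup.mem_sup_left hx
      have hc' : c ∈ Q ⊔ (P : Subgroup G) := Subgroup.mem_sup_right hc
      exact Subgroup.mul_mem _ (Subgroup.mul_mem _ hx' hc') (Subgroup.inv_mem _ hx')
    · exact Subgroup.mem_sup_right hd
  obtain ⟨y, hy, hH⟩ := conj_into_sylow P Q hQ _ h hle
  -- normalizer action
  have hconj : ∀ g ∈ (P : Subgroup G), ∀ u ∈ Q, g * u * g⁻¹ ∈ Q := by
    intro g hg u hu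
    exact (Subgroup.mem_normalizer_iff.mp (hQ hg) u).mp hu
  have key : ∀ g ∈ (P : Subgroup G), ∀ u ∈ Q, u * g * u⁻¹ ∈ (P : Subgroup G) → g * u = u * g := by
    intro g hg u hu hm
    have h1 : u * g * u⁻¹ * g⁻¹ ∈ (P : Subgroup G) :=
      Subgroup.mul_mem _ hm (Subgroup.inv_mem _ hg)
    have h2 : u * g * u⁻¹ * g⁻¹ ∈ Q := by
      have : u * g * u⁻¹ * g⁻¹ = u * (g * u⁻¹ * g⁻¹) := by group
      rw [this]
      exact Subgroup.mul_mem _ hu (hconj g hg _ (Subgroup.inv_mem _ hu))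
    have h3 := hQP _ h2 h1
    have h4 : u * g * u⁻¹ = g := by
      have := mul_inv_eq_one.mp h3
      exact this
    rw [mul_inv_eq_iff_eq_mul] at h4
    exact h4.symm
  refine ⟨y, hy, y⁻¹ * x, Subgroup.mul_mem _ (Subgroup.inv_mem _ hy) hx, by group, ?_, ?_⟩
  · have h1 := hH d (Subgroup.subset_closure (by simp))
    apply key d hd y hy
    -- `y⁻¹ d y ∈ P`, need `y d y⁻¹ ∈ P`: go through the inverse element
    have h2 : d * y⁻¹ = y⁻¹ * d := by
      apply key d hd y⁻¹ (Subgroup.inv_mem _ hy)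
      simpa using h1
    have h5 : y * d * y⁻¹ = d := by
      rw [mul_assoc, h2]
      group
    rw [h5]
    exact hd
  · have h1 := hH (x * c * x⁻¹) (Subgroup.subset_closure (by simp))
    apply key c hc _ (Subgroup.mul_mem _ (Subgroup.inv_mem _ hy) hx)
    have h3 : y⁻¹ * x * c * (y⁻¹ * x)⁻¹ = y⁻¹ * (x * c * x⁻¹) * y := by group
    rw [h3]
    exact h1

/-- The module step: `P` acts trivially on `Q / Φ(Q)`. -/
theorem comm_mem_phiSub_of_decomp (P : Sylow p G) {q : ℕ} [hq : Fact q.Prime] (hp3 : 3 ≤ p)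
    (hpq : p ≠ q) (Q : Subgroup G) (hQ : (P : Subgroup G) ≤ Subgroup.normalizer (Q : Set G))
    (C D : Set G) (hC : Subgroup.closure C = (P : Subgroup G))
    (hD : Subgroup.closure D = (P : Subgroup G))
    (hdec : ∀ c ∈ C, ∀ d ∈ D, ∀ x ∈ Q, ∃ y ∈ Q, ∃ w ∈ Q, x = y * w ∧ d * y = y * d ∧ c * w = w * c)
    (g : G) (hg : g ∈ (P : Subgroup G)) (x : G) (hx : x ∈ Q) :
    g * x * g⁻¹ * x⁻¹ ∈ phiSub q Q := by
  classical
  have hconj : ∀ g ∈ (P : Subgroup G), ∀ u ∈ Q, g * u * g⁻¹ ∈ Q := by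
    intro g hg u hu
    exact (Subgroup.mem_normalizer_iff.mp (hQ hg) u).mp hu
  let Φ : Subgroup Q := (phiSub q Q).subgroupOf Q
  haveI hΦ : Φ.Normal := by
    constructor
    intro n hn k
    exact phiSub_conj_mem q Q k.2 hn
  -- the quotient
  let E₀ := Q ⧸ Φ
  have hcomm : ∀ a b : E₀, a * b = b * a := by
    intro a b
    obtain ⟨a, rfl⟩ := QuotientGroup.mk_surjective a
    obtain ⟨b, rfl⟩ := QuotientGroup.mk_surjective b
    rw [← QuotientGroup.mk_mul, ← QuotientGroup.mk_mul, QuotientGroup.eq]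
    show ((a * b)⁻¹ * (b * a) : Q).1 ∈ phiSub q Q
    have h2 : (((a * b)⁻¹ * (b * a) : Q) : G) =
        ((b : G)⁻¹ * (a : G)⁻¹ * ((b : G)⁻¹)⁻¹ * ((a : G)⁻¹)⁻¹) := by
      simp [mul_assoc]
    rw [h2]
    exact comm_mem_phiSub q Q (Q.inv_mem b.2) (Q.inv_mem a.2)
  letI : CommGroup E₀ := { (inferInstance : Group E₀) with mul_comm := hcomm }
  have hexp : ∀ a : E₀, a ^ q = 1 := by
    intro a
    obtain ⟨a, rfl⟩ := QuotientGroup.mk_surjective a
    rw [← QuotientGroup.mk_pow, QuotientGroup.eq_one_iff]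
    exact pow_mem_phiSub q Q a.2
  -- the action
  let cg : ↥(P : Subgroup G) → (↥Q →* ↥Q) := fun g =>
    { toFun := fun x => ⟨g * x * (g : G)⁻¹, hconj g g.2 x x.2⟩
      map_one' := by
        ext
        simp
      map_mul' := by
        intro a b
        ext
        simp only [Subgroup.coe_mul]
        group }
  have hΦinv : ∀ g : ↥(P : Subgroup G), Φ ≤ Φ.comap (cg g) := by
    intro g z hz
    exact phiSub_invariant q Q (hconj g g.2) hz
  let φ : ↥(P : Subgroup G) → E₀ → E₀ := fun g => QuotientGroup.map Φ Φ (cg g) (hΦinv g)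
  have hφ : ∀ (g : ↥(P : Subgroup G)) (a : ↥Q), φ g (a : E₀) = (cg g a : E₀) := fun _ _ => rfl
  -- generating sets inside `P`
  have hgen : ∀ S : Set G, Subgroup.closure S = (P : Subgroup G) →
      Subgroup.closure ((P : Subgroup G).subtype ⁻¹' S) = ⊤ := by
    intro S hS
    have hSP : S ⊆ (P : Subgroup G) := by
      rw [← hS]
      exact Subgroup.subset_closure
    apply Subgroup.map_injective (P : Subgroup G).subtype_injective
    rw [MonoidHom.map_closure]
    have : (P : Subgroup G).subtype '' ((P : Subgroup G).subtype ⁻¹' S) = S := by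
      rw [Set.image_preimage_eq_iff]
      intro s hs
      exact ⟨⟨s, hSP hs⟩, rfl⟩
    rw [this, hS]
    ext z
    simp
  have hfixed := fix_sum_mul (E := E₀) hexp p hp3 hpq (P.2 : IsPGroup p (P : Subgroup G)) φ
    (fun g a b => map_mul (QuotientGroup.map Φ Φ (cg g) (hΦinv g)) a b)
    (fun a => by
      obtain ⟨a, rfl⟩ := QuotientGroup.mk_surjective a
      rw [hφ]
      congr 1
      ext
      show (1 : G) * a * (1 : G)⁻¹ = a
      simp)
    (fun g h a => by
      obtain ⟨a, rfl⟩ := QuotientGroup.mk_surjective a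
      rw [hφ, hφ, hφ]
      congr 1
      ext
      show ((g : G) * h) * a * ((g : G) * h)⁻¹ = g * (h * a * (h : G)⁻¹) * (g : G)⁻¹
      group)
    _ _ (hgen C hC) (hgen D hD)
    (by
      intro c hc d hd v
      obtain ⟨v, rfl⟩ := QuotientGroup.mk_surjective v
      obtain ⟨y, hy, w, hw, h1, h2, h3⟩ := hdec c hc d hd v v.2
      refine ⟨((⟨w, hw⟩ : Q) : E₀), ((⟨y, hy⟩ : Q) : E₀), ?_, ?_, ?_⟩
      · rw [hcomm, ← QuotientGroup.mk_mul]
        congr 1
        ext
        exact h1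
      · rw [hφ]
        congr 1
        ext
        show (c : G) * w * (c : G)⁻¹ = w
        rw [h3]
        group
      · rw [hφ]
        congr 1
        ext
        show (d : G) * y * (d : G)⁻¹ = y
        rw [h2]
        group)
    (⟨g, hg⟩ : (P : Subgroup G)) (((⟨x, hx⟩ : Q)) : E₀)
  rw [hφ, QuotientGroup.eq] at hfixed
  -- `(g x g⁻¹)⁻¹ x ∈ Φ`
  have h1 : (g * x * g⁻¹)⁻¹ * x ∈ phiSub q Q := hfixed
  have h2 : g * x * g⁻¹ * x⁻¹ = x * ((g * x * g⁻¹)⁻¹ * x)⁻¹ * x⁻¹ := by group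
  rw [h2]
  exact phiSub_conj_mem q Q hx (Subgroup.inv_mem _ h1)

/-- The centralising theorem for invariant `q`-subgroups. -/
theorem centralizes_of_decomp (P : Sylow p G) {q : ℕ} [hq : Fact q.Prime] (hp3 : 3 ≤ p)
    (hpq : p ≠ q) (C D : Set G) (hC : Subgroup.closure C = (P : Subgroup G))
    (hD : Subgroup.closure D = (P : Subgroup G)) (N : Subgroup G)
    (hdec : ∀ c ∈ C, ∀ d ∈ D, ∀ Q : Subgroup G, Q ≤ N →
      (P : Subgroup G) ≤ Subgroup.normalizer (Q : Set G) →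
      ∀ x ∈ Q, ∃ y ∈ Q, ∃ w ∈ Q, x = y * w ∧ d * y = y * d ∧ c * w = w * c) :
    ∀ n : ℕ, ∀ Q : Subgroup G, Nat.card Q = n → Q ≤ N → IsPGroup q Q →
      (P : Subgroup G) ≤ Subgroup.normalizer (Q : Set G) →
      ∀ g ∈ (P : Subgroup G), ∀ x ∈ Q, g * x = x * g := by
  intro n
  induction n using Nat.strong_induction_on with
  | _ n IH =>
  intro Q hn hQN hQq hQ g hg x hx
  by_cases hbot : Q = ⊥
  · subst hbot
    rw [Subgroup.mem_bot] at hx
    simp [hx]
  have hconj : ∀ g ∈ (P : Subgroup G), ∀ u ∈ Q, g * u * g⁻¹ ∈ Q := by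
    intro g hg u hu
    exact (Subgroup.mem_normalizer_iff.mp (hQ hg) u).mp hu
  have hne := phiSub_ne hQq hbot
  have hlt : Nat.card (phiSub q Q) < n := by
    rw [← hn]
    exact Cfsg.Agent.H06.card_lt_of_lt (lt_of_le_of_ne (phiSub_le q Q) hne)
  have hΦnorm : (P : Subgroup G) ≤ Subgroup.normalizer ((phiSub q Q : Subgroup G) : Set G) := by
    intro a ha
    rw [Subgroup.mem_normalizer_iff]
    intro h
    constructor
    · intro hh
      exact phiSub_invariant q Q (hconj a ha) hh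
    · intro hh
      have h1 := phiSub_invariant q Q (hconj a⁻¹ (Subgroup.inv_mem _ ha)) hh
      have h2 : a⁻¹ * (a * h * a⁻¹) * a⁻¹⁻¹ = h := by group
      rwa [h2] at h1
  have hΦfix := IH _ hlt (phiSub q Q) rfl ((phiSub_le q Q).trans hQN)
    (hQq.to_le (phiSub_le q Q)) hΦnorm
  have hz := comm_mem_phiSub_of_decomp P hp3 hpq Q hQ C D hC hD
    (fun c hc d hd => hdec c hc d hd Q hQN hQ) g hg x hx
  -- stability
  have hz' : x⁻¹ * (g * x * g⁻¹) ∈ phiSub q Q := by
    have h1 : x⁻¹ * (g * x * g⁻¹) = x⁻¹ * (g * x * g⁻¹ * x⁻¹) * x⁻¹⁻¹ := by group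
    rw [h1]
    exact phiSub_conj_mem q Q (Q.inv_mem hx) hz
  have hcop : (orderOf g).Coprime (Nat.card (phiSub q Q)) := by
    obtain ⟨e, he⟩ := (IsPGroup.iff_orderOf.mp (P.2 : IsPGroup p (P : Subgroup G))) ⟨g, hg⟩
    rw [Subgroup.orderOf_mk] at he
    obtain ⟨m, hm⟩ := IsPGroup.iff_card.mp (hQq.to_le (phiSub_le q Q))
    rw [he, hm]
    apply Nat.Coprime.pow
    exact (Nat.coprime_primes Fact.out Fact.out).mpr hpq
  exact Cfsg.Agent.H06.conj_eq_of_stable hz' hcop (hΦfix g hg _ hz')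

/-- **The `⟨c^x, d⟩` theorem.** -/
theorem comm_eq_bot (p : ℕ) [hp : Fact p.Prime] (hp3 : 3 ≤ p) (P : Sylow p G)
    (N : Subgroup G) [hNn : N.Normal] (hN : (Nat.card N).Coprime p)
    (C D : Set G) (hC : Subgroup.closure C = (P : Subgroup G))
    (hD : Subgroup.closure D = (P : Subgroup G))
    (h : ∀ x ∈ N, ∀ c ∈ C, ∀ d ∈ D, IsPGroup p ↥(Subgroup.closure ({x * c * x⁻¹, d} : Set G))) :
    ⁅(P : Subgroup G), N⁆ = ⊥ := by
  classical
  have hCP : ∀ c ∈ C, c ∈ (P : Subgroup G) := by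
    intro c hc
    rw [← hC]
    exact Subgroup.subset_closure hc
  have hDP : ∀ c ∈ D, c ∈ (P : Subgroup G) := by
    intro c hc
    rw [← hD]
    exact Subgroup.subset_closure hc
  have hPN : ∀ z, z ∈ N → z ∈ (P : Subgroup G) → z = 1 := by
    intro z hz hz'
    have h1 : orderOf z ∣ Nat.card N := by
      have := orderOf_dvd_natCard (⟨z, hz⟩ : N)
      rwa [Subgroup.orderOf_mk] at this
    obtain ⟨e, he⟩ := (IsPGroup.iff_orderOf.mp (P.2 : IsPGroup p (P : Subgroup G))) ⟨z, hz'⟩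
    rw [Subgroup.orderOf_mk] at he
    have h2 : Nat.Coprime (orderOf z) (p ^ e) :=
      Nat.Coprime.pow_right e (Nat.Coprime.coprime_dvd_left h1 hN)
    rw [he] at h2
    have h3 : p ^ e = 1 := by simpa using h2
    rw [h3] at he
    exact orderOf_eq_one_iff.mp he
  have hdec : ∀ c ∈ C, ∀ d ∈ D, ∀ Q : Subgroup G, Q ≤ N →
      (P : Subgroup G) ≤ Subgroup.normalizer (Q : Set G) →
      ∀ x ∈ Q, ∃ y ∈ Q, ∃ w ∈ Q, x = y * w ∧ d * y = y * d ∧ c * w = w * c := by
    intro c hc d hd Q hQN hQ x hx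
    exact decomp_of_pgroup P Q hQ (fun z hz hz' => hPN z (hQN hz) hz') (hCP c hc) (hDP d hd) hx
      (h x (hQN hx) c hc d hd)
  -- the centraliser in `N`
  let Z : Subgroup N := (Subgroup.centralizer ((P : Subgroup G) : Set G)).subgroupOf N
  have hcopPN : (Nat.card (P : Subgroup G)).Coprime (Nat.card N) := by
    obtain ⟨m, hm⟩ := IsPGroup.iff_card.mp (P.2 : IsPGroup p (P : Subgroup G))
    rw [hm]
    exact Nat.Coprime.pow_left m hN.symm
  have hPnorm : (P : Subgroup G) ≤ Subgroup.normalizer (N : Set G) :=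
    Subgroup.le_normalizer_of_normal
  have hsolv : Group.IsSolvable (P : Subgroup G) := by
    haveI := (P.2 : IsPGroup p (P : Subgroup G)).isNilpotent
    infer_instance
  have hidx : Z.index = 1 := by
    apply Nat.eq_one_iff_not_exists_prime_dvd.mpr
    intro q hq hqZ
    haveI : Fact q.Prime := ⟨hq⟩
    have hqN : q ∣ Nat.card N := by
      have := Z.index_dvd_card
      exact hqZ.trans this
    have hpq : p ≠ q := by
      rintro rfl
      exact ((Nat.Prime.coprime_iff_not_dvd hp.out).mp hN.symm) hqN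
    obtain ⟨R, hR⟩ := Cfsg.Agent.H01.exists_invariant_sylow hPnorm hcopPN (Or.inl hsolv) q
    set Q : Subgroup G := (R : Subgroup N).map N.subtype with hQdef
    have hQN : Q ≤ N := by
      rintro _ ⟨r, _, rfl⟩
      exact r.2
    have hQq : IsPGroup q Q := R.2.map N.subtype
    have hcent := centralizes_of_decomp P hp3 hpq C D hC hD N hdec _ Q rfl hQN hQq hR
    have hRZ : (R : Subgroup N) ≤ Z := by
      intro r hr
      show (r : G) ∈ Subgroup.centralizer ((P : Subgroup G) : Set G)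
      rw [Subgroup.mem_centralizer_iff]
      intro g hg
      exact hcent g hg r ⟨r, hr, rfl⟩
    have hnd : ¬ q ∣ (R : Subgroup N).index := R.not_dvd_index
    apply hnd
    exact hqZ.trans (Subgroup.index_dvd_of_le hRZ)
  rw [Subgroup.index_eq_one] at hidx
  rw [Subgroup.commutator_eq_bot_iff_le_centralizer]
  intro x hx
  rw [Subgroup.mem_centralizer_iff]
  intro n hn
  have : (⟨n, hn⟩ : N) ∈ Z := by rw [hidx]; trivial
  have h2 : n ∈ Subgroup.centralizer ((P : Subgroup G) : Set G) := this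
  rw [Subgroup.mem_centralizer_iff] at h2
  exact (h2 x hx).symm

end Cfsg.Agent.H12.Imprim2
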