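import Cfsg.Agent.Lib.H12.Subnormal2

/-!
# Transfer of `p`-reduced subgroups
-/

set_option autoImplicit false

namespace Cfsg.Agent.H12

open Cfsg
open scoped commutatorElement

set_option linter.unusedSectionVars false

section
variable {H : Type*} [Group H] [Finite H] {p : ℕ} [hp : Fact p.Prime]

/-- `L C(Y_M) = M C(Y_M)` implies `Y_M ≤ Y_L`. -/
theorem largestPReducedOf_le_of_sup_eq (T : Sylow p H) (L M : Subgroup H) (hTL : (T : Subgroup H) ≤ L)
    (hTM : (T : Subgroup H) ≤ M)
    (hsup : L ⊔ Subgroup.centralizer (((largestPReducedOf p M) : Subgroup H) : Set H) =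
      M ⊔ Subgroup.centralizer (((largestPReducedOf p M) : Subgroup H) : Set H)) :
    largestPReducedOf p M ≤ largestPReducedOf p L := by
  set Y := largestPReducedOf p M with hY
  set C := Subgroup.centralizer ((Y : Subgroup H) : Set H) with hC
  have hYM : Y ≤ M := largestPReducedOf_le
  have hMY : M ≤ Subgroup.normalizer ((Y : Subgroup H) : Set H) := le_normalizer_largestPReducedOf
  have hYE : IsElementaryAbelian p Y :=
    IsElementaryAbelian_mono largestPReducedOf_le_omega
      (isElementaryAbelian_omegaOne_center _)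
  have hYO : Y ≤ pCoreOf p M := fun y hy =>
    (mem_omegaOne_center (largestPReducedOf_le_omega hy)).1
  have hYL : Y ≤ L := (hYO.trans (pCoreOf_le_sylow T hTM)).trans hTL
  have hCY : C ≤ Subgroup.normalizer ((Y : Subgroup H) : Set H) := by
    intro c hc
    rw [Subgroup.mem_normalizer_iff]
    intro y
    constructor
    · intro hy
      have h1 := Subgroup.mem_centralizer_iff.1 hc y hy
      rw [← h1]
      simpa using hy
    · intro hy
      have h1 := Subgroup.mem_centralizer_iff.1 hc _ hy
      have h2 : c * (c * y * c⁻¹) = c * y := by rw [← h1]; group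
      rw [← mul_left_cancel h2]
      exact hy
  have hNY : L ⊔ C ≤ Subgroup.normalizer ((Y : Subgroup H) : Set H) := by
    rw [hsup]; exact sup_le hMY hCY
  have hLY : L ≤ Subgroup.normalizer ((Y : Subgroup H) : Set H) := le_sup_left.trans hNY
  have hNC : ∀ g ∈ Subgroup.normalizer ((Y : Subgroup H) : Set H), g ∈ Subgroup.normalizer ((C : Subgroup H) : Set H) := by
    intro g hg
    apply H13.mem_normalizer_of_map_conj_le
    rw [hC, H13.map_conj_centralizer, H13.map_conj_eq_of_mem_normalizer hg]
  have hLC : L ≤ Subgroup.normalizer ((C : Subgroup H) : Set H) := fun l hl => hNC l (hLY hl)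
  have hMC : M ≤ Subgroup.normalizer ((C : Subgroup H) : Set H) := fun l hl => hNC l (hMY hl)
  let X : Subgroup ↥L := Y.subgroupOf L
  have hXr : IsPReducedNormal p X := by
    have hXn : X.Normal := by
      constructor
      intro x hx g
      rw [Subgroup.mem_subgroupOf] at hx ⊢
      exact (Subgroup.mem_normalizer_iff.1 (hLY g.2) x).1 hx
    have hXE : IsElementaryAbelian p X := by
      refine ⟨⟨⟨fun a b => ?_⟩⟩, fun a ha => ?_⟩
      · apply Subtype.ext
        apply Subtype.ext
        exact isElementaryAbelian_comm hYE _ a.2 _ b.2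
      · apply Subtype.ext
        exact hYE.2 _ ha
    have hcent : ∀ x : ↥L, x ∈ Subgroup.centralizer (X : Set ↥L) ↔ (x : H) ∈ C := by
      intro x
      rw [hC, Subgroup.mem_centralizer_iff, Subgroup.mem_centralizer_iff]
      constructor
      · intro h y hy
        exact congrArg Subtype.val (h ⟨y, hYL hy⟩ hy)
      · intro h a ha
        exact Subtype.ext (h a ha)
    apply pReduced_intro hXn hXE
    intro D hD _ hDp
    set D₀ := D.map L.subtype with hD₀
    have hD₀L : D₀ ≤ L := by rintro _ ⟨d, -, rfl⟩; exact d.2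
    set U := D₀ ⊔ C with hU
    have hLU : L ≤ Subgroup.normalizer ((U : Subgroup H) : Set H) := by
      intro l hl
      apply H13.mem_normalizer_of_map_conj_le
      rw [hU, Subgroup.map_sup, H13.map_conj_eq_of_mem_normalizer (hLC hl)]
      have : D₀.map (MulAut.conj l).toMonoidHom ≤ D₀ := by
        rintro _ ⟨_, ⟨d, hd, rfl⟩, rfl⟩
        exact ⟨_, hD.conj_mem d hd ⟨l, hl⟩, rfl⟩
      exact sup_le_sup_right this _
    have hCU : C ≤ Subgroup.normalizer ((U : Subgroup H) : Set H) := by
      intro c hc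
      apply H13.mem_normalizer_of_map_conj_le
      rw [hU, Subgroup.map_sup, H13.map_conj_eq_of_mem_normalizer (Subgroup.le_normalizer hc)]
      apply sup_le _ le_sup_right
      rintro _ ⟨d, hd, rfl⟩
      have h1 : (MulAut.conj c).toMonoidHom d = (c * (d * c⁻¹ * d⁻¹)) * d := by
        simp
        group
      rw [h1]
      refine mul_mem ((le_sup_right : C ≤ D₀ ⊔ C) (mul_mem hc ?_)) ((le_sup_left : D₀ ≤ D₀ ⊔ C) hd)
      exact (Subgroup.mem_normalizer_iff.1 (hLC (hD₀L hd)) _).1 (inv_mem hc)
    have hMU : M ≤ Subgroup.normalizer ((U : Subgroup H) : Set H) := by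
      have : M ≤ L ⊔ C := by rw [hsup]; exact le_sup_left
      exact this.trans (sup_le hLU hCU)
    have hY'r := (largest_spec (p := p) (L := ↥M)).1
    have hcentM : ∀ m : ↥M, (m : H) ∈ C → m ∈ Subgroup.centralizer (largestPReduced p ↥M : Set ↥M) := by
      intro m hm
      rw [Subgroup.mem_centralizer_iff] at hm ⊢
      intro y hy
      exact Subtype.ext (hm _ ⟨y, hy, rfl⟩)
    have hcentM' : ∀ m : ↥M, m ∈ Subgroup.centralizer (largestPReduced p ↥M : Set ↥M) → (m : H) ∈ C := by
      intro m hm
      rw [Subgroup.mem_centralizer_iff] at hm ⊢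
      rintro _ ⟨y, hy, rfl⟩
      exact congrArg Subtype.val (hm y hy)
    have hW : U.subgroupOf M ≤ Subgroup.centralizer (largestPReduced p ↥M : Set ↥M) := by
      apply pReduced_elim hY'r
      · constructor
        intro x hx g
        rw [Subgroup.mem_subgroupOf] at hx ⊢
        exact (Subgroup.mem_normalizer_iff.1 (hMU g.2) x).1 hx
      · intro w hw
        rw [Subgroup.mem_subgroupOf] at hw
        have hD₀N : D₀ ≤ Subgroup.normalizer ((C : Subgroup H) : Set H) := hD₀L.trans hLC
        rw [hU, ← SetLike.mem_coe, Subgroup.coe_mul_of_left_le_normalizer_right D₀ C hD₀N, Set.mem_mul] at hw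
        obtain ⟨d₀, hd₀, c, hc, e⟩ := hw
        obtain ⟨d, hd, rfl⟩ := hd₀
        obtain ⟨k, hk⟩ := hDp d hd
        refine ⟨k, hcentM _ ?_⟩
        obtain ⟨c', hc', e'⟩ := pow_mul_mem_of_normalizer (hLC d.2) hc (p ^ k)
        have e2 : ((w ^ (p ^ k) : ↥M) : H) = ((d : H)) ^ (p ^ k) * c' := by
          rw [← e']
          simp only [Subgroup.coe_pow, ← e]
          rfl
        rw [e2]
        refine mul_mem ?_ hc'
        have := (hcent _).1 hk
        simpa using this
    intro d hd
    rw [hcent]
    have hdL : (d : H) ∈ M ⊔ C := by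
      rw [← hsup]
      exact (le_sup_left : L ≤ L ⊔ C) d.2
    rw [← SetLike.mem_coe, Subgroup.coe_mul_of_left_le_normalizer_right M C hMC, Set.mem_mul] at hdL
    obtain ⟨m, hm, c₀, hc₀, e⟩ := hdL
    have hmU : m ∈ U := by
      have : m = (d : H) * c₀⁻¹ := by rw [← e]; group
      rw [this]
      exact mul_mem ((le_sup_left : D₀ ≤ U) ⟨d, hd, rfl⟩) ((le_sup_right : C ≤ U) (inv_mem hc₀))
    have h1 := hW (x := ⟨m, hm⟩) hmU
    have h2 := hcentM' _ h1
    rw [← e]
    exact mul_mem h2 hc₀
  have h1 : X ≤ largestPReduced p ↥L := le_sSup hXr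
  intro y hy
  exact ⟨⟨y, hYL hy⟩, h1 hy, rfl⟩

end

end Cfsg.Agent.H12
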