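import Cfsg.Agent.Lib.H12.SylowJoin
import Cfsg.Agent.Lib.H18.Join
import Cfsg.Prelude.Def_LocalEven

/-! Point stabilizers in groups of local characteristic `p`. -/

set_option autoImplicit false
set_option linter.unusedSectionVars false

namespace Cfsg.Agent.H12

open Cfsg
open scoped commutatorElement

universe u

variable {H : Type u} [Group H] [Finite H] {p : ℕ} [Fact p.Prime]

/-- `Ω₁Z(R)`. -/
local notation "Om" => fun (R : Subgroup H) => omegaOne p (R ⊓ Subgroup.centralizer (R : Set H))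

/-- The `Sylow` intersection with a join. -/
theorem sylow_inf_sup_le (T : Sylow p H) {A B : Subgroup H} (hA : A.IsSubnormal)
    (hB : B.IsSubnormal) :
    (T : Subgroup H) ⊓ (A ⊔ B) ≤ ((T : Subgroup H) ⊓ A) ⊔ ((T : Subgroup H) ⊓ B) := by
  set L := A ⊔ B with hL
  have hLs : L.IsSubnormal := H18.isSubnormal_sup hA hB
  have hAL : A ≤ L := le_sup_left
  have hBL : B ≤ L := le_sup_right
  have hsup : A.subgroupOf L ⊔ B.subgroupOf L = ⊤ := by
    apply Subgroup.map_injective L.subtype_injective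
    rw [Subgroup.map_sup, Subgroup.subgroupOf_map_subtype, Subgroup.subgroupOf_map_subtype,
      inf_eq_left.2 hAL, inf_eq_left.2 hBL, ← hL, ← MonoidHom.range_eq_map, Subgroup.range_subtype]
  have hP : IsPGroup p ((T : Subgroup H).subgroupOf L) :=
    T.2.comap_of_injective _ L.subtype_injective
  have hi : ¬ p ∣ ((T : Subgroup H).subgroupOf L).index := by
    have := not_dvd_relIndex_subnormal T hLs
    rwa [Subgroup.inf_relIndex_right] at this
  let P : Sylow p L := IsPGroup.toSylow hP hi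
  have h := sylow_le_sup_inf _ L (A.subgroupOf L) (B.subgroupOf L) hA.subgroupOf hB.subgroupOf
    hsup P rfl
  rintro x ⟨hxT, hxL⟩
  have hx : (⟨x, hxL⟩ : L) ∈ (P : Subgroup L) := hxT
  have hx2 := h hx
  have hmap : (((P : Subgroup L) ⊓ A.subgroupOf L) ⊔ ((P : Subgroup L) ⊓ B.subgroupOf L)).map L.subtype ≤
      ((T : Subgroup H) ⊓ A) ⊔ ((T : Subgroup H) ⊓ B) := by
    rw [Subgroup.map_sup]
    apply sup_le_sup
    · rintro _ ⟨y, ⟨hy1, hy2⟩, rfl⟩
      exact ⟨hy1, hy2⟩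
    · rintro _ ⟨y, ⟨hy1, hy2⟩, rfl⟩
      exact ⟨hy1, hy2⟩
  exact hmap ⟨_, hx2, rfl⟩

/-- A nontrivial `p`-group has nontrivial `Ω₁Z`. -/
theorem om_ne_bot {R : Subgroup H} (hR : IsPGroup p R) (h : R ≠ ⊥) : Om R ≠ ⊥ := by
  haveI : Nontrivial R := (Subgroup.nontrivial_iff_ne_bot _).2 h
  have hc := hR.center_nontrivial
  obtain ⟨z, hz⟩ := exists_ne (1 : Subgroup.center R)
  have hzp : IsPGroup p (Subgroup.center R) := hR.to_subgroup _
  obtain ⟨j, hj⟩ := (IsPGroup.iff_orderOf.1 hzp) z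
  have hj0 : j ≠ 0 := by
    rintro rfl
    rw [pow_zero, orderOf_eq_one_iff] at hj
    exact hz hj
  obtain ⟨i, rfl⟩ := Nat.exists_eq_succ_of_ne_zero hj0
  set y := z ^ (p ^ i) with hy
  have hy1 : y ≠ 1 := by
    apply pow_ne_one_of_lt_orderOf (pow_pos (Nat.Prime.pos Fact.out) _).ne'
    rw [hj]
    exact Nat.pow_lt_pow_succ (Nat.Prime.one_lt Fact.out)
  have hyp : y ^ p = 1 := by
    rw [hy, ← pow_mul, ← pow_succ, ← hj, pow_orderOf_eq_one]
  have hmem : (((y : Subgroup.center R) : R) : H) ∈ Om R := by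
    apply mem_omegaOne_center_of
    · exact (y : R).2
    · intro u hu
      have := (Subgroup.mem_center_iff.1 y.2) ⟨u, hu⟩
      exact congrArg Subtype.val this
    · have := congrArg (fun w : Subgroup.center R => ((w : R) : H)) hyp
      simpa using this
  intro hbot
  have hmem' : (((y : Subgroup.center R) : R) : H) ∈ omegaOne p (R ⊓ Subgroup.centralizer (R : Set H)) := hmem
  simp only at hbot
  rw [hbot, Subgroup.mem_bot] at hmem'
  apply hy1
  apply Subtype.ext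
  apply Subtype.ext
  exact hmem'

/-- Centralizers lie in normalizers. -/
theorem cent_le_norm (X : Subgroup H) : Subgroup.centralizer (X : Set H) ≤ Subgroup.normalizer (X : Set H) := by
  intro g hg
  apply H13.mem_normalizer_of_map_conj_le
  rintro _ ⟨x, hx, rfl⟩
  have h1 := Subgroup.mem_centralizer_iff.1 hg x hx
  change g * x * g⁻¹ ∈ X
  rw [← h1]
  simpa using hx

/-- Kieler's lemma inside a `p`-local subgroup. -/
theorem local_kieler (hH : IsOfLocalCharacteristic p H) (T : Sylow p H) {K₁ K₂ R : Subgroup H}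
    (hK₂ : K₂.IsSubnormal) (hle : K₁ ≤ K₂) (hn : K₂ ≤ Subgroup.normalizer (K₁ : Set H))
    (hRp : IsPGroup p R) (hR : R ≠ ⊥) (hTR : (T : Subgroup H) ⊓ K₂ ≤ Subgroup.normalizer (R : Set H)) :
    (K₁ ⊓ Subgroup.normalizer (R : Set H)) ⊓ Subgroup.centralizer ((Om ((T : Subgroup H) ⊓ K₁) : Subgroup H) : Set H) ≤
        Subgroup.centralizer ((Om ((T : Subgroup H) ⊓ K₂) : Subgroup H) : Set H) ∧
    (K₁ ⊓ Subgroup.normalizer (R : Set H)) ⊓ Subgroup.centralizer ((Om ((T : Subgroup H) ⊓ K₂) : Subgroup H) : Set H) ≤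
        Subgroup.centralizer ((Om ((T : Subgroup H) ⊓ K₁) : Subgroup H) : Set H) := by
  set N := Subgroup.normalizer (R : Set H) with hN
  have hchar : H13.IsCharP p N := hH.2 R hRp hR
  set Y : Subgroup H := K₂ ⊓ N with hY
  have hY' : H13.IsCharP p Y := by
    have h1 := H13.isCharP_of_subnormal hchar (K₂.subgroupOf N) hK₂.subgroupOf
    have e1 : (K₂.subgroupOf N).map N.subtype = Y := by
      rw [Subgroup.subgroupOf_map_subtype]
    let e : ↥(K₂.subgroupOf N) ≃* ↥Y :=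
      ((K₂.subgroupOf N).equivMapOfInjective N.subtype N.subtype_injective).trans
        (MulEquiv.subgroupCongr e1)
    exact H13.charP_of_mulEquiv e h1
  set Y₁ : Subgroup H := K₁ ⊓ N with hY₁
  have hY₁Y : Y₁ ≤ Y := inf_le_inf_right _ hle
  have hYN : Y ≤ Subgroup.normalizer (Y₁ : Set H) := by
    intro g hg
    rw [Subgroup.mem_normalizer_iff]
    intro x
    exact and_congr (Subgroup.mem_normalizer_iff.1 (hn hg.1) x)
      (Subgroup.mem_normalizer_iff.1 (Subgroup.le_normalizer hg.2) x)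
  set T₂ : Subgroup H := (T : Subgroup H) ⊓ K₂ with hT₂
  have hT₂Y : T₂ ≤ Y := le_inf inf_le_right hTR
  have hT₂p : IsPGroup p T₂ := T.2.to_le inf_le_left
  have hi : ¬ p ∣ T₂.relIndex Y := by
    intro h
    apply not_dvd_relIndex_subnormal T hK₂
    have h2 := Subgroup.relIndex_mul_relIndex T₂ Y K₂ hT₂Y inf_le_left
    rw [← h2]
    exact h.trans (dvd_mul_right _ _)
  have hinf : T₂ ⊓ Y₁ = (T : Subgroup H) ⊓ K₁ := by
    apply le_antisymm
    · rintro x ⟨⟨h1, _⟩, h3, _⟩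
      exact ⟨h1, h3⟩
    · rintro x ⟨h1, h2⟩
      have hx : x ∈ T₂ := ⟨h1, hle h2⟩
      exact ⟨hx, h2, hTR hx⟩
  have ha := kieler_a Y Y₁ T₂ hY' hY₁Y hYN hT₂Y hT₂p hi
  have hb := kieler_b Y Y₁ T₂ hY' hY₁Y hYN hT₂Y hT₂p hi
  rw [hinf] at ha hb
  exact ⟨ha, hb⟩

/-- Local Kieler, equalities. -/
theorem local_kieler' (hH : IsOfLocalCharacteristic p H) (T : Sylow p H) {K₁ K₂ : Subgroup H}
    (hK₂ : K₂.IsSubnormal) (hle : K₁ ≤ K₂) (hn : K₂ ≤ Subgroup.normalizer (K₁ : Set H))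
    (hT1 : (T : Subgroup H) ⊓ K₁ ≠ ⊥) {x : H} (hx : x ∈ K₁) :
    x ∈ Subgroup.centralizer ((Om ((T : Subgroup H) ⊓ K₁) : Subgroup H) : Set H) ↔
      x ∈ Subgroup.centralizer ((Om ((T : Subgroup H) ⊓ K₂) : Subgroup H) : Set H) := by
  have hT₁p : IsPGroup p ((T : Subgroup H) ⊓ K₁ : Subgroup H) := T.2.to_le inf_le_left
  have hT₂p : IsPGroup p ((T : Subgroup H) ⊓ K₂ : Subgroup H) := T.2.to_le inf_le_left
  have hT2 : (T : Subgroup H) ⊓ K₂ ≠ ⊥ := by
    intro h
    apply hT1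
    rw [eq_bot_iff, ← h]
    exact inf_le_inf_left _ hle
  have hZ₁ : Om ((T : Subgroup H) ⊓ K₁) ≠ ⊥ := om_ne_bot hT₁p hT1
  have hZ₂ : Om ((T : Subgroup H) ⊓ K₂) ≠ ⊥ := om_ne_bot hT₂p hT2
  have hZ₁p : IsPGroup p (Om ((T : Subgroup H) ⊓ K₁) : Subgroup H) :=
    hT₁p.to_le (fun _ h => (mem_omegaOne_center h).1)
  have hZ₂p : IsPGroup p (Om ((T : Subgroup H) ⊓ K₂) : Subgroup H) :=
    hT₂p.to_le (fun _ h => (mem_omegaOne_center h).1)
  have hTN1 : (T : Subgroup H) ⊓ K₂ ≤ Subgroup.normalizer ((Om ((T : Subgroup H) ⊓ K₁) : Subgroup H) : Set H) := by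
    intro t ht
    apply om_normalized
    rw [Subgroup.mem_normalizer_iff]
    intro y
    exact and_congr (Subgroup.mem_normalizer_iff.1 (Subgroup.le_normalizer ht.1) y)
      (Subgroup.mem_normalizer_iff.1 (hn ht.2) y)
  have hTN2 : (T : Subgroup H) ⊓ K₂ ≤ Subgroup.normalizer ((Om ((T : Subgroup H) ⊓ K₂) : Subgroup H) : Set H) := by
    intro t ht
    exact om_normalized (Subgroup.le_normalizer ht)
  constructor
  · intro h
    exact (local_kieler hH T hK₂ hle hn hZ₁p hZ₁ hTN1).1 ⟨⟨hx, cent_le_norm _ h⟩, h⟩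
  · intro h
    exact (local_kieler hH T hK₂ hle hn hZ₂p hZ₂ hTN2).2 ⟨⟨hx, cent_le_norm _ h⟩, h⟩

/-- A `p`-element of a subgroup with trivial Sylow part is trivial. -/
theorem eq_one_of_inf_eq_bot (T : Sylow p H) {K : Subgroup H} (hK : K.IsSubnormal)
    (hT : (T : Subgroup H) ⊓ K = ⊥) {x : H} (hx : x ∈ K) {k : ℕ} (hk : orderOf x = p ^ k) : x = 1 := by
  have h1 := not_dvd_relIndex_subnormal T hK
  rw [hT, Subgroup.relIndex_bot_left] at h1
  have h2 : orderOf x ∣ Nat.card K := by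
    have := Subgroup.orderOf_dvd_natCard K hx
    exact this
  rw [hk] at h2
  rcases k with _ | k
  · simpa using hk
  · exfalso
    exact h1 ((dvd_pow_self p (Nat.succ_ne_zero k)).trans h2)

/-- Chain version of local Kieler. -/
theorem chain_kieler (hH : IsOfLocalCharacteristic p H) (T : Sylow p H) {L : Subgroup H}
    (hL : L.IsSubnormal) (J : Subgroup L) (hJ : J.IsSubnormal) :
    ∀ x ∈ J.map L.subtype, ∀ k : ℕ, orderOf x = p ^ k →
      (x ∈ Subgroup.centralizer ((Om ((T : Subgroup H) ⊓ J.map L.subtype) : Subgroup H) : Set H) ↔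
        x ∈ Subgroup.centralizer ((Om ((T : Subgroup H) ⊓ L) : Subgroup H) : Set H)) := by
  induction hJ with
  | top =>
    intro x _ k _
    have e : (⊤ : Subgroup L).map L.subtype = L := by
      rw [← MonoidHom.range_eq_map, Subgroup.range_subtype]
    rw [e]
  | step S S' hle hS' hN ih =>
    intro x hx k hk
    have hS's : (S'.map L.subtype).IsSubnormal := Subgroup.IsSubnormal.trans' hS' hL
    have hSs : (S.map L.subtype).IsSubnormal :=
      Subgroup.IsSubnormal.trans' (Subgroup.IsSubnormal.step S S' hle hS' hN) hL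
    have hle' : S.map L.subtype ≤ S'.map L.subtype := Subgroup.map_mono hle
    have hn' : S'.map L.subtype ≤ Subgroup.normalizer ((S.map L.subtype : Subgroup H) : Set H) := by
      have hn := (Subgroup.normal_subgroupOf_iff_le_normalizer hle).1 hN
      rintro _ ⟨g, hg, rfl⟩
      apply H13.mem_normalizer_of_map_conj_le
      rintro _ ⟨_, ⟨y, hy, rfl⟩, rfl⟩
      refine ⟨g * y * g⁻¹, (Subgroup.mem_normalizer_iff.1 (hn hg) y).1 hy, ?_⟩
      simp [MulAut.conj_apply]
    have h2 := ih x (hle' hx) k hk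
    by_cases hT1 : (T : Subgroup H) ⊓ S.map L.subtype = ⊥
    · have hx1 := eq_one_of_inf_eq_bot T hSs hT1 hx hk
      rw [hx1]
      simp only [Subgroup.one_mem]
    · rw [local_kieler' hH T hS's hle' hn' hT1 hx, h2]

/-- A subnormal subgroup containing a Sylow subgroup contains all `p`-elements. -/
theorem pElem_mem {X : Type u} [Group X] [Finite X] {S : Subgroup X} (hS : S.IsSubnormal)
    (P : Sylow p X) (hP : (P : Subgroup X) ≤ S) {x : X} {k : ℕ} (hx : orderOf x = p ^ k) : x ∈ S := by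
  induction hS with
  | top => trivial
  | step S S' hle hS' hN ih =>
    have hxS' : x ∈ S' := ih (hP.trans hle)
    have hPS' : (P : Subgroup X) ≤ S' := hP.trans hle
    have hPp : IsPGroup p ((P : Subgroup X).subgroupOf S') :=
      P.2.comap_of_injective _ S'.subtype_injective
    have hi : ¬ p ∣ ((P : Subgroup X).subgroupOf S').index := by
      intro h
      apply P.not_dvd_index
      exact h.trans (Subgroup.relIndex_dvd_index_of_le hPS')
    let P' : Sylow p S' := IsPGroup.toSylow hPp hi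
    have hzp : IsPGroup p (Subgroup.zpowers (⟨x, hxS'⟩ : S')) := by
      rw [IsPGroup.iff_card, Nat.card_zpowers, Subgroup.orderOf_mk, hx]
      exact ⟨k, rfl⟩
    obtain ⟨Q, hQ⟩ := hzp.exists_le_sylow
    obtain ⟨g, hg⟩ := MulAction.exists_smul_eq S' P' Q
    have h1 : (⟨x, hxS'⟩ : S') ∈ (g • P' : Sylow p S') := by
      rw [hg]; exact hQ (Subgroup.mem_zpowers _)
    have h2 : (⟨x, hxS'⟩ : S') ∈ ((P' : Subgroup S').map (MulAut.conj g).toMonoidHom) := h1
    obtain ⟨y, hy, hye⟩ := h2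
    have hyS : y ∈ S.subgroupOf S' := hP hy
    have h3 := hN.conj_mem y hyS g
    have h4 : g * y * g⁻¹ = ⟨x, hxS'⟩ := hye
    rw [h4] at h3
    exact h3

/-- The point stabilizer of a join of two subnormal subgroups. -/
theorem pointStabilizer_join (hH : IsOfLocalCharacteristic p H) (T : Sylow p H)
    {L₁ L₂ : Subgroup H} (h₁ : L₁.IsSubnormal) (h₂ : L₂.IsSubnormal) :
    pointStabilizer p (L₁ ⊔ L₂) ((T : Subgroup H) ⊓ (L₁ ⊔ L₂)) =
      pointStabilizer p L₁ ((T : Subgroup H) ⊓ L₁) ⊔ pointStabilizer p L₂ ((T : Subgroup H) ⊓ L₂) := by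
  set L := L₁ ⊔ L₂ with hL
  have hLs : L.IsSubnormal := H18.isSubnormal_sup h₁ h₂
  set Z : Subgroup H := omegaOne p (((T : Subgroup H) ⊓ L) ⊓ Subgroup.centralizer (((T : Subgroup H) ⊓ L : Subgroup H) : Set H)) with hZ
  -- rewrite the point stabilizers
  have hstar : ∀ K : Subgroup H, K.IsSubnormal → K ≤ L →
      pointStabilizer p K ((T : Subgroup H) ⊓ K) =
        Subgroup.closure {x : H | x ∈ K ⊓ Subgroup.centralizer (Z : Set H) ∧ ∃ k : ℕ, orderOf x = p ^ k} := by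
    intro K hK hKL
    unfold pointStabilizer
    congr 1
    ext x
    have e : (K.subgroupOf L).map L.subtype = K := by
      rw [Subgroup.subgroupOf_map_subtype, inf_eq_left.2 hKL]
    have hch := chain_kieler hH T hLs (K.subgroupOf L) hK.subgroupOf
    rw [e] at hch
    constructor
    · rintro ⟨⟨hx1, hx2⟩, k, hk⟩
      exact ⟨⟨hx1, (hch x hx1 k hk).1 hx2⟩, k, hk⟩
    · rintro ⟨⟨hx1, hx2⟩, k, hk⟩
      exact ⟨⟨hx1, (hch x hx1 k hk).2 hx2⟩, k, hk⟩
  have hL₁L : L₁ ≤ L := le_sup_left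
  have hL₂L : L₂ ≤ L := le_sup_right
  rw [hstar L₁ h₁ hL₁L, hstar L₂ h₂ hL₂L]
  set D : Subgroup H → Subgroup H := fun K =>
    Subgroup.closure {x : H | x ∈ K ⊓ Subgroup.centralizer (Z : Set H) ∧ ∃ k : ℕ, orderOf x = p ^ k} with hD
  change pointStabilizer p L ((T : Subgroup H) ⊓ L) = D L₁ ⊔ D L₂
  have hPL : pointStabilizer p L ((T : Subgroup H) ⊓ L) = D L := rfl
  rw [hPL]
  apply le_antisymm
  swap
  · apply sup_le
    · exact Subgroup.closure_mono (fun x hx => ⟨⟨hL₁L hx.1.1, hx.1.2⟩, hx.2⟩)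
    · exact Subgroup.closure_mono (fun x hx => ⟨⟨hL₂L hx.1.1, hx.1.2⟩, hx.2⟩)
  -- the hard inclusion
  set C : Subgroup H := L ⊓ Subgroup.centralizer (Z : Set H) with hC
  have hDC : ∀ K : Subgroup H, K ≤ L → D K ≤ C := by
    intro K hKL
    rw [hD]
    simp only
    rw [Subgroup.closure_le]
    rintro x ⟨⟨h1, h2⟩, _⟩
    exact ⟨hKL h1, h2⟩
  have hDn : ∀ K : Subgroup H, K ⊓ Subgroup.centralizer (Z : Set H) ≤ Subgroup.normalizer ((D K : Subgroup H) : Set H) := by
    intro K g hg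
    apply H13.mem_normalizer_of_map_conj_le
    rw [hD]
    simp only
    rw [MonoidHom.map_closure, Subgroup.closure_le]
    rintro _ ⟨y, ⟨⟨hy1, hy2⟩, k, hk⟩, rfl⟩
    apply Subgroup.subset_closure
    refine ⟨⟨K.mul_mem (K.mul_mem hg.1 hy1) (K.inv_mem hg.1), ?_⟩, k, ?_⟩
    · exact Subgroup.mul_mem _ (Subgroup.mul_mem _ hg.2 hy2) (Subgroup.inv_mem _ hg.2)
    · change orderOf (g * y * g⁻¹) = _
      rw [show g * y * g⁻¹ = MulAut.conj g y from rfl, MulEquiv.orderOf_eq, hk]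
  have hDK : ∀ K : Subgroup H, D K ≤ K := by
    intro K
    rw [hD]
    simp only
    rw [Subgroup.closure_le]
    rintro x ⟨⟨h1, _⟩, _⟩
    exact h1
  have hsn : ∀ K : Subgroup H, K.IsSubnormal → ((D K).subgroupOf C).IsSubnormal := by
    intro K hK
    have hle : (D K).subgroupOf C ≤ K.subgroupOf C := Subgroup.comap_mono (hDK K)
    apply Subgroup.IsSubnormal.step ((D K).subgroupOf C) (K.subgroupOf C) hle hK.subgroupOf
    rw [Subgroup.normal_subgroupOf_iff_le_normalizer hle]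
    intro g hg
    have h1 := hDn K ⟨hg, g.2.2⟩
    rw [Subgroup.mem_normalizer_iff] at h1 ⊢
    intro y
    exact h1 y
  have hsup := H18.isSubnormal_sup (hsn L₁ h₁) (hsn L₂ h₂)
  have hTLC : (T : Subgroup H) ⊓ L ≤ C := by
    intro t ht
    refine ⟨ht.2, ?_⟩
    change t ∈ Subgroup.centralizer (Z : Set H)
    rw [Subgroup.mem_centralizer_iff]
    intro z hz
    exact ((mem_omegaOne_center hz).2.1 t ht).symm
  have hCL : C ≤ L := inf_le_left
  have hP : IsPGroup p (((T : Subgroup H) ⊓ L).subgroupOf C) :=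
    (T.2.to_le inf_le_left).comap_of_injective _ C.subtype_injective
  have hi : ¬ p ∣ (((T : Subgroup H) ⊓ L).subgroupOf C).index := by
    intro h
    apply not_dvd_relIndex_subnormal T hLs
    have h2 := Subgroup.relIndex_mul_relIndex _ C L hTLC hCL
    rw [← h2]
    exact Dvd.dvd.mul_right h _
  let P : Sylow p C := IsPGroup.toSylow hP hi
  have hPle : (P : Subgroup C) ≤ (D L₁).subgroupOf C ⊔ (D L₂).subgroupOf C := by
    intro t ht
    have ht' : (t : H) ∈ (T : Subgroup H) ⊓ L := ht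
    have h3 := sylow_inf_sup_le T h₁ h₂ ht'
    have hle : ((T : Subgroup H) ⊓ L₁) ⊔ ((T : Subgroup H) ⊓ L₂) ≤
        ((D L₁).subgroupOf C ⊔ (D L₂).subgroupOf C).map C.subtype := by
      rw [Subgroup.map_sup, Subgroup.subgroupOf_map_subtype, Subgroup.subgroupOf_map_subtype,
        inf_eq_left.2 (hDC L₁ hL₁L), inf_eq_left.2 (hDC L₂ hL₂L)]
      have key : ∀ K : Subgroup H, K ≤ L → (T : Subgroup H) ⊓ K ≤ D K := by
        intro K hKL u hu
        apply Subgroup.subset_closure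
        have huT : u ∈ (T : Subgroup H) ⊓ L := ⟨hu.1, hKL hu.2⟩
        refine ⟨⟨hu.2, (hTLC huT).2⟩, ?_⟩
        obtain ⟨k, hk⟩ := (IsPGroup.iff_orderOf.1 T.2) ⟨u, hu.1⟩
        exact ⟨k, by rw [← hk, Subgroup.orderOf_mk]⟩
      exact sup_le_sup (key L₁ hL₁L) (key L₂ hL₂L)
    obtain ⟨y, hy, hye⟩ := hle h3
    have : y = t := Subtype.ext hye
    rwa [← this]
  rw [hD]
  simp only
  rw [Subgroup.closure_le]
  rintro x ⟨⟨hxL, hxZ⟩, k, hk⟩
  have hxC : x ∈ C := ⟨hxL, hxZ⟩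
  have h5 := pElem_mem hsup P hPle (x := ⟨x, hxC⟩) (k := k) (by rw [Subgroup.orderOf_mk, hk])
  have hle2 : ((D L₁).subgroupOf C ⊔ (D L₂).subgroupOf C).map C.subtype ≤ D L₁ ⊔ D L₂ := by
    rw [Subgroup.map_sup, Subgroup.subgroupOf_map_subtype, Subgroup.subgroupOf_map_subtype]
    exact sup_le_sup inf_le_left inf_le_left
  exact hle2 ⟨_, h5, rfl⟩

end Cfsg.Agent.H12
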