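import Cfsg.Agent.Lib.H12.Subnormal

/-!
# `p`-reduced subgroups and subnormal subgroups
-/

set_option autoImplicit false

namespace Cfsg.Agent.H12

open Cfsg
open scoped commutatorElement

set_option linter.unusedSectionVars false

section
variable {L : Type*} [Group L] [Finite L] {p : ℕ} [hp : Fact p.Prime]

/-- Decomposition of an element of a commutative normalized subgroup of exponent `p` under a coprime element. -/
theorem exists_decomp_coprime (V : Subgroup L) (hV : IsElementaryAbelian p V) {x : L}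
    (hxV : x ∈ Subgroup.normalizer (V : Set L)) (hx : Nat.Coprime (orderOf x) p) {v : L} (hv : v ∈ V) :
    ∃ u ∈ V, ∃ w ∈ ⁅V, Subgroup.zpowers x⁆, v = u * w ∧ x * u = u * x := by
  have hVc := isElementaryAbelian_comm hV
  have hzV : Subgroup.zpowers x ≤ Subgroup.normalizer (V : Set L) := Subgroup.zpowers_le.2 hxV
  obtain ⟨y, m, hy, hm, hyg, hym⟩ := exists_average V (Subgroup.zpowers x) ⊥ hVc hzV bot_le hv
    (fun t ht => by rw [Subgroup.mem_bot] at ht; rw [ht, one_mul, mul_one])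
  have hm' : m ∣ orderOf x := by
    have h1 : (⊥ : Subgroup L).relIndex (Subgroup.zpowers x) = orderOf x := by
      rw [Subgroup.relIndex_bot_left, Nat.card_zpowers]
    rwa [h1] at hm
  have hmc : Nat.Coprime m p := Nat.Coprime.coprime_dvd_left hm' hx
  have hmv : Nat.Coprime m (orderOf v) :=
    Nat.Coprime.coprime_dvd_right (orderOf_dvd_of_pow_eq_one (hV.2 v hv)) hmc
  obtain ⟨b, hb⟩ := exists_pow_eq_self_of_coprime hmv
  have hxy : x * y * x⁻¹ = y := by
    refine hyg x hxV ?_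
    intro r hr
    exact ⟨x * r, mul_mem (Subgroup.mem_zpowers x) hr, by group⟩
  have hxy' : Commute x y := by
    rw [mul_inv_eq_iff_eq_mul] at hxy
    exact hxy
  refine ⟨y ^ b, pow_mem hy b, (v ^ m * y⁻¹) ^ b, pow_mem hym b, ?_, (hxy'.pow_right b).eq⟩
  have c1 : Commute (v ^ m) y⁻¹ := hVc _ (pow_mem hv m) _ (inv_mem hy)
  rw [c1.mul_pow, hb]
  have c2 : Commute (y ^ b) v := hVc _ (pow_mem hy b) _ hv
  rw [← mul_assoc, c2.eq, mul_assoc, inv_pow, mul_inv_cancel, mul_one]

/-- Coprime elements of a subnormal subgroup `K`: `[V, x] ≤ K`. -/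
theorem commutator_mem_of_subnormal (V : Subgroup L) [hVn : V.Normal] (hV : IsElementaryAbelian p V)
    {K : Subgroup L} (hK : K.IsSubnormal) :
    ∀ x ∈ K, Nat.Coprime (orderOf x) p → ∀ v ∈ V, ⁅v, x⁆ ∈ K := by
  induction hK with
  | top => intro _ _ _ _ _; trivial
  | step K₁ K₂ hle _ hN ih =>
    intro x hx hxc v hv
    have hK₂n : K₂ ≤ Subgroup.normalizer (K₁ : Set L) :=
      (Subgroup.normal_subgroupOf_iff_le_normalizer hle).1 hN
    have hxV : x ∈ Subgroup.normalizer (V : Set L) := by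
      rw [Subgroup.normalizer_eq_top_iff.2 hVn]; trivial
    have h1 : ⁅V, Subgroup.zpowers x⁆ ≤ K₂ := by
      rw [Subgroup.commutator_le]
      rintro v' hv' _ ⟨k, rfl⟩
      refine ih _ (hle (zpow_mem hx k)) ?_ v' hv'
      have h2 : orderOf (x ^ k) ∣ orderOf x := orderOf_dvd_of_pow_eq_one (by
        rw [← zpow_natCast, ← zpow_mul, mul_comm, zpow_mul, zpow_natCast, pow_orderOf_eq_one, one_zpow])
      exact Nat.Coprime.coprime_dvd_left h2 hxc
    obtain ⟨u, hu, w, hw, rfl, hc⟩ := exists_decomp_coprime V hV hxV hxc hv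
    have hwV : w ∈ V := by
      have : ⁅V, Subgroup.zpowers x⁆ ≤ V := by
        rw [Subgroup.commutator_le]
        intro v' hv' z _
        have e : ⁅v', z⁆ = v' * (z * v'⁻¹ * z⁻¹) := by rw [commutatorElement_def]; group
        rw [e]
        exact mul_mem hv' (hVn.conj_mem _ (inv_mem hv') _)
      exact this hw
    have e : ⁅u * w, x⁆ = ⁅w, x⁆ := by
      have c1 : Commute u w := isElementaryAbelian_comm hV _ hu _ hwV
      have c2 : Commute u x := (show Commute x u from hc).symm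
      rw [commutatorElement_def, commutatorElement_def]
      have c3 : Commute u (w * x * w⁻¹) := (c1.mul_right c2).mul_right c1.inv_right
      calc u * w * x * (u * w)⁻¹ * x⁻¹ = (u * (w * x * w⁻¹)) * u⁻¹ * x⁻¹ := by group
        _ = (w * x * w⁻¹) * x⁻¹ := by rw [c3.eq]; group
    rw [e, commutatorElement_def]
    refine mul_mem ?_ (inv_mem hx)
    exact (Subgroup.mem_normalizer_iff.1 (hK₂n (h1 hw)) x).1 hx

/-- `[V, O^p(K)] ≤ K` for `K` subnormal. -/
theorem commutator_res_le_of_subnormal (V : Subgroup L) [hVn : V.Normal] (hV : IsElementaryAbelian p V)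
    {K : Subgroup L} (hK : K.IsSubnormal) : ⁅V, (pResidual p ↥K).map K.subtype⁆ ≤ K := by
  let S : Subgroup L :=
    { carrier := {r | r ∈ K ∧ ∀ v ∈ V, ⁅v, r⁆ ∈ K}
      one_mem' := ⟨one_mem _, fun v _ => by simp [commutatorElement_def]⟩
      mul_mem' := by
        rintro l₁ l₂ ⟨h1, h1'⟩ ⟨h2, h2'⟩
        refine ⟨mul_mem h1 h2, fun v hv => ?_⟩
        have : ⁅v, l₁ * l₂⁆ = ⁅v, l₁⁆ * (l₁ * ⁅v, l₂⁆ * l₁⁻¹) := by
          simp only [commutatorElement_def]; group
        rw [this]
        exact mul_mem (h1' v hv) (mul_mem (mul_mem h1 (h2' v hv)) (inv_mem h1))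
      inv_mem' := by
        rintro l ⟨h1, h1'⟩
        refine ⟨inv_mem h1, fun v hv => ?_⟩
        have : ⁅v, l⁻¹⁆ = l⁻¹ * ⁅v, l⁆⁻¹ * l⁻¹⁻¹ := by
          simp only [commutatorElement_def]; group
        rw [this]
        exact mul_mem (mul_mem (inv_mem h1) (inv_mem (h1' v hv))) (inv_mem (inv_mem h1)) }
  have hRS : (pResidual p ↥K).map K.subtype ≤ S := by
    rw [res_eq_closure, Subgroup.closure_le]
    rintro x ⟨h1, h2⟩
    exact ⟨h1, fun v hv => commutator_mem_of_subnormal V hV hK x h1 h2 v hv⟩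
  rw [Subgroup.commutator_le]
  intro v hv r hr
  exact (hRS hr).2 v hv

/-- `O_p(K/C_K(V)) = 1`, elementwise. -/
def RedOn (p : ℕ) (V K : Subgroup L) : Prop :=
  ∀ D : Subgroup L, D ≤ K → K ≤ Subgroup.normalizer (D : Set L) →
    (∀ d ∈ D, ∃ k : ℕ, d ^ (p ^ k) ∈ Subgroup.centralizer (V : Set L)) →
    D ≤ Subgroup.centralizer (V : Set L)

theorem redOn_of_isSubnormal {V : Subgroup L} (hV : IsPReducedNormal p V) {K : Subgroup L}
    (hK : K.IsSubnormal) : RedOn p V K := by
  have hVn := hV.1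
  have hCn : (Subgroup.centralizer (V : Set L)).Normal := inferInstance
  induction hK with
  | top =>
    intro D _ hDn hD
    have hn : D.Normal := by
      rw [← Subgroup.normalizer_eq_top_iff, eq_top_iff]
      exact hDn
    exact pReduced_elim hV hn hD
  | step K₁ K₂ hle _ hN ih =>
    intro D hDK hDn hD
    have hK₂n : K₂ ≤ Subgroup.normalizer (K₁ : Set L) :=
      (Subgroup.normal_subgroupOf_iff_le_normalizer hle).1 hN
    let A : ↥K₂ → Subgroup L := fun k => D.map (MulAut.conj (k : L)).toMonoidHom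
    have hAK : ∀ k, A k ≤ K₁ := by
      intro k
      have h1 := Subgroup.map_mono (f := (MulAut.conj (k : L)).toMonoidHom) hDK
      rwa [H13.map_conj_eq_of_mem_normalizer (hK₂n k.2)] at h1
    have hAn : ∀ k, K₁ ≤ Subgroup.normalizer (A k : Set L) := by
      intro k
      have h1 := Subgroup.map_mono (f := (MulAut.conj (k : L)).toMonoidHom) hDn
      rwa [H13.map_conj_eq_of_mem_normalizer (hK₂n k.2), H13.map_conj_normalizer] at h1
    have hAp : ∀ k, ∀ x ∈ A k, ∃ j : ℕ, x ^ (p ^ j) ∈ Subgroup.centralizer (V : Set L) := by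
      rintro k _ ⟨d, hd, rfl⟩
      obtain ⟨j, hj⟩ := hD d hd
      refine ⟨j, ?_⟩
      have e : ((MulAut.conj (k : L)).toMonoidHom d) ^ (p ^ j) = (k : L) * d ^ (p ^ j) * (k : L)⁻¹ := by
        change ((k : L) * d * (k : L)⁻¹) ^ (p ^ j) = _
        rw [conj_pow]
      rw [e]
      exact hCn.conj_mem _ hj _
    -- `Q` : the `p`-core in `K₁/C`
    let C₁ : Subgroup ↥K₁ := (Subgroup.centralizer (V : Set L)).subgroupOf K₁
    have hC₁ : C₁.Normal := Subgroup.normal_subgroupOf
    have hAQ : ∀ k, (A k).subgroupOf K₁ ≤ (pCore p (↥K₁ ⧸ C₁)).comap (QuotientGroup.mk' C₁) := by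
      intro k
      rw [← Subgroup.map_le_iff_le_comap]
      apply H13.le_pCore
      · apply Subgroup.Normal.map _ _ (QuotientGroup.mk'_surjective C₁)
        constructor
        intro x hx g
        rw [Subgroup.mem_subgroupOf] at hx ⊢
        exact (Subgroup.mem_normalizer_iff.1 (hAn k g.2) x).1 hx
      · rintro ⟨_, x, hx, rfl⟩
        obtain ⟨j, hj⟩ := hAp k x hx
        refine ⟨j, ?_⟩
        apply Subtype.ext
        change (QuotientGroup.mk' C₁ x) ^ (p ^ j) = 1
        rw [← map_pow]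
        apply (QuotientGroup.eq_one_iff _).2
        rw [Subgroup.mem_subgroupOf]
        simpa using hj
    -- the join is `K₂`-invariant and `p`-elementwise
    have hS : (⨆ k, A k) ≤ K₁ := iSup_le hAK
    have hSp : ∀ x ∈ (⨆ k, A k), ∃ j : ℕ, x ^ (p ^ j) ∈ Subgroup.centralizer (V : Set L) := by
      intro x hx
      have h1 : (⨆ k, A k) ≤ ((pCore p (↥K₁ ⧸ C₁)).comap (QuotientGroup.mk' C₁)).map K₁.subtype := by
        apply iSup_le
        intro k y hy
        exact ⟨⟨y, hAK k hy⟩, hAQ k hy, rfl⟩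
      obtain ⟨u, hu, rfl⟩ := h1 hx
      obtain ⟨j, hj⟩ := (H13.isPGroup_pCore (p := p) (G := ↥K₁ ⧸ C₁)) ⟨_, hu⟩
      refine ⟨j, ?_⟩
      have h2 : (QuotientGroup.mk' C₁ u) ^ (p ^ j) = 1 := by
        simpa using congrArg Subtype.val hj
      rw [← map_pow] at h2
      have h3 := (QuotientGroup.eq_one_iff _).1 h2
      rw [Subgroup.mem_subgroupOf] at h3
      simpa using h3
    have hSn : K₂ ≤ Subgroup.normalizer (((⨆ k, A k) : Subgroup L) : Set L) := by
      intro k hk
      apply H13.mem_normalizer_of_map_conj_le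
      rw [Subgroup.map_iSup]
      apply iSup_le
      intro k'
      have h1 : (A k').map (MulAut.conj k).toMonoidHom = A (⟨k, hk⟩ * k') := by
        simp only [A]
        rw [H13.map_conj_mul]
        rfl
      rw [h1]
      exact le_iSup A _
    have h2 := ih (⨆ k, A k) (hS.trans hle) hSn hSp
    refine le_trans ?_ h2
    intro d hd
    refine (le_iSup A 1) ⟨d, hd, ?_⟩
    simp


/-- The reducedness of `[V, O^p(K)]` in `K`. -/
theorem commutator_res_pReduced {V : Subgroup L} [hVn : V.Normal] (hVE : IsElementaryAbelian p V)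
    {K : Subgroup L} (hred : RedOn p V K) (hW : ⁅V, (pResidual p ↥K).map K.subtype⁆ ≤ K) :
    IsPReducedNormal p ((⁅V, (pResidual p ↥K).map K.subtype⁆).subgroupOf K) := by
  set R := (pResidual p ↥K).map K.subtype with hR
  set W := ⁅V, R⁆ with hWdef
  have hRK : R ≤ K := res_le K
  have hKV : K ≤ Subgroup.normalizer (V : Set L) := by
    rw [Subgroup.normalizer_eq_top_iff.2 hVn]; exact le_top
  have hKR : K ≤ Subgroup.normalizer (R : Set L) := fun k hk =>
    res_normalized (Subgroup.le_normalizer hk)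
  have hKW : K ≤ Subgroup.normalizer (W : Set L) := fun k hk =>
    conj_mem_normalizer_commutator (hKV hk) (hKR hk)
  have hVc := isElementaryAbelian_comm hVE
  have hWV : W ≤ V := by
    rw [hWdef, Subgroup.commutator_le]
    intro v hv z _
    have e : ⁅v, z⁆ = v * (z * v⁻¹ * z⁻¹) := by rw [commutatorElement_def]; group
    rw [e]
    exact mul_mem hv (hVn.conj_mem _ (inv_mem hv) _)
  have hCV : ∀ x : L, x ∈ Subgroup.centralizer (V : Set L) → x ∈ Subgroup.centralizer (W : Set L) := by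
    intro x hx
    rw [Subgroup.mem_centralizer_iff] at hx ⊢
    intro w hw
    exact hx w (hWV hw)
  have hXn : (W.subgroupOf K).Normal := by
    constructor
    intro x hx g
    rw [Subgroup.mem_subgroupOf] at hx ⊢
    exact (Subgroup.mem_normalizer_iff.1 (hKW g.2) x).1 hx
  have hXE : IsElementaryAbelian p (W.subgroupOf K) := by
    refine ⟨⟨⟨fun a b => ?_⟩⟩, fun a ha => ?_⟩
    · apply Subtype.ext
      apply Subtype.ext
      exact hVc _ (hWV a.2) _ (hWV b.2)
    · apply Subtype.ext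
      exact hVE.2 _ (hWV ha)
  have hcent : ∀ x : ↥K, x ∈ Subgroup.centralizer ((W.subgroupOf K : Subgroup ↥K) : Set ↥K) ↔
      (x : L) ∈ Subgroup.centralizer (W : Set L) := by
    intro x
    rw [Subgroup.mem_centralizer_iff, Subgroup.mem_centralizer_iff]
    constructor
    · intro h y hy
      exact congrArg Subtype.val (h ⟨y, hW hy⟩ hy)
    · intro h a ha
      exact Subtype.ext (h a ha)
  apply pReduced_intro hXn hXE
  intro D hD _ hDp
  set D₀ := D.map K.subtype with hD₀
  have hD₀K : D₀ ≤ K := by rintro _ ⟨d, -, rfl⟩; exact d.2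
  have hKD₀ : K ≤ Subgroup.normalizer (D₀ : Set L) := by
    intro n hn
    apply H13.mem_normalizer_of_map_conj_le
    rintro _ ⟨_, ⟨d, hd, rfl⟩, rfl⟩
    exact ⟨_, hD.conj_mem d hd ⟨n, hn⟩, rfl⟩
  have hD₀p : ∀ d ∈ D₀, ∃ k : ℕ, d ^ (p ^ k) ∈ Subgroup.centralizer (W : Set L) := by
    rintro _ ⟨d, hd, rfl⟩
    obtain ⟨k, hk⟩ := hDp d hd
    exact ⟨k, (hcent _).1 hk⟩
  -- Step a: `C_R(W) ≤ C(V)`
  have hCR : R ⊓ Subgroup.centralizer (W : Set L) ≤ Subgroup.centralizer (V : Set L) := by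
    apply hred _ (inf_le_left.trans hRK)
    · refine le_trans (le_inf hKR ?_) Subgroup.inf_normalizer_le_normalizer_inf
      intro k hk
      apply H13.mem_normalizer_of_map_conj_le
      rw [H13.map_conj_centralizer, H13.map_conj_eq_of_mem_normalizer (hKW hk)]
    · rintro r ⟨hrR, hrW⟩
      refine ⟨1, ?_⟩
      rw [pow_one, Subgroup.mem_centralizer_iff]
      intro v hv
      have hrR' : r ∈ R := hrR
      have hrW' : r ∈ Subgroup.centralizer (W : Set L) := hrW
      -- `r v r⁻¹ = ⁅r, v⁆ v`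
      have hw : ⁅r, v⁆ ∈ W := by
        rw [hWdef, Subgroup.commutator_comm]
        exact Subgroup.commutator_mem_commutator hrR' hv
      have key : ∀ n : ℕ, r ^ n * v * (r ^ n)⁻¹ = ⁅r, v⁆ ^ n * v := by
        intro n
        induction n with
        | zero => simp
        | succ n ih =>
          have hc : r * ⁅r, v⁆ ^ n = ⁅r, v⁆ ^ n * r :=
            (Subgroup.mem_centralizer_iff.1 hrW' _ (pow_mem hw n)).symm
          calc r ^ (n + 1) * v * (r ^ (n + 1))⁻¹ = r * (r ^ n * v * (r ^ n)⁻¹) * r⁻¹ := by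
                rw [pow_succ']; group
            _ = r * (⁅r, v⁆ ^ n * v) * r⁻¹ := by rw [ih]
            _ = (r * ⁅r, v⁆ ^ n) * v * r⁻¹ := by group
            _ = (⁅r, v⁆ ^ n * r) * v * r⁻¹ := by rw [hc]
            _ = ⁅r, v⁆ ^ n * (r * v * r⁻¹) := by group
            _ = ⁅r, v⁆ ^ n * (⁅r, v⁆ * v) := by
              rw [commutatorElement_def]; group
            _ = ⁅r, v⁆ ^ (n + 1) * v := by rw [pow_succ]; group
      have h1 := key p
      rw [hVE.2 _ (hWV hw), one_mul] at h1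
      rw [mul_inv_eq_iff_eq_mul] at h1
      exact h1.symm
  -- Step b: `D₀ ∩ R ≤ C(V)`
  have hD₁ : D₀ ⊓ R ≤ Subgroup.centralizer (V : Set L) := by
    apply hred _ (inf_le_left.trans hD₀K)
    · exact le_trans (le_inf hKD₀ hKR) Subgroup.inf_normalizer_le_normalizer_inf
    · rintro r ⟨hr1, hr2⟩
      obtain ⟨k, hk⟩ := hD₀p r hr1
      refine ⟨k, hCR ?_⟩
      exact Subgroup.mem_inf.2 ⟨pow_mem hr2 _, hk⟩
  -- Step c: `[D₀, R] ≤ C(V)`
  have hcomm : ∀ d ∈ D₀, ∀ r ∈ R, ⁅r, d⁆ ∈ K ⊓ Subgroup.centralizer (V : Set L) := by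
    intro d hd r hr
    have h1 : ⁅r, d⁆ ∈ D₀ := by
      have e : ⁅r, d⁆ = (r * d * r⁻¹) * d⁻¹ := by rw [commutatorElement_def]
      rw [e]
      exact mul_mem ((Subgroup.mem_normalizer_iff.1 (hKD₀ (hRK hr)) d).1 hd) (inv_mem hd)
    have h2 : ⁅r, d⁆ ∈ R := by
      have e : ⁅r, d⁆ = r * (d * r⁻¹ * d⁻¹) := by rw [commutatorElement_def]; group
      rw [e]
      exact mul_mem hr ((Subgroup.mem_normalizer_iff.1 (hKR (hD₀K hd)) _).1 (inv_mem hr))
    exact Subgroup.mem_inf.2 ⟨hD₀K h1, hD₁ (Subgroup.mem_inf.2 ⟨h1, h2⟩)⟩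
  -- Step d: `p`-elements of `D₀` centralize `V`
  have hCK : (K ⊓ Subgroup.centralizer (V : Set L)) ≤ Subgroup.centralizer (W : Set L) :=
    fun x hx => hCV x hx.2
  have hKCK : K ≤ Subgroup.normalizer (((K ⊓ Subgroup.centralizer (V : Set L)) : Subgroup L) : Set L) := by
    refine le_trans (le_inf Subgroup.le_normalizer ?_) Subgroup.inf_normalizer_le_normalizer_inf
    rw [Subgroup.normalizer_eq_top_iff.2 inferInstance]
    exact le_top
  have hpel : ∀ y ∈ D₀, (∃ k : ℕ, y ^ (p ^ k) = 1) → y ∈ Subgroup.centralizer (V : Set L) := by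
    intro y hy ⟨k, hk⟩
    have hyp : IsPGroup p ↥(Subgroup.zpowers y) := isPGroup_zpowers_of_pow hk
    have hyK : Subgroup.zpowers y ≤ K := Subgroup.zpowers_le.2 (hD₀K hy)
    obtain ⟨T₁, hT₁⟩ := (H13.isPGroup_subgroupOf (K := K) hyp).exists_le_sylow
    set T₂ := (T₁ : Subgroup ↥K).map K.subtype with hT₂
    have hT₂K : T₂ ≤ K := by rintro _ ⟨x, -, rfl⟩; exact x.2
    have hT₂p : IsPGroup p ↥T₂ := IsPGroup.map T₁.2 _
    have hyT₂ : y ∈ T₂ := ⟨⟨y, hD₀K hy⟩, hT₁ (by
      rw [Subgroup.mem_subgroupOf]; exact Subgroup.mem_zpowers y), rfl⟩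
    set P := T₂ ⊓ D₀ with hP
    set E := K ⊓ Subgroup.centralizer (V : Set L) with hE
    have hPE : P ≤ Subgroup.normalizer (E : Set L) := fun a ha => hKCK (hT₂K ha.1)
    have hDp' : P ⊔ E ≤ Subgroup.centralizer (V : Set L) := by
      apply hred
      · exact sup_le (inf_le_left.trans hT₂K) inf_le_left
      · -- `K = T₁ ⊔ R`
        have hKdec : (⊤ : Subgroup ↥K) ≤ (Subgroup.normalizer (((P ⊔ E) : Subgroup L) : Set L)).subgroupOf K := by
          rw [← H13.sylow_sup_pResidual T₁]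
          apply sup_le
          · intro t ht
            rw [Subgroup.mem_subgroupOf]
            apply H13.mem_normalizer_of_map_conj_le
            have ht' : (t : L) ∈ T₂ := ⟨t, ht, rfl⟩
            rw [Subgroup.map_sup, H13.map_conj_eq_of_mem_normalizer (hKCK t.2)]
            apply sup_le_sup_right
            rw [hP, H13.map_conj_inf, H13.map_conj_eq_of_mem_normalizer (Subgroup.le_normalizer ht'),
              H13.map_conj_eq_of_mem_normalizer (hKD₀ t.2)]
          · intro r hr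
            rw [Subgroup.mem_subgroupOf]
            have hr' : (r : L) ∈ R := ⟨r, hr, rfl⟩
            apply H13.mem_normalizer_of_map_conj_le
            rw [Subgroup.map_sup, H13.map_conj_eq_of_mem_normalizer (hKCK r.2)]
            apply sup_le _ le_sup_right
            rintro _ ⟨a, ha, rfl⟩
            have e : (MulAut.conj (r : L)).toMonoidHom a = ⁅(r : L), a⁆ * a := by
              simp [commutatorElement_def]
            rw [e]
            exact mul_mem ((le_sup_right : E ≤ _) (hcomm a ha.2 _ hr')) ((le_sup_left : P ≤ _) ha)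
        intro k hk
        have := hKdec (Subgroup.mem_top (⟨k, hk⟩ : ↥K))
        rwa [Subgroup.mem_subgroupOf] at this
      · intro x hx
        rw [← SetLike.mem_coe, Subgroup.coe_mul_of_left_le_normalizer_right P E hPE, Set.mem_mul] at hx
        obtain ⟨a, ha, c, hc, rfl⟩ := hx
        obtain ⟨j, hj⟩ := hT₂p ⟨a, ha.1⟩
        have hj' : a ^ (p ^ j) = 1 := by simpa using congrArg Subtype.val hj
        obtain ⟨c', hc', e⟩ := pow_mul_mem_of_normalizer (hPE ha) hc (p ^ j)
        refine ⟨j, ?_⟩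
        rw [e, hj', one_mul]
        exact hc'.2
    exact hDp' ((le_sup_left : P ≤ _) ⟨hyT₂, hy⟩)
  -- conclude
  intro d hd
  rw [hcent]
  have hd₀ : (d : L) ∈ D₀ := ⟨d, hd, rfl⟩
  obtain ⟨y, z, hy, hz, hdyz, hk, hzc⟩ := H05.exists_pow_decomp (d : L) (Fact.out : p.Prime)
  have hyD : y ∈ D₀ := (Subgroup.zpowers_le.2 hd₀) hy
  have hzD : z ∈ D₀ := (Subgroup.zpowers_le.2 hd₀) hz
  rw [hdyz]
  refine mul_mem (hCV y (hpel y hyD hk)) ?_
  obtain ⟨k', hk'⟩ := hD₀p z hzD
  exact mem_of_pow_mem_of_coprime _ (pow_orderOf_eq_one z) (hzc.pow_right k').symm hk'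

end

end Cfsg.Agent.H12
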