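import Cfsg.Agent.Lib.H12.Kieler
import Cfsg.Agent.Lib.H12.Subnormal
import Cfsg.Agent.Lib.H12.FStarAct
import Cfsg.Agent.Lib.H13.Residual
import Cfsg.Agent.Lib.H05.Comp3
import Cfsg.Agent.Lib.H06.FittingHall
import Cfsg.Agent.Lib.H01.Coprime

/-! `T ∩ ⟨A, B⟩ = ⟨T ∩ A, T ∩ B⟩` for `T` Sylow and `A`, `B` subnormal. -/

set_option autoImplicit false
set_option linter.unusedSectionVars false

namespace Cfsg.Agent.H12

open Cfsg
open scoped commutatorElement

universe u

section basic
variable {G : Type u} [Group G] [Finite G] {p : ℕ} [Fact p.Prime]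

theorem not_dvd_relIndex_subnormal (T : Sylow p G) {A : Subgroup G} (hA : A.IsSubnormal) :
    ¬ p ∣ ((T : Subgroup G) ⊓ A).relIndex A := by
  induction hA with
  | top =>
    rw [inf_top_eq, Subgroup.relIndex_top_right]
    exact T.not_dvd_index
  | step S S' hle hS' hN ih =>
    have hn := (Subgroup.normal_subgroupOf_iff_le_normalizer hle).1 hN
    have := not_dvd_relIndex_inf (T := (T : Subgroup G) ⊓ S') hle hn ih
    rwa [inf_assoc, inf_eq_right.2 hle] at this

theorem eq_of_le_of_isPGroup {P P' X : Subgroup G} (h1 : P ≤ P') (h2 : P' ≤ X)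
    (hP' : IsPGroup p P') (hi : ¬ p ∣ P.relIndex X) : P = P' := by
  obtain ⟨a, ha⟩ := IsPGroup.iff_card.1 hP'
  have h3 := H18.card_inf_mul_relIndex P X
  rw [inf_eq_left.2 (h1.trans h2)] at h3
  have h4 : Nat.card P' ∣ Nat.card X := Subgroup.card_dvd_of_le h2
  rw [← h3, ha] at h4
  have hc : Nat.Coprime (p ^ a) (P.relIndex X) :=
    Nat.Coprime.pow_left _ ((Nat.Prime.coprime_iff_not_dvd Fact.out).2 hi)
  have h5 := hc.dvd_of_dvd_mul_right h4
  rw [← ha] at h5
  exact Subgroup.eq_of_le_of_card_ge h1 (Nat.le_of_dvd Nat.card_pos h5)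

theorem map_inf_sylow {G' : Type u} [Group G'] [Finite G'] (π : G →* G') (T : Sylow p G)
    {A : Subgroup G} (hA : A.IsSubnormal) :
    ((T : Subgroup G).map π) ⊓ (A.map π) = ((T : Subgroup G) ⊓ A).map π := by
  symm
  apply eq_of_le_of_isPGroup (p := p) (X := A.map π)
  · exact le_inf (Subgroup.map_mono inf_le_left) (Subgroup.map_mono inf_le_right)
  · exact inf_le_right
  · exact (T.2.map π).to_le inf_le_left
  · intro h
    apply not_dvd_relIndex_subnormal T hA
    rw [← Subgroup.relIndex_comap] at h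
    exact h.trans (Subgroup.relIndex_dvd_of_le_left A (Subgroup.le_comap_map π _))

/-- A `p'`-element of a subnormal subgroup moves a normal `p`-subgroup inside it. -/
theorem comm_le_subnormal {Q A : Subgroup G} [hQn : Q.Normal] (hQ : IsPGroup p Q)
    (hA : A.IsSubnormal) {a : G} (ha : a ∈ A) (hc : Nat.Coprime (orderOf a) p) {q : G}
    (hq : q ∈ Q) : q * a * q⁻¹ * a⁻¹ ∈ A := by
  set Z := Subgroup.zpowers a with hZ
  have hZN : Z ≤ Subgroup.normalizer (Q : Set G) := by
    rw [Subgroup.normalizer_eq_top_iff.2 hQn]; exact le_top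
  have hcop : (Nat.card Z).Coprime (Nat.card Q) := by
    obtain ⟨k, hk⟩ := IsPGroup.iff_card.1 hQ
    rw [hk, hZ, Nat.card_zpowers]
    exact Nat.Coprime.pow_right _ hc
  haveI : Group.IsNilpotent Q := hQ.isNilpotent
  have hs : Group.IsSolvable Q := inferInstance
  have hR := H01.commutator_commutator_eq hZN hcop (Or.inr hs)
  set R := ⁅Q, Z⁆ with hRdef
  have key : ∀ S : Subgroup G, S.IsSubnormal → a ∈ S → R ≤ S := by
    intro S hS
    induction hS with
    | top => intro _; exact le_top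
    | step S S' hle hS' hN ih =>
      intro haS
      have h1 := ih (hle haS)
      have hn := (Subgroup.normal_subgroupOf_iff_le_normalizer hle).1 hN
      rw [← hR, Subgroup.commutator_le]
      intro r hr z hz
      have hzS : z ∈ S := (Subgroup.zpowers_le.2 haS) hz
      rw [commutatorElement_def]
      exact S.mul_mem ((Subgroup.mem_normalizer_iff.1 (hn (h1 hr)) z).1 hzS) (S.inv_mem hzS)
  have h2 : ⁅q, a⁆ ∈ R := Subgroup.commutator_mem_commutator hq (Subgroup.mem_zpowers a)
  rw [commutatorElement_def] at h2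
  exact key A hA ha h2

/-- Generation of a subnormal subgroup by its `p'`-elements and a Sylow subgroup. -/
theorem le_of_coprime_of_sylow {A M : Subgroup G} (T : Sylow p G) (hA : A.IsSubnormal)
    (h1 : (T : Subgroup G) ⊓ A ≤ M) (h2 : ∀ a ∈ A, Nat.Coprime (orderOf a) p → a ∈ M) :
    A ≤ M := by
  have hP : IsPGroup p ((T : Subgroup G).subgroupOf A) :=
    T.2.comap_of_injective _ A.subtype_injective
  have hi : ¬ p ∣ ((T : Subgroup G).subgroupOf A).index := by
    have := not_dvd_relIndex_subnormal T hA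
    rwa [Subgroup.inf_relIndex_right] at this
  let P : Sylow p A := IsPGroup.toSylow hP hi
  have hS := H13.sylow_sup_pResidual P
  have hle : (P : Subgroup A) ⊔ pResidual p A ≤ M.subgroupOf A := by
    apply sup_le
    · intro x hx
      exact h1 ⟨hx, x.2⟩
    · unfold pResidual
      rw [Subgroup.closure_le]
      intro x hx
      apply h2 _ x.2
      rwa [Subgroup.orderOf_coe]
  rw [hS] at hle
  intro x hx
  exact hle (Subgroup.mem_top (⟨x, hx⟩ : A))

/-- Normal factor. -/
theorem sylow_le_of_normal_sup (N B : Subgroup G) [hN : N.Normal] (hB : B.IsSubnormal)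
    (h : N ⊔ B = ⊤) (T : Sylow p G) :
    (T : Subgroup G) ≤ ((T : Subgroup G) ⊓ N) ⊔ ((T : Subgroup G) ⊓ B) := by
  let π := QuotientGroup.mk' N
  have hB' : B.map π = ⊤ := by
    have h1 : (N ⊔ B).map π = ⊤ := by
      rw [h, ← MonoidHom.range_eq_map]
      exact MonoidHom.range_eq_top.2 (QuotientGroup.mk'_surjective N)
    rw [Subgroup.map_sup] at h1
    have h2 : N.map π = ⊥ := by
      rw [Subgroup.map_eq_bot_iff]
      rw [QuotientGroup.ker_mk']
    rwa [h2, bot_sup_eq] at h1
  have h3 := map_inf_sylow π T hB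
  rw [hB', inf_top_eq] at h3
  intro t ht
  have h4 : π t ∈ ((T : Subgroup G) ⊓ B).map π := by
    rw [← h3]; exact ⟨t, ht, rfl⟩
  obtain ⟨y, hy, hyt⟩ := h4
  have h5 : y⁻¹ * t ∈ N := by
    rw [← QuotientGroup.ker_mk' N, MonoidHom.mem_ker, map_mul, map_inv]
    change (π y)⁻¹ * π t = 1
    rw [hyt]; simp
  have h6 : t = y * (y⁻¹ * t) := by group
  rw [h6]
  rw [sup_comm]
  exact Subgroup.mul_mem_sup hy ⟨T.1.mul_mem (T.1.inv_mem hy.1) ht, h5⟩

/-- Every component lies in one of two generating subnormal subgroups. -/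
theorem comp_le_or_le {A B K : Subgroup G} (hA : A.IsSubnormal) (hB : B.IsSubnormal)
    (hAB : A ⊔ B = ⊤) (hK : IsComponent K) : K ≤ A ∨ K ≤ B := by
  rcases H05.comp_le_or_comm hK.1 hK.2 hA with h | h1
  · exact Or.inl h
  rcases H05.comp_le_or_comm hK.1 hK.2 hB with h | h2
  · exact Or.inr h
  exfalso
  rw [Subgroup.commutator_eq_bot_iff_le_centralizer] at h1 h2
  have hA' : A ≤ Subgroup.centralizer (K : Set G) := by
    rw [← Subgroup.le_centralizer_iff]; exact h1
  have hB' : B ≤ Subgroup.centralizer (K : Set G) := by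
    rw [← Subgroup.le_centralizer_iff]; exact h2
  have htop : Subgroup.centralizer (K : Set G) = ⊤ := by
    rw [eq_top_iff, ← hAB]; exact sup_le hA' hB'
  apply H05.qs_not_solvable hK.2
  have hcomm : ∀ a b : K, a * b = b * a := by
    intro a b
    apply Subtype.ext
    have : (a : G) ∈ Subgroup.centralizer (K : Set G) := by rw [htop]; trivial
    exact ((Subgroup.mem_centralizer_iff.1 this) b b.2).symm
  letI : CommGroup K := { (inferInstance : Group K) with mul_comm := hcomm }
  infer_instance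

/-- The Sylow subgroup of the layer. -/
theorem sylow_inf_layer_le {A B : Subgroup G} (hA : A.IsSubnormal) (hB : B.IsSubnormal)
    (hAB : A ⊔ B = ⊤) (T : Sylow p G) :
    (T : Subgroup G) ⊓ layer G ≤ ((T : Subgroup G) ⊓ A) ⊔ ((T : Subgroup G) ⊓ B) := by
  classical
  set E := layer G with hE
  haveI hEn : E.Normal := H05.layer_normal
  set AE : Subgroup G := sSup {K | IsComponent K ∧ K ≤ A} with hAE
  set BE : Subgroup G := sSup {K | IsComponent K ∧ K ≤ B} with hBE
  have hAEA : AE ≤ A := sSup_le fun _ h => h.2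
  have hBEB : BE ≤ B := sSup_le fun _ h => h.2
  have hAEE : AE ≤ E := sSup_le fun _ h => H05.comp_le_layer h.1
  have hBEE : BE ≤ E := sSup_le fun _ h => H05.comp_le_layer h.1
  have hsup : AE ⊔ BE = E := by
    apply le_antisymm (sup_le hAEE hBEE)
    apply sSup_le
    intro K hK
    rcases comp_le_or_le hA hB hAB hK with h | h
    · exact le_sup_of_le_left (le_sSup ⟨hK, h⟩)
    · exact le_sup_of_le_right (le_sSup ⟨hK, h⟩)
  have key : ∀ (X XE : Subgroup G), X.IsSubnormal → XE = sSup {K | IsComponent K ∧ K ≤ X} →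
      E ≤ Subgroup.normalizer (XE : Set G) := by
    intro X XE hX hXE
    apply sSup_le
    intro K hK
    rcases H05.comp_le_or_comm hK.1 hK.2 hX with h | h
    · exact (show K ≤ XE by rw [hXE]; exact le_sSup ⟨hK, h⟩).trans Subgroup.le_normalizer
    · intro k hk
      rw [Subgroup.commutator_eq_bot_iff_le_centralizer] at h
      have hc : ∀ x ∈ XE, k * x = x * k := by
        intro x hx
        have hxX : x ∈ X := by
          rw [hXE] at hx
          exact (sSup_le (fun _ h => h.2) : sSup {K | IsComponent K ∧ K ≤ X} ≤ X) hx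
        exact ((Subgroup.mem_centralizer_iff.1 (h hk)) x hxX).symm ▸ rfl
      apply H13.mem_normalizer_of_map_conj_le
      rintro _ ⟨x, hx, rfl⟩
      have h1 : k * x * k⁻¹ = x := by rw [hc x hx]; simp
      change k * x * k⁻¹ ∈ XE
      rwa [h1]
  have hNA := key A AE hA rfl
  have hNB := key B BE hB rfl
  haveI hNA' : (AE.subgroupOf E).Normal := (Subgroup.normal_subgroupOf_iff_le_normalizer hAEE).2 hNA
  haveI hNB' : (BE.subgroupOf E).Normal := (Subgroup.normal_subgroupOf_iff_le_normalizer hBEE).2 hNB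
  have hsup' : AE.subgroupOf E ⊔ BE.subgroupOf E = ⊤ := by
    apply Subgroup.map_injective E.subtype_injective
    rw [Subgroup.map_sup, Subgroup.subgroupOf_map_subtype, Subgroup.subgroupOf_map_subtype,
      inf_eq_left.2 hAEE, inf_eq_left.2 hBEE, hsup, ← MonoidHom.range_eq_map, Subgroup.range_subtype]
  have h := sylow_le_of_normal_sup (AE.subgroupOf E) (BE.subgroupOf E) hNB'.isSubnormal hsup'
    (H18.sylowOfNormal T E)
  rintro x ⟨hxT, hxE⟩
  have hx : (⟨x, hxE⟩ : E) ∈ (H18.sylowOfNormal T E : Subgroup E) := hxT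
  have hx2 := h hx
  have hmap : (((H18.sylowOfNormal T E : Subgroup E) ⊓ AE.subgroupOf E) ⊔
      ((H18.sylowOfNormal T E : Subgroup E) ⊓ BE.subgroupOf E)).map E.subtype ≤
      ((T : Subgroup G) ⊓ A) ⊔ ((T : Subgroup G) ⊓ B) := by
    rw [Subgroup.map_sup]
    apply sup_le_sup
    · rintro _ ⟨y, ⟨hy1, hy2⟩, rfl⟩
      exact ⟨hy1, hAEA hy2⟩
    · rintro _ ⟨y, ⟨hy1, hy2⟩, rfl⟩
      exact ⟨hy1, hBEB hy2⟩
  exact hmap ⟨_, hx2, rfl⟩

end basic

section main
variable {p : ℕ} [Fact p.Prime]

theorem pPrimeCore_normal' (p : ℕ) (G : Type u) [Group G] : (pPrimeCore p G).Normal := by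
  unfold pPrimeCore
  exact Subgroup.sSup_normal _ fun _ h => h.1

/-- The Fitting subgroup is a `p`-group when `O_{p'}` is trivial. -/
theorem isPGroup_fitting {G : Type u} [Group G] [Finite G] (hO : pPrimeCore p G = ⊥) :
    IsPGroup p (fittingSubgroup G) := by
  apply H13.isPGroup_of_forall_coprime
  have hmain : ∀ N : Subgroup G, N.Normal → Group.IsNilpotent N → ∀ y ∈ N,
      Nat.Coprime (orderOf y) p → y = 1 := by
    intro N hNn hNnil y hy hc
    by_contra hy1
    have hord : orderOf y ≠ 1 := fun h => hy1 (orderOf_eq_one_iff.1 h)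
    obtain ⟨r, hr, hrd⟩ := Nat.exists_prime_and_dvd hord
    haveI : Fact r.Prime := ⟨hr⟩
    have hrp : r ≠ p := by
      rintro rfl
      exact hr.one_lt.ne' (Nat.eq_one_of_dvd_coprimes hc hrd (dvd_refl r))
    -- element of order r
    set z := y ^ (orderOf y / r) with hz
    have hzN : z ∈ N := N.pow_mem hy _
    have hzo : orderOf z = r := by
      rw [hz, orderOf_pow_orderOf_div (orderOf_pos y).ne' hrd]
    have hz1 : z ≠ 1 := by
      intro h
      rw [h, orderOf_one] at hzo
      exact hr.one_lt.ne hzo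
    haveI := hNn
    haveI := hNnil
    have hcl : IsPClosed r N := isPClosed_of_nilpotent
    have hzp : IsPGroup r (Subgroup.zpowers (⟨z, hzN⟩ : N)) := by
      rw [IsPGroup.iff_card, Nat.card_zpowers, Subgroup.orderOf_mk, hzo]
      exact ⟨1, by simp⟩
    have h1 := le_pCore_of_isPClosed hcl hzp
    have h2 : (⟨z, hzN⟩ : N) ∈ pCore r N := h1 (Subgroup.mem_zpowers _)
    have hRn := map_pCore_normal (p := r) N
    have hRp : IsPGroup r ((pCore r N).map N.subtype) := H13.isPGroup_pCore.map _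
    have hRc : (Nat.card ((pCore r N).map N.subtype)).Coprime p := by
      obtain ⟨k, hk⟩ := IsPGroup.iff_card.1 hRp
      rw [hk]
      exact Nat.Coprime.pow_left _ ((Nat.coprime_primes hr Fact.out).2 hrp)
    have hle : (pCore r N).map N.subtype ≤ pPrimeCore p G := le_sSup ⟨hRn, hRc⟩
    rw [hO] at hle
    exact hz1 (hle ⟨_, h2, rfl⟩)
  intro y hy hc
  have hn := H01.fitting_normal (G := G)
  have hnil := H01.fitting_nilpotent (G := G)
  exact hmain _ hn hnil y hy hc

/-- Sylow subgroups of joins of subnormal subgroups. -/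
theorem sylow_le_sup_inf : ∀ (n : ℕ) (G : Type u) [Group G] [Finite G] (A B : Subgroup G),
    A.IsSubnormal → B.IsSubnormal → A ⊔ B = ⊤ → ∀ T : Sylow p G, Nat.card G = n →
    (T : Subgroup G) ≤ ((T : Subgroup G) ⊓ A) ⊔ ((T : Subgroup G) ⊓ B) := by
  intro n
  induction n using Nat.strong_induction_on with
  | _ n ih =>
  intro G _ _ A B hA hB hAB T hn
  set W := ((T : Subgroup G) ⊓ A) ⊔ ((T : Subgroup G) ⊓ B) with hW
  have hWT : W ≤ T := sup_le inf_le_left inf_le_left
  -- reduction modulo a normal subgroup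
  have hstep : ∀ N : Subgroup G, N.Normal → N ≠ ⊥ → (T : Subgroup G) ⊓ N ≤ W → (T : Subgroup G) ≤ W := by
    intro N hNn hN1 hNW
    haveI := hNn
    let π := QuotientGroup.mk' N
    have hπ : Function.Surjective π := QuotientGroup.mk'_surjective N
    have hlt : Nat.card (G ⧸ N) < n := by
      rw [← hn]
      have h1 := Subgroup.card_mul_index N
      have h2 : 1 < Nat.card N := by
        rw [Subgroup.one_lt_card_iff_ne_bot]; exact hN1
      have h4 : N.index = Nat.card (G ⧸ N) := rfl
      have h3 : 0 < Nat.card (G ⧸ N) := Nat.card_pos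
      rw [← h4] at h3 ⊢
      rw [← h1]
      nlinarith
    have hAB' : A.map π ⊔ B.map π = ⊤ := by
      rw [← Subgroup.map_sup, hAB, ← MonoidHom.range_eq_map]
      exact MonoidHom.range_eq_top.2 hπ
    have h1 := ih _ hlt (G ⧸ N) (A.map π) (B.map π) (hA.map hπ) (hB.map hπ) hAB'
      (T.mapSurjective hπ) rfl
    simp only [Sylow.coe_mapSurjective] at h1
    have e1 := map_inf_sylow π T hA
    have e2 := map_inf_sylow π T hB
    change Subgroup.map π T ≤ _ at h1
    rw [e1, e2, ← Subgroup.map_sup] at h1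
    intro t ht
    obtain ⟨w, hw, hwt⟩ := h1 ⟨t, ht, rfl⟩
    have h5 : w⁻¹ * t ∈ N := by
      rw [← QuotientGroup.ker_mk' N, MonoidHom.mem_ker, map_mul, map_inv]
      change (π w)⁻¹ * π t = 1
      rw [hwt]; simp
    have h6 : t = w * (w⁻¹ * t) := by group
    rw [h6]
    exact W.mul_mem hw (hNW ⟨T.1.mul_mem (T.1.inv_mem (hWT hw)) ht, h5⟩)
  -- `O_{p'}`
  by_cases hO : pPrimeCore p G = ⊥
  swap
  · apply hstep _ (H12.pPrimeCore_normal' p G) hO
    intro x hx
    have h1 : x = 1 := by
      have hc := H06.coprime_card_pPrimeCore (G := G) p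
      apply H13.eq_one_of_coprime_of_mem T.2 hx.1
      have h2 : orderOf x ∣ Nat.card (pPrimeCore p G) := by
        have := Subgroup.orderOf_dvd_natCard _ hx.2
        exact this
      exact Nat.Coprime.coprime_dvd_left h2 hc
    rw [h1]; exact W.one_mem
  -- `O_p`
  set Q := pCore p G with hQ
  haveI hQn : Q.Normal := inferInstance
  have hQp : IsPGroup p Q := H13.isPGroup_pCore
  have hQT : Q ≤ T := H13.pCore_le_sylow T
  have hcomm : ∀ (X : Subgroup G), X.IsSubnormal → (T : Subgroup G) ⊓ X ≤ W → ∀ a ∈ X,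
      Nat.Coprime (orderOf a) p → ∀ q ∈ Q, q * a * q⁻¹ * a⁻¹ ∈ Q ⊓ W := by
    intro X hX hXW a ha hc q hq
    have h1 := comm_le_subnormal hQp hX ha hc hq
    have h2 : q * a * q⁻¹ * a⁻¹ ∈ Q := by
      have : q * a * q⁻¹ * a⁻¹ = q * (a * q⁻¹ * a⁻¹) := by group
      rw [this]
      exact Q.mul_mem hq (hQn.conj_mem _ (Q.inv_mem hq) a)
    exact ⟨h2, hXW ⟨hQT h2, h1⟩⟩
  have hN0 : ∀ (X : Subgroup G), X.IsSubnormal → (T : Subgroup G) ⊓ X ≤ W →
      X ≤ Subgroup.normalizer ((Q ⊓ W : Subgroup G) : Set G) := by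
    intro X hX hXW
    apply le_of_coprime_of_sylow T hX
    · intro t ht
      have htW := hXW ht
      rw [Subgroup.mem_normalizer_iff]
      intro x
      exact and_congr (Subgroup.mem_normalizer_iff.1
        ((Subgroup.normalizer_eq_top_iff.2 hQn) ▸ Subgroup.mem_top t) x)
        (Subgroup.mem_normalizer_iff.1 (Subgroup.le_normalizer htW) x)
    · intro a ha hc
      apply H13.mem_normalizer_of_map_conj_le
      rintro _ ⟨q, hq, rfl⟩
      change a * q * a⁻¹ ∈ Q ⊓ W
      have hq' : q⁻¹ ∈ Q := Q.inv_mem hq.1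
      have h1 := hcomm X hX hXW a ha hc q⁻¹ hq'
      have e : a * q * a⁻¹ = q * (q⁻¹ * a * q⁻¹⁻¹ * a⁻¹) := by group
      rw [e]
      exact (Q ⊓ W).mul_mem hq h1
  have hAW : (T : Subgroup G) ⊓ A ≤ W := le_sup_left
  have hBW : (T : Subgroup G) ⊓ B ≤ W := le_sup_right
  have hQ0n : (Q ⊓ W : Subgroup G).Normal := by
    rw [← Subgroup.normalizer_eq_top_iff, eq_top_iff, ← hAB]
    exact sup_le (hN0 A hA hAW) (hN0 B hB hBW)
  by_cases hQ0 : (Q ⊓ W : Subgroup G) = ⊥
  swap
  · apply hstep _ hQ0n hQ0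
    exact inf_le_right.trans inf_le_right
  -- components
  by_cases hE : layer G = ⊥
  swap
  · exact hstep _ H05.layer_normal hE (sylow_inf_layer_le hA hB hAB T)
  -- `F*(G) = O_p(G)`
  have hF : fittingSubgroup G ≤ Q := by
    have hn := H01.fitting_normal (G := G)
    exact H13.le_pCore hn (isPGroup_fitting hO)
  have hFs : generalizedFittingSubgroup G ≤ Q := by
    unfold generalizedFittingSubgroup
    rw [hE, bot_sup_eq]
    exact hF
  have hC : Subgroup.centralizer (Q : Set G) ≤ Q := by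
    have h1 : Q ≤ generalizedFittingSubgroup G := (H01.pCore_le_fitting p).trans le_sup_right
    have heq : generalizedFittingSubgroup G = Q := le_antisymm hFs h1
    have := H05.centralizer_fstar_le (G := G)
    rwa [heq] at this
  have hpg : ∀ (X : Subgroup G), X.IsSubnormal → (T : Subgroup G) ⊓ X ≤ W → X ≤ Q := by
    intro X hX hXW
    apply le_pCore_of_isSubnormal hX
    apply H13.isPGroup_of_forall_coprime
    intro a ha hc
    apply H13.eq_one_of_coprime_of_mem hQp _ hc
    apply hC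
    rw [Subgroup.mem_centralizer_iff]
    intro q hq
    have h1 := hcomm X hX hXW a ha hc q hq
    rw [hQ0, Subgroup.mem_bot] at h1
    have h2 : q * a * q⁻¹ = a := by
      rwa [mul_inv_eq_one] at h1
    rw [mul_inv_eq_iff_eq_mul] at h2
    exact h2
  have hQtop : Q = ⊤ := by
    rw [eq_top_iff, ← hAB]
    exact sup_le (hpg A hA hAW) (hpg B hB hBW)
  have hTtop : (T : Subgroup G) = ⊤ := by
    rw [eq_top_iff, ← hQtop]; exact hQT
  rw [hW, hTtop, top_inf_eq, top_inf_eq, hAB]

end main

end Cfsg.Agent.H12
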