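import Cfsg.Agent.Lib.Lead.SUOrder
import Cfsg.Agent.Lib.Lead.SUCenter
import Cfsg.Prelude.Def_ClassicalGeometry

/-!
Transvections of `SU_n(q)`: normal form and conjugacy; transitivity of `SU_n(q)` on nonzero
isotropic vectors for `n ≥ 3`.
-/

set_option autoImplicit false

namespace Cfsg.Agent.H12.UTrans

open Matrix Cfsg.Agent.Lead
open scoped MatrixGroups

variable {F : Type*} [Field F] [Fintype F] {q n : ℕ}

local notation "herm" => Cfsg.hermForm n F q

lemma exists_unit_perp (hF : Fintype.card F = q ^ 2) {k : ℕ} (u : Fin k → (Fin n → F))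
    (hu : IsON q u) (hk : k < n) : ∃ a, a ∈ perpOf hF u ∧ herm a a = 1 := by
  have hq2 := two_le_q hF
  have h := (cnt_perpOf hF u hu hk.le).2
  have hpos : 0 < hermCnt F q (n - k) 1 := by
    have h1 := herm_card_one hF (n - k)
    change hermCnt F q (n - k) 1 = _ at h1
    rw [h1]
    have h2 : 2 ≤ q ^ (n - k) := by
      calc 2 ≤ q := hq2
        _ = q ^ 1 := (pow_one q).symm
        _ ≤ q ^ (n - k) := Nat.pow_le_pow_right (by omega) (by omega)
    have h3 : 0 < q ^ (n - k - 1) := by positivity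
    split_ifs
    · exact Nat.mul_pos h3 (by omega)
    · exact Nat.mul_pos h3 (by omega)
  have h4 : 0 < cnt F q n (perpOf hF u) 1 := h ▸ hpos
  unfold cnt at h4
  obtain ⟨⟨⟨a, ha⟩⟩, -⟩ := Nat.card_pos_iff.1 h4
  exact ⟨a, ha.1, ha.2⟩

lemma isON_snoc (hF : Fintype.card F = q ^ 2) {k : ℕ} (u : Fin k → (Fin n → F)) (a : Fin n → F)
    (hu : IsON q u) (ha : a ∈ perpOf hF u) (h1 : herm a a = 1) :
    IsON q (Fin.snoc (α := fun _ => Fin n → F) u a) := by
  have hq2 := two_le_q hF
  intro i j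
  refine Fin.lastCases ?_ (fun i => ?_) i <;> refine Fin.lastCases ?_ (fun j => ?_) j
  · simpa using h1
  · simp only [Fin.snoc_last, Fin.snoc_castSucc]
    rw [if_neg (Fin.castSucc_lt_last j).ne']
    exact ha j
  · simp only [Fin.snoc_last, Fin.snoc_castSucc]
    rw [if_neg (Fin.castSucc_lt_last i).ne, herm_conj hF a (u i), ha i, zero_pow (by omega)]
  · simp only [Fin.snoc_castSucc, Fin.castSucc_inj]
    exact hu i j

lemma extend_ON (hF : Fintype.card F = q ^ 2) : ∀ (d k : ℕ) (hd : k + d = n) (u : Fin k → (Fin n → F)),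
    IsON q u → ∃ v : Fin n → (Fin n → F), IsON q v ∧
      ∀ i : Fin k, v (Fin.castLE (by omega) i) = u i := by
  intro d
  induction d with
  | zero =>
    intro k hd u hu
    obtain rfl : k = n := by omega
    exact ⟨u, hu, fun i => by simp⟩
  | succ d ih =>
    intro k hd u hu
    obtain ⟨a, ha, h1⟩ := exists_unit_perp hF u hu (by omega)
    obtain ⟨v, hv, hv2⟩ := ih (k + 1) (by omega) _ (isON_snoc hF u a hu ha h1)
    refine ⟨v, hv, fun i => ?_⟩
    have := hv2 i.castSucc
    simp only [Fin.snoc_castSucc] at this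
    rw [← this]
    congr 1

lemma exists_frame_GU (hF : Fintype.card F = q ^ 2) (h2 : 2 ≤ n) (e₁ e₂ : Fin n → F)
    (h11 : herm e₁ e₁ = 1) (h22 : herm e₂ e₂ = 1) (h12 : herm e₁ e₂ = 0) :
    ∃ A : Cfsg.GU n F q,
      ((A : GL (Fin n) F) : Matrix (Fin n) (Fin n) F) *ᵥ Pi.single ⟨0, by omega⟩ 1 = e₁ ∧
      ((A : GL (Fin n) F) : Matrix (Fin n) (Fin n) F) *ᵥ Pi.single ⟨1, by omega⟩ 1 = e₂ := by
  have hq2 := two_le_q hF
  have hON : IsON q ![e₁, e₂] := by
    intro i j
    fin_cases i <;> fin_cases j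
    · simpa using h11
    · simpa using h12
    · simp only [Fin.mk_one, Fin.zero_eta, Fin.isValue, Matrix.cons_val_one, Matrix.cons_val_zero]
      rw [if_neg (by decide), herm_conj hF e₁ e₂, h12, zero_pow (by omega)]
    · simpa using h22
  obtain ⟨v, hv, hv2⟩ := extend_ON hF (n - 2) 2 (by omega) _ hON
  have h := (guEquiv hF).apply_symm_apply ⟨v, hv⟩
  have hcol := congrArg Subtype.val h
  refine ⟨(guEquiv hF).symm ⟨v, hv⟩, ?_, ?_⟩
  · rw [Matrix.mulVec_single_one]
    have h0 := hv2 0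
    have h1 : (fun c => (((guEquiv hF).symm ⟨v, hv⟩ : Cfsg.GU n F q) : GL (Fin n) F).1 c ⟨0, by omega⟩)
        = v ⟨0, by omega⟩ := congrFun hcol ⟨0, by omega⟩
    simp only [Matrix.cons_val_zero] at h0
    rw [← h0]
    exact h1
  · rw [Matrix.mulVec_single_one]
    have h0 := hv2 1
    have h1 : (fun c => (((guEquiv hF).symm ⟨v, hv⟩ : Cfsg.GU n F q) : GL (Fin n) F).1 c ⟨1, by omega⟩)
        = v ⟨1, by omega⟩ := congrFun hcol ⟨1, by omega⟩
    simp only [Matrix.cons_val_one, Matrix.cons_val_fin_one] at h0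
    rw [← h0]
    exact h1

/-- The trace is surjective onto the fixed field. -/
lemma exists_trace_eq (hF : Fintype.card F = q ^ 2) (r : F) (hr : r ^ q = r) :
    ∃ s : F, s + s ^ q = r := by
  classical
  have hq2 := two_le_q hF
  obtain ⟨w, hw⟩ : ∃ w : F, w + w ^ q ≠ 0 := by
    by_contra hall
    push_neg at hall
    let P : Polynomial F := Polynomial.X ^ q + Polynomial.X
    have hdeg : P.natDegree = q := by
      rw [Polynomial.natDegree_add_eq_left_of_natDegree_lt]
      · simp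
      · simp only [Polynomial.natDegree_X, Polynomial.natDegree_X_pow]; omega
    have hP : P ≠ 0 := by
      intro h0
      rw [h0, Polynomial.natDegree_zero] at hdeg
      omega
    have hroots : (Finset.univ : Finset F) ⊆ P.roots.toFinset := by
      intro x _
      rw [Multiset.mem_toFinset, Polynomial.mem_roots hP, Polynomial.IsRoot.def]
      simp only [P, Polynomial.eval_add, Polynomial.eval_pow, Polynomial.eval_X]
      rw [add_comm]
      exact hall x
    have h1 := Finset.card_le_card hroots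
    rw [Finset.card_univ, hF] at h1
    have h2 := (Multiset.toFinset_card_le P.roots).trans (Polynomial.card_roots' P)
    rw [hdeg] at h2
    have h3 : q ^ 2 ≤ q := h1.trans h2
    nlinarith
  set τ := w + w ^ q with hτ
  have hτq : τ ^ q = τ := by
    obtain ⟨φ, hφ⟩ := exists_frob hF
    rw [hτ, ← hφ, map_add]
    simp only [hφ]
    rw [pow_q_sq hF, add_comm]
  refine ⟨(r / τ) * w, ?_⟩
  have h1 : (r / τ) ^ q = r / τ := by
    rw [div_pow, hr, hτq]
  rw [mul_pow, h1, ← mul_add, ← hτ]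
  field_simp

lemma neg_one_pow_q (hF : Fintype.card F = q ^ 2) : (-1 : F) ^ q = -1 := by
  rcases Nat.even_or_odd q with he | ho
  · rw [he.neg_one_pow]
    have h := pow_q_sq hF (-1 : F)
    rw [he.neg_one_pow, one_pow] at h
    exact h
  · exact ho.neg_one_pow

lemma exists_herm_one (hF : Fintype.card F = q ^ 2) {u : Fin n → F} (hu : u ≠ 0) :
    ∃ x, herm u x = 1 := by
  classical
  obtain ⟨j, hj⟩ : ∃ j, u j ≠ 0 := by
    by_contra h
    push_neg at h
    exact hu (funext h)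
  refine ⟨((u j)⁻¹) ^ q • Pi.single j 1, ?_⟩
  rw [herm_smul_right hF, herm_single hF, pow_q_sq hF, inv_mul_cancel₀ hj]

/-- A nonzero isotropic vector lies in the span of an orthonormal pair with fixed coefficients. -/
lemma exists_frame (hF : Fintype.card F = q ^ 2) {u : Fin n → F} (hu : u ≠ 0) (hiso : herm u u = 0)
    {c : F} (hc : c ^ (q + 1) = -1) :
    ∃ e₁ e₂ : Fin n → F, herm e₁ e₁ = 1 ∧ herm e₂ e₂ = 1 ∧ herm e₁ e₂ = 0 ∧ u = e₁ + c • e₂ := by
  have hq2 := two_le_q hF
  have hc0 : c ≠ 0 := by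
    rintro rfl
    rw [zero_pow (by omega)] at hc
    exact (neg_ne_zero.2 one_ne_zero) hc.symm
  obtain ⟨x, hx⟩ := exists_herm_one hF hu
  have hxu : herm x u = 1 := by
    rw [herm_conj hF u x, hx, one_pow]
  have hxx : (herm x x) ^ q = herm x x := (herm_conj hF x x).symm
  have hr : (1 - herm x x) ^ q = 1 - herm x x := by
    obtain ⟨φ, hφ⟩ := exists_frob hF
    rw [← hφ, map_sub, map_one, hφ, hxx]
  obtain ⟨s, hs⟩ := exists_trace_eq hF _ hr
  set e₁ := x + s • u with he₁
  have he₁1 : herm e₁ e₁ = 1 := by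
    rw [he₁, herm_add_left, herm_add_right hF, herm_add_right hF, herm_smul_left,
      herm_smul_right hF, herm_smul_right hF, herm_smul_left, hx, hxu, hiso]
    linear_combination hs
  have hue₁ : herm u e₁ = 1 := by
    rw [he₁, herm_add_right hF, herm_smul_right hF, hx, hiso]; ring
  have he₁u : herm e₁ u = 1 := by
    rw [herm_conj hF u e₁, hue₁, one_pow]
  set w := u + (-1 : F) • e₁ with hw
  have hww : herm w w = -1 := by
    rw [hw, herm_add_left, herm_add_right hF, herm_add_right hF, herm_smul_left,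
      herm_smul_right hF, herm_smul_right hF, herm_smul_left, hiso, hue₁, he₁u, he₁1,
      neg_one_pow_q hF]
    ring
  have he₁w : herm e₁ w = 0 := by
    rw [hw, herm_add_right hF, herm_smul_right hF, he₁u, he₁1, neg_one_pow_q hF]
    ring
  refine ⟨e₁, c⁻¹ • w, he₁1, ?_, ?_, ?_⟩
  · rw [herm_smul_left, herm_smul_right hF, hww, inv_pow]
    have h3 : c ^ q * c = -1 := by rw [← pow_succ, hc]
    have h4 : c ^ q ≠ 0 := pow_ne_zero _ hc0
    field_simp
    linear_combination -h3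
  · rw [herm_smul_right hF, he₁w, mul_zero]
  · rw [smul_smul, mul_inv_cancel₀ hc0, one_smul, hw]
    ext i
    simp

lemma exists_c (hF : Fintype.card F = q ^ 2) : ∃ c : F, c ^ (q + 1) = -1 := by
  obtain ⟨c, -, hc⟩ := exists_norm_eq hF (-1 : F) (neg_ne_zero.2 one_ne_zero) (neg_one_pow_q hF)
  exact ⟨c, hc⟩

/-- `SU_n(q)`, `n ≥ 3`, is transitive on nonzero isotropic vectors. -/
theorem exists_SU_map (hF : Fintype.card F = q ^ 2) (hn : 3 ≤ n) {u u' : Fin n → F} (hu : u ≠ 0)
    (hu' : u' ≠ 0) (hiso : herm u u = 0) (hiso' : herm u' u' = 0) :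
    ∃ g : Cfsg.SU n F q,
      ((g : SpecialLinearGroup (Fin n) F) : Matrix (Fin n) (Fin n) F) *ᵥ u = u' := by
  classical
  have hq2 := two_le_q hF
  obtain ⟨c, hc⟩ := exists_c hF
  obtain ⟨e₁, e₂, h11, h22, h12, hue⟩ := exists_frame hF hu hiso hc
  obtain ⟨e₁', e₂', h11', h22', h12', hue'⟩ := exists_frame hF hu' hiso' hc
  obtain ⟨A, hA1, hA2⟩ := exists_frame_GU hF (by omega) e₁ e₂ h11 h22 h12
  obtain ⟨B, hB1, hB2⟩ := exists_frame_GU hF (by omega) e₁' e₂' h11' h22' h12'
  set i₀ : Fin n := ⟨0, by omega⟩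
  set i₁ : Fin n := ⟨1, by omega⟩
  set i₂ : Fin n := ⟨2, by omega⟩
  have hAdet := det_pow_of_GU hF A
  have hBdet := det_pow_of_GU hF B
  set dA := ((A : GL (Fin n) F) : Matrix (Fin n) (Fin n) F).det with hdA
  set dB := ((B : GL (Fin n) F) : Matrix (Fin n) (Fin n) F).det with hdB
  have hdA0 : dA ≠ 0 := by
    rintro h
    rw [h, zero_pow (by omega)] at hAdet
    exact zero_ne_one hAdet
  have hdB0 : dB ≠ 0 := by
    rintro h
    rw [h, zero_pow (by omega)] at hBdet
    exact zero_ne_one hBdet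
  set lam : F := dA / dB with hlam
  have hlam0 : lam ≠ 0 := div_ne_zero hdA0 hdB0
  have hlamn : lam ^ (q + 1) = 1 := by
    rw [hlam, div_pow, hAdet, hBdet, one_div_one]
  let D : Matrix (Fin n) (Fin n) F := Matrix.diagonal (fun i => if i = i₂ then lam else 1)
  have hD : D.det = lam := by
    rw [Matrix.det_diagonal, Finset.prod_ite_eq' Finset.univ i₂ (fun _ => lam)]
    simp
  have hDpres : ∀ v w : Fin n → F, herm (D *ᵥ v) (D *ᵥ w) = herm v w := by
    intro v w
    simp only [Cfsg.hermForm, D, Matrix.mulVec_diagonal]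
    refine Finset.sum_congr rfl fun i _ => ?_
    by_cases hi : i = i₂
    · simp only [hi, if_true, mul_pow]
      rw [pow_succ] at hlamn
      linear_combination (v i₂ * w i₂ ^ q) * hlamn
    · simp [hi]
  have hDfix : ∀ j : Fin n, j ≠ i₂ → D *ᵥ Pi.single j 1 = Pi.single j 1 := by
    intro j hj
    rw [Matrix.mulVec_single_one]
    ext i
    simp only [D, Matrix.diagonal_apply, Pi.single_apply]
    by_cases hij : i = j
    · subst hij; simp [hj]
    · simp [hij]
  -- the element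
  let Ainv : Matrix (Fin n) (Fin n) F := ((A⁻¹ : Cfsg.GU n F q) : GL (Fin n) F).1
  have hAinv1 : Ainv * ((A : GL (Fin n) F) : Matrix (Fin n) (Fin n) F) = 1 := by
    have h : (((A⁻¹ * A : Cfsg.GU n F q) : GL (Fin n) F) : Matrix (Fin n) (Fin n) F) = 1 := by
      rw [inv_mul_cancel]; rfl
    exact h
  have hAinvdet : Ainv.det * dA = 1 := by
    rw [hdA, ← Matrix.det_mul, hAinv1, Matrix.det_one]
  let M : Matrix (Fin n) (Fin n) F := ((B : GL (Fin n) F) : Matrix (Fin n) (Fin n) F) * D * Ainv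
  have hMdet : M.det = 1 := by
    simp only [M]
    rw [Matrix.det_mul, Matrix.det_mul, hD, ← hdB, hlam]
    field_simp
    linear_combination hAinvdet
  have hMpres : ∀ v w : Fin n → F, herm (M *ᵥ v) (M *ᵥ w) = herm v w := by
    intro v w
    simp only [M]
    rw [← Matrix.mulVec_mulVec, ← Matrix.mulVec_mulVec, ← Matrix.mulVec_mulVec,
      ← Matrix.mulVec_mulVec]
    have hB := B.2 (D *ᵥ (Ainv *ᵥ v)) (D *ᵥ (Ainv *ᵥ w))
    have hAi := (A⁻¹ : Cfsg.GU n F q).2 v w
    simp only [Units.coeHom_apply] at hB hAi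
    rw [hB, hDpres]
    exact hAi
  have hMe : ∀ x : Fin n → F, Ainv *ᵥ (((A : GL (Fin n) F) : Matrix (Fin n) (Fin n) F) *ᵥ x) = x := by
    intro x
    rw [Matrix.mulVec_mulVec, hAinv1, Matrix.one_mulVec]
  have hne0 : i₀ ≠ i₂ := by simp [i₀, i₂, Fin.ext_iff]
  have hne1 : i₁ ≠ i₂ := by simp [i₁, i₂, Fin.ext_iff]
  refine ⟨⟨⟨M, hMdet⟩, fun v w => hMpres v w⟩, ?_⟩
  change M *ᵥ u = u'
  have h1 : M *ᵥ e₁ = e₁' := by
    simp only [M]
    rw [← hA1, ← Matrix.mulVec_mulVec, ← Matrix.mulVec_mulVec, hMe, hDfix _ hne0]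
    exact hB1
  have h2 : M *ᵥ e₂ = e₂' := by
    simp only [M]
    rw [← hA2, ← Matrix.mulVec_mulVec, ← Matrix.mulVec_mulVec, hMe, hDfix _ hne1]
    exact hB2
  rw [hue, Matrix.mulVec_add, Matrix.mulVec_smul, h1, h2, hue']

/-- Normal form for a transvection of `SU_n(q)`. -/
theorem transvection_normal_form (hF : Fintype.card F = q ^ 2) (t : Matrix (Fin n) (Fin n) F)
    (hpres : ∀ x y : Fin n → F, herm (t *ᵥ x) (t *ᵥ y) = herm x y)
    (ht : Cfsg.IsTransvection t) :
    ∃ (u : Fin n → F) (a : F), u ≠ 0 ∧ herm u u = 0 ∧ a ≠ 0 ∧ a ^ q + a = 0 ∧ t = uTmat q u a := by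
  classical
  have hq2 := two_le_q hF
  obtain ⟨hrank, hsq⟩ := ht
  set T := t - 1 with hT
  have htx : ∀ x, t *ᵥ x = x + T *ᵥ x := by
    intro x
    rw [hT, Matrix.sub_mulVec, Matrix.one_mulVec]
    abel
  have hr : Module.finrank F (LinearMap.range T.mulVecLin) = 1 := hrank
  obtain ⟨⟨u, hu⟩, hu0, hspan⟩ := finrank_eq_one_iff'.1 hr
  have hu0' : u ≠ 0 := fun h => hu0 (Subtype.ext h)
  have hc : ∀ x, ∃ c : F, T *ᵥ x = c • u := by
    intro x
    obtain ⟨c, hc⟩ := hspan ⟨T *ᵥ x, ⟨x, rfl⟩⟩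
    exact ⟨c, (congrArg Subtype.val hc).symm⟩
  obtain ⟨x₀, hx₀⟩ := hu
  have hx₀' : T *ᵥ x₀ = u := hx₀
  have hTu : T *ᵥ u = 0 := by
    rw [← hx₀', Matrix.mulVec_mulVec, hsq, Matrix.zero_mulVec]
  have htu : t *ᵥ u = u := by rw [htx, hTu, add_zero]
  have hiso : herm u u = 0 := by
    have h := hpres x₀ u
    rw [htu, htx, hx₀', herm_add_left] at h
    linear_combination h
  obtain ⟨y₀, hy₀⟩ := exists_herm_one hF hu0'
  have hy₀u : herm y₀ u = 1 := by rw [herm_conj hF u y₀, hy₀, one_pow]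
  obtain ⟨c₀, hc₀⟩ := hc y₀
  set a := -(c₀ ^ q) with ha
  have hform : ∀ x, T *ᵥ x = (a * herm x u) • u := by
    intro x
    obtain ⟨c, hc⟩ := hc x
    have h := hpres x y₀
    rw [htx x, htx y₀, hc, hc₀, herm_add_left, herm_add_right hF, herm_add_right hF,
      herm_smul_left, herm_smul_right hF, herm_smul_right hF, herm_smul_left, hy₀, hiso] at h
    have hc' : c = a * herm x u := by
      rw [ha]
      linear_combination h
    rw [hc, hc']
  have ht' : t = uTmat q u a := by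
    apply Matrix.ext_of_mulVec_single
    intro i
    rw [uTmat_mulVec, htx, hform]
  have ha0 : a ≠ 0 := by
    intro h0
    have hT0 : T = 0 := by
      apply Matrix.ext_of_mulVec_single
      intro i
      rw [hform, h0, Matrix.zero_mulVec, zero_mul, zero_smul]
    rw [hT0] at hrank
    simp at hrank
  have hatr : a ^ q + a = 0 := by
    have h := hpres y₀ y₀
    rw [htx y₀, hform, herm_add_left, herm_add_right hF, herm_add_right hF,
      herm_smul_left, herm_smul_right hF, herm_smul_right hF, herm_smul_left, hy₀u, hy₀, hiso] at h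
    simp only [mul_one, one_pow, one_mul, mul_zero, add_zero] at h
    linear_combination h
  exact ⟨u, a, hu0', hiso, ha0, hatr, ht'⟩

end Cfsg.Agent.H12.UTrans
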