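import Cfsg.Agent.Lib.H12.Subnormal2
import Cfsg.Agent.Lib.H12.Kieler
import Cfsg.Agent.Lib.H13.PReduced

/-! Largest `p`-reduced normal subgroups and subnormal subgroups. -/

set_option autoImplicit false
set_option linter.unusedSectionVars false

namespace Cfsg.Agent.H12

open Cfsg
open scoped commutatorElement

variable {G : Type*} [Group G] [Finite G] {p : ℕ} [hp : Fact p.Prime]

theorem exists_pow_coprime (d : G) : ∃ k : ℕ, Nat.Coprime (orderOf (d ^ (p ^ k))) p := by
  have hp' : p.Prime := hp.out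
  obtain ⟨a, m, hnd, hm⟩ := Nat.exists_eq_pow_mul_and_not_dvd (orderOf_pos d).ne' p hp'.ne_one
  refine ⟨a, ?_⟩
  have h1 : orderOf (d ^ p ^ a) = m := by
    rw [orderOf_pow_of_dvd (pow_pos hp'.pos _).ne' ⟨m, hm⟩, hm]
    exact Nat.mul_div_cancel_left m (pow_pos hp'.pos _)
  rw [h1, Nat.coprime_comm, Nat.Prime.coprime_iff_not_dvd hp']
  exact hnd

/-- Quadratic action in characteristic `p`. -/
theorem pow_centralizes_of_quadratic {V : Subgroup G} (hV : IsElementaryAbelian p V) {r v : G}
    (hv : ⁅r, v⁆ ∈ V) (hc : r * ⁅r, v⁆ = ⁅r, v⁆ * r) : r ^ p * v = v * r ^ p := by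
  have key : ∀ n : ℕ, r ^ n * v * (r ^ n)⁻¹ = ⁅r, v⁆ ^ n * v := by
    intro n
    induction n with
    | zero => simp
    | succ n ih =>
      have hc' : r * ⁅r, v⁆ ^ n = ⁅r, v⁆ ^ n * r := (Commute.pow_right hc n)
      calc r ^ (n + 1) * v * (r ^ (n + 1))⁻¹ = r * (r ^ n * v * (r ^ n)⁻¹) * r⁻¹ := by
            rw [pow_succ']; group
        _ = r * (⁅r, v⁆ ^ n * v) * r⁻¹ := by rw [ih]
        _ = (r * ⁅r, v⁆ ^ n) * v * r⁻¹ := by group
        _ = (⁅r, v⁆ ^ n * r) * v * r⁻¹ := by rw [hc']
        _ = ⁅r, v⁆ ^ n * (r * v * r⁻¹) := by group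
        _ = ⁅r, v⁆ ^ n * (⁅r, v⁆ * v) := by
          rw [commutatorElement_def]; group
        _ = ⁅r, v⁆ ^ (n + 1) * v := by rw [pow_succ]; group
  have h1 := key p
  rw [hV.2 _ hv, one_mul, mul_inv_eq_iff_eq_mul] at h1
  exact h1

/-- The relevant `A × B` argument on an elementary abelian group. -/
theorem ab_abelian {U X : Subgroup G} {y : G} (hU : IsElementaryAbelian p U)
    (hyU : y ∈ Subgroup.normalizer (U : Set G)) (hXU : X ≤ Subgroup.normalizer (U : Set G))
    (hy : Nat.Coprime (orderOf y) p)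
    (hXp : ∀ x ∈ X, ∃ k : ℕ, x ^ (p ^ k) ∈ Subgroup.centralizer (U : Set G))
    (hcomm : ∀ x ∈ X, x * y * x⁻¹ * y⁻¹ ∈ Subgroup.centralizer (U : Set G))
    (hfix : ∀ c ∈ U, (∀ x ∈ X, x * c = c * x) → y * c = c * y) :
    y ∈ Subgroup.centralizer (U : Set G) := by
  classical
  have hUc := isElementaryAbelian_comm hU
  -- Sylow subgroup of `X`, as a subgroup of `G`.
  obtain ⟨S⟩ : Nonempty (Sylow p X) := inferInstance
  set Q : Subgroup G := (S : Subgroup X).map X.subtype with hQ
  have hQX : Q ≤ X := by rintro _ ⟨a, -, rfl⟩; exact a.2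
  have hQp : IsPGroup p Q := S.2.map _
  -- decomposition of elements of `X`
  haveI hCn : ((Subgroup.centralizer (U : Set G)).subgroupOf X).Normal := by
    rw [Subgroup.normal_subgroupOf_iff_le_normalizer_inf]
    intro g hg
    rw [Subgroup.mem_normalizer_iff]
    intro h
    exact and_congr (Subgroup.mem_normalizer_iff.1 (centralizer_normalized (hXU hg)) h)
      (Subgroup.mem_normalizer_iff.1 (Subgroup.le_normalizer hg) h)
  have hdec : ∀ x ∈ X, ∃ a ∈ Q, ∃ c ∈ X, c ∈ Subgroup.centralizer (U : Set G) ∧ x = a * c := by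
    intro x hx
    have h1 := exists_sylow_mul_of_elementwise S (⊤ : Subgroup X)
      ((Subgroup.centralizer (U : Set G)).subgroupOf X)
      (by
        rintro d -
        obtain ⟨k, hk⟩ := hXp d d.2
        exact ⟨k, by
          rw [Subgroup.mem_subgroupOf]
          simpa using hk⟩) ⟨x, hx⟩ (Subgroup.mem_top _)
    obtain ⟨a, ha, c, hc, e⟩ := h1
    refine ⟨a, ⟨a, ha.1, rfl⟩, c, c.2, hc.1, ?_⟩
    exact congrArg Subtype.val e
  -- the centralizer of `y`
  set E : Subgroup G := U ⊓ Subgroup.centralizer ({y} : Set G) with hE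
  by_contra hcon
  have hEU : E ≤ U := inf_le_left
  have hne : E ≠ U := by
    intro h
    apply hcon
    rw [Subgroup.mem_centralizer_iff]
    intro u hu
    have h2 : u ∈ E := by rw [h]; exact hu
    exact (Subgroup.mem_centralizer_iff.1 h2.2 y rfl).symm ▸ rfl
  -- the action of `X` preserves `E`
  have hconj : ∀ x ∈ X, ∀ u ∈ U, y * (x * u * x⁻¹) * y⁻¹ = x * (y * u * y⁻¹) * x⁻¹ := by
    intro x hx u hu
    have hc := hcomm x hx
    set c := x * y * x⁻¹ * y⁻¹ with hcd
    have h1 : x * y = c * y * x := by rw [hcd]; group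
    have hu2 : y * u * y⁻¹ ∈ U := (Subgroup.mem_normalizer_iff.1 hyU u).1 hu
    have hu3 : x * (y * u * y⁻¹) * x⁻¹ ∈ U := (Subgroup.mem_normalizer_iff.1 (hXU hx) _).1 hu2
    have h2 : c * (y * (x * u * x⁻¹) * y⁻¹) * c⁻¹ = y * (x * u * x⁻¹) * y⁻¹ := by
      have hu4 : x * u * x⁻¹ ∈ U := (Subgroup.mem_normalizer_iff.1 (hXU hx) _).1 hu
      have hu5 : y * (x * u * x⁻¹) * y⁻¹ ∈ U := (Subgroup.mem_normalizer_iff.1 hyU _).1 hu4
      have := Subgroup.mem_centralizer_iff.1 hc _ hu5
      rw [← this]; group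
    calc y * (x * u * x⁻¹) * y⁻¹ = c * (y * (x * u * x⁻¹) * y⁻¹) * c⁻¹ := h2.symm
      _ = (c * y * x) * u * (c * y * x)⁻¹ := by group
      _ = (x * y) * u * (x * y)⁻¹ := by rw [← h1]
      _ = _ := by group
  have hXE : X ≤ Subgroup.normalizer (E : Set G) := by
    intro x hx
    apply H13.mem_normalizer_of_map_conj_le
    rintro _ ⟨u, hu, rfl⟩
    change x * u * x⁻¹ ∈ E
    refine ⟨(Subgroup.mem_normalizer_iff.1 (hXU hx) _).1 hu.1, ?_⟩
    change _ ∈ Subgroup.centralizer ({y} : Set G)
    rw [Subgroup.mem_centralizer_iff]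
    intro h hh
    have hh' : h = y := hh
    rw [hh']
    have h1 : y * u = u * y := (Subgroup.mem_centralizer_iff.1 hu.2 y rfl)
    have h2 := hconj x hx u hu.1
    have h3 : y * u * y⁻¹ = u := by rw [h1]; group
    rw [h3] at h2
    rw [mul_inv_eq_iff_eq_mul] at h2
    exact h2
  -- the fixed coset
  have hTp : IsPGroup p (U ⊔ Q : Subgroup G) :=
    IsPGroup.to_sup_of_normal_left' (isPGroup_of_elementary hU) hQp (hQX.trans hXU)
  have hUE : U ≤ Subgroup.normalizer (E : Set G) := by
    intro u hu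
    apply H13.mem_normalizer_of_map_conj_le
    rintro _ ⟨e, he, rfl⟩
    change u * e * u⁻¹ ∈ E
    rw [hUc u hu e he.1]
    simpa using he
  have hTE : (U ⊔ Q : Subgroup G) ≤ Subgroup.normalizer (E : Set G) :=
    sup_le hUE (hQX.trans hXE)
  have hTU : (U ⊔ Q : Subgroup G) ≤ Subgroup.normalizer (U : Set G) :=
    sup_le Subgroup.le_normalizer (hQX.trans hXU)
  obtain ⟨u, hu, huE, huT⟩ := exists_fixed_coset hTp hEU le_sup_left hTE hTU hne
  -- the element `z = [y, u]`
  set z := y * u * y⁻¹ * u⁻¹ with hz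
  have hyuU : y * u * y⁻¹ ∈ U := (Subgroup.mem_normalizer_iff.1 hyU u).1 hu
  have hzU : z ∈ U := U.mul_mem hyuU (U.inv_mem hu)
  have hzfix : ∀ x ∈ X, x * z = z * x := by
    intro x hx
    obtain ⟨a, ha, c, hcX, hcC, rfl⟩ := hdec x hx
    have hcz : c * z = z * c := (Subgroup.mem_centralizer_iff.1 hcC z hzU).symm
    have haz : a * z = z * a := by
      have he := huT a (le_sup_right (a := U) ha)
      set e := a * u * a⁻¹ * u⁻¹ with hed
      have he1 : a * u * a⁻¹ = e * u := by rw [hed]; group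
      have heU : e ∈ U := he.1
      have heC : y * e = e * y := Subgroup.mem_centralizer_iff.1 he.2 y rfl
      have h1 := hconj a (hQX ha) u hu
      rw [he1] at h1
      have h2 : a * z * a⁻¹ = z := by
        rw [hz]
        calc a * (y * u * y⁻¹ * u⁻¹) * a⁻¹ = (a * (y * u * y⁻¹) * a⁻¹) * (a * u * a⁻¹)⁻¹ := by group
          _ = (y * (e * u) * y⁻¹) * (e * u)⁻¹ := by rw [← h1, he1]
          _ = (e * (y * u * y⁻¹)) * (e * u)⁻¹ := by
            congr 1
            calc y * (e * u) * y⁻¹ = (y * e) * u * y⁻¹ := by group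
              _ = (e * y) * u * y⁻¹ := by rw [heC]
              _ = _ := by group
          _ = e * ((y * u * y⁻¹) * u⁻¹) * e⁻¹ := by group
          _ = (y * u * y⁻¹) * u⁻¹ := by
            have h3 : e * (y * u * y⁻¹ * u⁻¹) = (y * u * y⁻¹ * u⁻¹) * e := hUc e heU _ hzU
            rw [h3]; group
      rw [mul_inv_eq_iff_eq_mul] at h2
      exact h2
    calc a * c * z = a * (z * c) := by rw [mul_assoc, hcz]
      _ = (a * z) * c := by group
      _ = (z * a) * c := by rw [haz]
      _ = _ := by group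
  have hyz : y * z = z * y := hfix z hzU hzfix
  -- `y` acts on `u` by multiplication by `z`
  have hpow : ∀ n : ℕ, y ^ n * u * (y ^ n)⁻¹ = z ^ n * u := by
    intro n
    induction n with
    | zero => simp
    | succ n ih =>
      have hc' : y * z ^ n = z ^ n * y := Commute.pow_right hyz n
      calc y ^ (n + 1) * u * (y ^ (n + 1))⁻¹ = y * (y ^ n * u * (y ^ n)⁻¹) * y⁻¹ := by
            rw [pow_succ']; group
        _ = y * (z ^ n * u) * y⁻¹ := by rw [ih]
        _ = (y * z ^ n) * u * y⁻¹ := by group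
        _ = (z ^ n * y) * u * y⁻¹ := by rw [hc']
        _ = z ^ n * (y * u * y⁻¹) := by group
        _ = z ^ n * (z * u) := by rw [hz]; group
        _ = z ^ (n + 1) * u := by rw [pow_succ]; group
  have h1 := hpow (orderOf y)
  rw [pow_orderOf_eq_one] at h1
  have h2 : z ^ orderOf y = 1 := by
    simpa using h1.symm
  have h3 : z ^ p = 1 := hU.2 z hzU
  have h4 : z = 1 := by
    have hd := Nat.dvd_gcd (orderOf_dvd_of_pow_eq_one h2) (orderOf_dvd_of_pow_eq_one h3)
    rw [Nat.Coprime.gcd_eq_one hy] at hd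
    exact orderOf_eq_one_iff.1 (Nat.dvd_one.1 hd)
  apply huE
  refine ⟨hu, ?_⟩
  change u ∈ Subgroup.centralizer ({y} : Set G)
  rw [Subgroup.mem_centralizer_iff]
  intro h hh
  have hh' : h = y := hh
  rw [hh']
  rw [hz, mul_inv_eq_one, mul_inv_eq_iff_eq_mul] at h4
  exact h4

/-- Relative description of `p`-reducedness. -/
theorem redOn_of_pReduced {U K : Subgroup G} (hUK : U ≤ K) (h : IsPReducedNormal p (U.subgroupOf K)) :
    RedOn p U K := by
  intro D hDK hKD hDp
  have hn : (D.subgroupOf K).Normal := (Subgroup.normal_subgroupOf_iff_le_normalizer hDK).2 hKD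
  have hle := pReduced_elim h hn (by
    intro x hx
    obtain ⟨k, hk⟩ := hDp x hx
    refine ⟨k, ?_⟩
    rw [Subgroup.mem_centralizer_iff] at hk ⊢
    intro u hu
    apply Subtype.ext
    simpa using hk u hu)
  intro d hd
  rw [Subgroup.mem_centralizer_iff]
  intro u hu
  have h1 := hle (show (⟨d, hDK hd⟩ : K) ∈ D.subgroupOf K from hd)
  rw [Subgroup.mem_centralizer_iff] at h1
  have h2 := h1 ⟨u, hUK hu⟩ (show (⟨u, hUK hu⟩ : K) ∈ U.subgroupOf K from hu)
  exact congrArg Subtype.val h2

theorem pReduced_of_redOn {U K : Subgroup G} (hUK : U ≤ K) (hn : K ≤ Subgroup.normalizer (U : Set G))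
    (hE : IsElementaryAbelian p U) (hR : RedOn p U K) : IsPReducedNormal p (U.subgroupOf K) := by
  have hnorm : (U.subgroupOf K).Normal := (Subgroup.normal_subgroupOf_iff_le_normalizer hUK).2 hn
  have hE' : IsElementaryAbelian p (U.subgroupOf K) := by
    refine ⟨⟨⟨fun a b => ?_⟩⟩, fun a ha => ?_⟩
    · apply Subtype.ext
      apply Subtype.ext
      exact isElementaryAbelian_comm hE _ a.2 _ b.2
    · apply Subtype.ext
      exact hE.2 _ ha
  apply pReduced_intro hnorm hE'
  intro X hX _ hXp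
  have hle : X.map K.subtype ≤ Subgroup.centralizer (U : Set G) := by
    apply hR
    · rintro _ ⟨x, -, rfl⟩; exact x.2
    · intro k hk
      apply H13.mem_normalizer_of_map_conj_le
      rintro _ ⟨_, ⟨x, hx, rfl⟩, rfl⟩
      exact ⟨_, hX.conj_mem x hx ⟨k, hk⟩, rfl⟩
    · rintro _ ⟨x, hx, rfl⟩
      obtain ⟨k, hk⟩ := hXp x hx
      refine ⟨k, ?_⟩
      rw [Subgroup.mem_centralizer_iff] at hk ⊢
      intro u hu
      have := hk ⟨u, hUK hu⟩ hu
      exact congrArg Subtype.val this
  intro x hx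
  rw [Subgroup.mem_centralizer_iff]
  intro u hu
  apply Subtype.ext
  exact Subgroup.mem_centralizer_iff.1 (hle ⟨x, hx, rfl⟩) _ hu

theorem subgroupOf_largestOf (K : Subgroup G) :
    (largestPReducedOf p K).subgroupOf K = largestPReduced p K :=
  Subgroup.comap_map_eq_self_of_injective K.subtype_injective _

theorem redOn_largestOf (K : Subgroup G) : RedOn p (largestPReducedOf p K) K := by
  apply redOn_of_pReduced largestPReducedOf_le
  rw [subgroupOf_largestOf]
  exact (largest_spec (p := p) (L := K)).1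

theorem isElementaryAbelian_largestOf (K : Subgroup G) : IsElementaryAbelian p (largestPReducedOf p K) :=
  H13.isElementaryAbelian_largestPReducedOf K

theorem le_largestOf {U K : Subgroup G} (hUK : U ≤ K) (hn : K ≤ Subgroup.normalizer (U : Set G))
    (hE : IsElementaryAbelian p U) (hR : RedOn p U K) : U ≤ largestPReducedOf p K := by
  have h := (largest_spec (p := p) (L := K)).2 _ (pReduced_of_redOn hUK hn hE hR)
  intro u hu
  exact ⟨⟨u, hUK hu⟩, h hu, rfl⟩

theorem normalized_conj {U K : Subgroup G} {g : G} (hg : g ∈ Subgroup.normalizer (K : Set G))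
    (hKU : K ≤ Subgroup.normalizer (U : Set G)) :
    K ≤ Subgroup.normalizer ((U.map (MulAut.conj g).toMonoidHom : Subgroup G) : Set G) := by
  intro k hk
  apply H13.mem_normalizer_of_map_conj_le
  rintro _ ⟨y, hy, rfl⟩
  have hy := H13.mem_map_conj.1 hy
  rw [H13.mem_map_conj]
  have hk' : g⁻¹ * k * g⁻¹⁻¹ ∈ K := (Subgroup.mem_normalizer_iff.1 (inv_mem hg) k).1 hk
  have h := (Subgroup.mem_normalizer_iff.1 (hKU hk') _).1 hy
  have e : g⁻¹ * ((MulAut.conj k).toMonoidHom y) * g =
      g⁻¹ * k * g⁻¹⁻¹ * (g⁻¹ * y * g) * (g⁻¹ * k * g⁻¹⁻¹)⁻¹ := by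
    simp only [MulEquiv.coe_toMonoidHom, MulAut.conj_apply]
    group
  rw [e]
  exact h

theorem redOn_conj {U K : Subgroup G} {g : G} (hg : g ∈ Subgroup.normalizer (K : Set G))
    (hR : RedOn p U K) : RedOn p (U.map (MulAut.conj g).toMonoidHom) K := by
  intro D hDK hKD hD
  have hK := H13.map_conj_eq_of_mem_normalizer (inv_mem hg)
  have hDK' : D.map (MulAut.conj g⁻¹).toMonoidHom ≤ K := by
    rw [← hK]
    exact Subgroup.map_mono hDK
  have h := hR (D.map (MulAut.conj g⁻¹).toMonoidHom) hDK' (normalized_conj (inv_mem hg) hKD) (by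
    rintro _ ⟨d, hd, rfl⟩
    obtain ⟨k, hk⟩ := hD d hd
    refine ⟨k, ?_⟩
    rw [← H13.map_conj_centralizer, H13.mem_map_conj] at hk
    rw [← map_pow]
    simpa [MulAut.conj_apply] using hk)
  intro d hd
  rw [← H13.map_conj_centralizer, H13.mem_map_conj]
  have := h ⟨d, hd, rfl⟩
  simpa [MulAut.conj_apply] using this

/-- Normalizers of `K` normalize `Y_K`. -/
theorem normalizer_le_normalizer_largestOf (K : Subgroup G) :
    Subgroup.normalizer (K : Set G) ≤ Subgroup.normalizer ((largestPReducedOf p K : Subgroup G) : Set G) := by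
  intro g hg
  apply H13.mem_normalizer_of_map_conj_le
  have hK := H13.map_conj_eq_of_mem_normalizer hg
  apply le_largestOf
  · have h1 := Subgroup.map_mono (f := (MulAut.conj g).toMonoidHom)
      (largestPReducedOf_le (p := p) (L := K))
    rwa [hK] at h1
  · exact normalized_conj hg (H13.le_normalizer_largestPReducedOf K)
  · exact H13.isElementaryAbelian_map_conj (isElementaryAbelian_largestOf K) g
  · exact redOn_conj hg (redOn_largestOf K)

theorem isElementaryAbelian_of_le {U V : Subgroup G} (hUV : U ≤ V) (hV : IsElementaryAbelian p V) :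
    IsElementaryAbelian p U := by
  refine ⟨⟨⟨fun a b => ?_⟩⟩, fun a ha => hV.2 a (hUV ha)⟩
  apply Subtype.ext
  exact isElementaryAbelian_comm hV _ (hUV a.2) _ (hUV b.2)

theorem inf_centralizer_le_of_normal {K₁ K₂ : Subgroup G} (hle : K₁ ≤ K₂)
    (hn : K₂ ≤ Subgroup.normalizer (K₁ : Set G)) :
    K₁ ⊓ Subgroup.centralizer ((largestPReducedOf p K₂ : Subgroup G) : Set G) ≤
      Subgroup.centralizer ((largestPReducedOf p K₁ : Subgroup G) : Set G) := by
  classical
  set U := largestPReducedOf p K₁ with hU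
  have hUK₁ : U ≤ K₁ := largestPReducedOf_le
  have hK₂U : K₂ ≤ Subgroup.normalizer (U : Set G) := hn.trans (normalizer_le_normalizer_largestOf K₁)
  have hUE : IsElementaryAbelian p U := isElementaryAbelian_largestOf K₁
  have hUR : RedOn p U K₁ := redOn_largestOf K₁
  let S : Set (Subgroup G) := {N | N ≤ U ∧ K₂ ≤ Subgroup.normalizer (N : Set G) ∧
    K₁ ⊓ Subgroup.centralizer (N : Set G) = K₁ ⊓ Subgroup.centralizer (U : Set G)}
  have hSne : S.Nonempty := ⟨U, le_rfl, hK₂U, rfl⟩
  obtain ⟨W, hWS, hWmin⟩ := (Set.toFinite S).exists_minimal hSne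
  obtain ⟨hWU, hK₂W, hWC⟩ := hWS
  have hCmono : ∀ {A B : Subgroup G}, A ≤ B →
      Subgroup.centralizer (B : Set G) ≤ Subgroup.centralizer (A : Set G) := by
    intro A B hAB
    exact Subgroup.centralizer_le hAB
  have hWE : IsElementaryAbelian p W := isElementaryAbelian_of_le hWU hUE
  have hWR : RedOn p W K₂ := by
    intro X hXK hKX hXp
    by_contra hcon
    let C₀ : Subgroup G := W ⊓ Subgroup.centralizer (X : Set G)
    have hC₀W : C₀ ≤ W := inf_le_left
    have hK₂C₀ : K₂ ≤ Subgroup.normalizer (C₀ : Set G) := by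
      intro k hk
      apply H13.mem_normalizer_of_map_conj_le
      rw [H13.map_conj_inf]
      rw [H13.map_conj_eq_of_mem_normalizer (hK₂W hk)]
      rw [H13.map_conj_eq_of_mem_normalizer (centralizer_normalized (hKX hk))]
    -- the centralizer in `K₁` of `C₀`
    have hK₁X : X ⊓ K₁ ≤ Subgroup.centralizer (U : Set G) := by
      apply hUR
      · exact inf_le_right
      · intro k hk
        apply H13.mem_normalizer_of_map_conj_le
        rw [H13.map_conj_inf, H13.map_conj_eq_of_mem_normalizer (hKX (hle hk)),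
          H13.map_conj_eq_of_mem_normalizer (Subgroup.le_normalizer hk)]
      · rintro d ⟨hdX, hdK⟩
        obtain ⟨k, hk⟩ := hXp d hdX
        refine ⟨k, ?_⟩
        have h1 : d ^ p ^ k ∈ K₁ ⊓ Subgroup.centralizer (W : Set G) :=
          ⟨pow_mem hdK _, hk⟩
        rw [hWC] at h1
        exact h1.2
    have hD : K₁ ⊓ Subgroup.centralizer (C₀ : Set G) ≤ Subgroup.centralizer (U : Set G) := by
      apply hUR
      · exact inf_le_left
      · intro k hk
        apply H13.mem_normalizer_of_map_conj_le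
        rw [H13.map_conj_inf, H13.map_conj_eq_of_mem_normalizer (Subgroup.le_normalizer hk),
          H13.map_conj_eq_of_mem_normalizer (centralizer_normalized (hK₂C₀ (hle hk)))]
      · rintro d ⟨hdK, hdC⟩
        obtain ⟨k, hk⟩ := exists_pow_coprime (p := p) d
        refine ⟨k, ?_⟩
        set y := d ^ p ^ k with hy
        have hyK : y ∈ K₁ := pow_mem hdK _
        have hyC : y ∈ Subgroup.centralizer (C₀ : Set G) := pow_mem hdC _
        have h1 : y ∈ Subgroup.centralizer (W : Set G) := by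
          apply ab_abelian (p := p) hWE (hK₂W (hle hyK)) (hXK.trans hK₂W) hk hXp
          · intro x hx
            have h2 : x * y * x⁻¹ * y⁻¹ ∈ X ⊓ K₁ := by
              constructor
              · have h3 : y * x⁻¹ * y⁻¹ ∈ X :=
                  (Subgroup.mem_normalizer_iff.1 (hKX (hle hyK)) _).1 (inv_mem hx)
                have e : x * y * x⁻¹ * y⁻¹ = x * (y * x⁻¹ * y⁻¹) := by group
                rw [e]
                exact X.mul_mem hx h3
              · have h3 : x * y * x⁻¹ ∈ K₁ :=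
                  (Subgroup.mem_normalizer_iff.1 (hn (hXK hx)) _).1 hyK
                exact K₁.mul_mem h3 (K₁.inv_mem hyK)
            exact hCmono hWU (hK₁X h2)
          · intro c hc hcX
            have hcC : c ∈ C₀ := ⟨hc, by
              change c ∈ Subgroup.centralizer (X : Set G)
              rw [Subgroup.mem_centralizer_iff]
              intro x hx
              exact hcX x hx⟩
            exact (Subgroup.mem_centralizer_iff.1 hyC c hcC).symm
        have h2 : y ∈ K₁ ⊓ Subgroup.centralizer (W : Set G) := ⟨hyK, h1⟩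
        rw [hWC] at h2
        exact h2.2
    have hC₀S : C₀ ∈ S := by
      refine ⟨hC₀W.trans hWU, hK₂C₀, ?_⟩
      apply le_antisymm
      · exact le_inf inf_le_left hD
      · exact inf_le_inf_left _ (hCmono (hC₀W.trans hWU))
    have hle2 : W ≤ C₀ := hWmin hC₀S hC₀W
    apply hcon
    intro x hx
    rw [Subgroup.mem_centralizer_iff]
    intro w hw
    exact (Subgroup.mem_centralizer_iff.1 (hle2 hw).2 x hx).symm
  have hWY : W ≤ largestPReducedOf p K₂ :=
    le_largestOf (hWU.trans (hUK₁.trans hle)) hK₂W hWE hWR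
  rintro d ⟨hdK, hdC⟩
  have h1 : d ∈ K₁ ⊓ Subgroup.centralizer (W : Set G) := ⟨hdK, hCmono hWY hdC⟩
  rw [hWC] at h1
  exact h1.2

theorem largestOf_top_le (G : Type*) [Group G] [Finite G] (p : ℕ) [Fact p.Prime] :
    largestPReducedOf p (⊤ : Subgroup G) ≤ largestPReduced p G := by
  apply (largest_spec (p := p) (L := G)).2
  have hn : (largestPReducedOf p (⊤ : Subgroup G)).Normal := by
    rw [← Subgroup.normalizer_eq_top_iff, eq_top_iff]
    exact H13.le_normalizer_largestPReducedOf ⊤
  apply pReduced_intro hn (isElementaryAbelian_largestOf ⊤)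
  intro X hX _ hXp
  apply redOn_largestOf ⊤ X le_top
  · rw [Subgroup.normalizer_eq_top_iff.2 hX]
  · exact hXp

theorem inf_centralizer_le_of_subnormal {L : Subgroup G} (hL : L.IsSubnormal) :
    L ⊓ Subgroup.centralizer (largestPReduced p G : Set G) ≤
      Subgroup.centralizer ((largestPReducedOf p L : Subgroup G) : Set G) := by
  induction hL with
  | top =>
    exact inf_le_right.trans (Subgroup.centralizer_le (largestOf_top_le G p))
  | step K₁ K₂ hle _ hN ih =>
    have hn := (Subgroup.normal_subgroupOf_iff_le_normalizer hle).1 hN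
    refine le_trans (le_inf inf_le_left ?_) (inf_centralizer_le_of_normal hle hn)
    refine le_trans (le_inf (inf_le_left.trans hle) inf_le_right) ih

/-- (3b) -/
theorem inf_centralizer_inf_le {V L : Subgroup G} (hV : IsPReducedNormal p V) (hL : L.IsSubnormal) :
    L ⊓ Subgroup.centralizer ((V ⊓ L : Subgroup G) : Set G) ≤
      Subgroup.centralizer (V : Set G) := by
  haveI hVn : V.Normal := hV.1
  have hVE : IsElementaryAbelian p V := hV.2.1
  have hRed := redOn_of_isSubnormal hV hL
  set D := L ⊓ Subgroup.centralizer ((V ⊓ L : Subgroup G) : Set G) with hD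
  set R := (pResidual p ↥L).map L.subtype with hR
  have hRL : R ≤ L := res_le L
  have hLA : L ≤ Subgroup.normalizer ((V ⊓ L : Subgroup G) : Set G) := by
    intro k hk
    apply H13.mem_normalizer_of_map_conj_le
    rw [H13.map_conj_inf, H13.map_conj_eq_of_normal, H13.map_conj_eq_of_mem_normalizer (Subgroup.le_normalizer hk)]
  have hLD : L ≤ Subgroup.normalizer (D : Set G) := by
    intro k hk
    apply H13.mem_normalizer_of_map_conj_le
    rw [hD, H13.map_conj_inf, H13.map_conj_eq_of_mem_normalizer (Subgroup.le_normalizer hk),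
      H13.map_conj_eq_of_mem_normalizer (centralizer_normalized (hLA hk))]
  have hLR : L ≤ Subgroup.normalizer (R : Set G) := fun k hk =>
    res_normalized (Subgroup.le_normalizer hk)
  have hR₀ : R ⊓ D ≤ Subgroup.centralizer (V : Set G) := by
    apply hRed
    · exact inf_le_left.trans hRL
    · intro k hk
      apply H13.mem_normalizer_of_map_conj_le
      rw [H13.map_conj_inf, H13.map_conj_eq_of_mem_normalizer (hLR hk),
        H13.map_conj_eq_of_mem_normalizer (hLD hk)]
    · rintro r ⟨hrR, -, hrC⟩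
      refine ⟨1, ?_⟩
      rw [pow_one, Subgroup.mem_centralizer_iff]
      intro v hv
      have h1 : ⁅v, r⁆ ∈ ⁅V, R⁆ := Subgroup.commutator_mem_commutator hv hrR
      have h2 : ⁅v, r⁆ ∈ L := commutator_res_le_of_subnormal V hVE hL h1
      have e : ⁅r, v⁆ = ⁅v, r⁆⁻¹ := by
        rw [commutatorElement_inv]
      have h3 : ⁅r, v⁆ ∈ V ⊓ L := by
        rw [e]
        refine inv_mem ⟨?_, h2⟩
        have e2 : ⁅v, r⁆ = v * (r * v⁻¹ * r⁻¹) := by rw [commutatorElement_def]; group
        rw [e2]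
        exact mul_mem hv (hVn.conj_mem _ (inv_mem hv) _)
      have h4 := Subgroup.mem_centralizer_iff.1 hrC _ h3
      have h5 := pow_centralizes_of_quadratic hVE h3.1 h4.symm
      exact h5.symm
  apply hRed D inf_le_left hLD
  rintro d ⟨hdL, hdC⟩
  obtain ⟨k, hk⟩ := exists_pow_coprime (p := p) d
  refine ⟨k, hR₀ ⟨mem_res_of_coprime (pow_mem hdL _) hk, pow_mem hdL _, pow_mem hdC _⟩⟩

theorem redOn_inf_of_subnormal {V L : Subgroup G} (hV : IsPReducedNormal p V) (hL : L.IsSubnormal) :
    RedOn p (V ⊓ L) L := by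
  have hRed := redOn_of_isSubnormal hV hL
  have h3 := inf_centralizer_inf_le hV hL
  intro D hDL hLD hD
  have h1 : D ≤ Subgroup.centralizer (V : Set G) := by
    apply hRed D hDL hLD
    intro d hd
    obtain ⟨k, hk⟩ := hD d hd
    exact ⟨k, h3 ⟨pow_mem (hDL hd) _, hk⟩⟩
  exact h1.trans (Subgroup.centralizer_le inf_le_left)

end Cfsg.Agent.H12
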